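/-
The completion of a finite algebra at a prime, and its formal fibres.
-/
import Mathlib
import Groth.Agent.Cohen.Completion
import Groth.Agent.FlatDepth.RegHom
import Groth.Agent.AdicLim.Noetherian

set_option autoImplicit false
set_option linter.style.haveILetI false
universe u

open IsLocalRing TensorProduct

namespace Groth.Agent.GRingCpl

/-- In a local ring of a finite algebra the extended prime below is primary for the maximal ideal. -/
theorem exists_pow_le_map {A B Bn : Type u} [CommRing A] [CommRing B] [Algebra A B] [Module.Finite A B]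
    [CommRing Bn] [IsLocalRing Bn] [IsNoetherianRing Bn] [Algebra B Bn] [Algebra A Bn] [IsScalarTower A B Bn]
    (n : Ideal B) [n.IsPrime] [IsLocalization.AtPrime Bn n] {P : Ideal A} (hn : n.comap (algebraMap A B) = P) :
    ∃ N, maximalIdeal Bn ^ N ≤ P.map (algebraMap A Bn) := by
  haveI : Algebra.IsIntegral A B := Algebra.IsIntegral.of_finite A B
  refine Ideal.exists_pow_le_of_le_radical_of_fg ?_ (IsNoetherian.noetherian _)
  rw [Ideal.radical_eq_sInf]
  refine le_sInf fun Q ⟨hQ, hQp⟩ => ?_
  haveI := hQp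
  have hle : Q.comap (algebraMap B Bn) ≤ n := fun b hb => by
    by_contra h
    exact hQp.ne_top (Ideal.eq_top_of_isUnit_mem _ hb (IsLocalization.map_units Bn (⟨b, h⟩ : n.primeCompl)))
  have hP : P ≤ (Q.comap (algebraMap B Bn)).comap (algebraMap A B) := by
    rw [Ideal.comap_comap, ← IsScalarTower.algebraMap_eq, ← Ideal.map_le_iff_le_comap]
    exact hQ
  have heq : Q.comap (algebraMap B Bn) = n := by
    refine eq_of_le_of_not_lt hle fun hlt => ?_
    have h := Ideal.IsIntegral.comap_lt_comap (R := A) hlt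
    exact absurd (hn ▸ hP) (not_le_of_gt h)
  intro y hy
  obtain ⟨b, t, rfl⟩ := IsLocalization.exists_mk'_eq n.primeCompl y
  rw [IsLocalization.AtPrime.mk'_mem_maximal_iff Bn n b t, ← heq, Ideal.mem_comap] at hy
  rw [IsLocalization.mk'_eq_mul_mk'_one]
  exact Ideal.mul_mem_right _ _ hy

/-- Elements invertible modulo an ideal over the maximal ideal of the base have inverses in the image. -/
theorem exists_inverse_mod {R T S : Type u} [CommRing R] (m : Ideal R) [m.IsMaximal] [CommRing T] [Algebra R T]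
    [Module.Finite R T] [CommRing S] (φ : T →+* S) (J : Ideal S) (hJ : (m.map (algebraMap R T)).map φ ≤ J)
    (t : T) (ht : IsUnit (Ideal.Quotient.mk J (φ t))) :
    ∃ w, Ideal.Quotient.mk J (φ w) * Ideal.Quotient.mk J (φ t) = 1 := by
  let I : Ideal T := m.map (algebraMap R T)
  letI : CommRing (T ⧸ I) := Ideal.Quotient.commRing I
  haveI : IsArtinianRing (T ⧸ I) := by
    letI : Field (R ⧸ m) := Ideal.Quotient.field _
    haveI : Module.Finite (R ⧸ m) (T ⧸ m.map (algebraMap R T)) :=
      Module.Finite.of_restrictScalars_finite R (R ⧸ m) _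
    exact IsArtinianRing.of_finite (R ⧸ m) (T ⧸ m.map (algebraMap R T))
  let π := (Ideal.Quotient.mk J).comp φ
  have hIK : I ≤ RingHom.ker π := fun v hv =>
    Ideal.Quotient.eq_zero_iff_mem.mpr (hJ (Ideal.mem_map_of_mem φ hv))
  haveI : IsArtinianRing (T ⧸ RingHom.ker π) := (Ideal.Quotient.factor_surjective hIK).isArtinianRing
  let g := RingHom.kerLift π
  have hg : Function.Injective g := RingHom.kerLift_injective _
  have hτu : IsUnit (g (Ideal.Quotient.mk _ t)) := ht
  obtain ⟨w, hw⟩ := (IsArtinianRing.isUnit_of_mem_nonZeroDivisors (a := Ideal.Quotient.mk (RingHom.ker π) t)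
    (mem_nonZeroDivisors_iff_right.mpr fun y hy => hg (by
      rw [map_zero]; exact hτu.mul_left_eq_zero.mp (by rw [← map_mul, hy, map_zero])))).exists_left_inv
  obtain ⟨w1, rfl⟩ := Ideal.Quotient.mk_surjective w
  refine ⟨w1, ?_⟩
  have h := congrArg g hw
  rw [map_mul, map_one] at h
  exact h

/-- Krull intersection, elementwise. -/
theorem eq_zero_of_forall_mem_pow {R : Type u} [CommRing R] [IsLocalRing R] [IsNoetherianRing R] (I : Ideal R)
    (hI : I ≤ maximalIdeal R) (x : R) (hx : ∀ k, x ∈ I ^ k) : x = 0 := by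
  have h : x ∈ ⨅ k, I ^ k := Ideal.mem_iInf.mpr hx
  rwa [Ideal.iInf_pow_eq_bot_of_isLocalRing _ fun h => (maximalIdeal.isMaximal R).ne_top (top_le_iff.mp (h ▸ hI)),
    Ideal.mem_bot] at h

/-- Krull intersection at a prime, without leaving the ring. -/
theorem exists_kill_of_forall_pow {T : Type u} [CommRing T] [IsNoetherianRing T] (M : Ideal T) [M.IsPrime]
    (J : Ideal T) (hJ : J ≤ M) (x : T) (hx : ∀ k, ∃ w ∉ M, w * x ∈ J ^ k) : ∃ y ∉ M, y * x = 0 := by
  haveI : IsNoetherianRing (Localization.AtPrime M) := IsLocalization.isNoetherianRing M.primeCompl _ inferInstance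
  have h0 : algebraMap T (Localization.AtPrime M) x = 0 := by
    refine eq_zero_of_forall_mem_pow (J.map (algebraMap T (Localization.AtPrime M))) ?_ _ fun k => ?_
    · rw [← Localization.AtPrime.map_eq_maximalIdeal]
      exact Ideal.map_mono hJ
    · obtain ⟨w, hw, hwx⟩ := hx k
      rw [← Ideal.map_pow]
      refine (Ideal.unit_mul_mem_iff_mem _ (IsLocalization.map_units (Localization.AtPrime M) (⟨w, hw⟩ : M.primeCompl))).mp ?_
      rw [← map_mul]
      exact Ideal.mem_map_of_mem _ hwx
  obtain ⟨⟨y, hy⟩, hyx⟩ := (IsLocalization.map_eq_zero_iff M.primeCompl _ x).mp h0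
  exact ⟨y, hy, hyx⟩

/-- The completion at a prime of a finite algebra is a local factor of the completed algebra. -/
theorem exists_proj {A : Type u} [CommRing A] [IsNoetherianRing A] (P : Ideal A) [P.IsPrime]
    (Ap : Type u) [CommRing Ap] [IsLocalRing Ap] [Algebra A Ap] [IsLocalization.AtPrime Ap P]
    {B : Type u} [CommRing B] [Algebra A B] [Module.Finite A B] (n : Ideal B) [n.IsPrime]
    (Bn : Type u) [CommRing Bn] [IsLocalRing Bn] [Algebra B Bn] [IsLocalization.AtPrime Bn n]
    (hn : n.comap (algebraMap A B) = P) :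
    ∃ φ : AdicCompletion (maximalIdeal Ap) Ap ⊗[A] B →+* AdicCompletion (maximalIdeal Bn) Bn,
      Function.Surjective φ ∧ (∀ b, φ (1 ⊗ₜ b) = algebraMap Bn _ (algebraMap B Bn b)) ∧
        ∀ x, φ x = 0 → ∃ y, IsUnit (φ y) ∧ y * x = 0 := by
  classical
  haveI : IsNoetherianRing Ap := IsLocalization.isNoetherianRing P.primeCompl Ap inferInstance
  haveI : IsNoetherianRing B := IsNoetherianRing.of_finite A B
  haveI : IsNoetherianRing Bn := IsLocalization.isNoetherianRing n.primeCompl Bn inferInstance
  let Ah := AdicCompletion (maximalIdeal Ap) Ap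
  let S := AdicCompletion (maximalIdeal Bn) Bn
  haveI : IsNoetherianRing Ah := ResExt.isNoetherianRing_adicCompletion _ (IsNoetherian.noetherian _)
  haveI : IsNoetherianRing S := ResExt.isNoetherianRing_adicCompletion _ (IsNoetherian.noetherian _)
  letI : Algebra A Bn := ((algebraMap B Bn).comp (algebraMap A B)).toAlgebra
  haveI : IsScalarTower A B Bn := IsScalarTower.of_algebraMap_eq fun _ => rfl
  have hmemn : ∀ a, algebraMap A B a ∈ n ↔ a ∈ P := fun a => by rw [← hn]; rfl
  let f : Ap →+* Bn := IsLocalization.lift (M := P.primeCompl) (g := algebraMap A Bn) fun s =>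
    IsLocalization.map_units Bn (⟨algebraMap A B s, fun h => s.2 ((hmemn s).mp h)⟩ : n.primeCompl)
  haveI : IsLocalHom f := ⟨fun y hy => by
    obtain ⟨a, s, rfl⟩ := IsLocalization.exists_mk'_eq P.primeCompl y
    rw [IsLocalization.lift_mk', IsUnit.mul_iff] at hy
    have ha : a ∉ P := fun h => (IsLocalization.AtPrime.to_map_mem_maximal_iff Bn n _).mpr ((hmemn a).mpr h)
      hy.1
    exact IsLocalization.AtPrime.isUnit_mk'_iff Ap P a s |>.mpr ha⟩
  obtain ⟨ψ, hψ⟩ := FlatDepth.exists_cpl_map f
  letI : Algebra A S := ((algebraMap Bn S).comp (algebraMap A Bn)).toAlgebra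
  let iA : Ah →ₐ[A] S :=
    { ψ with
      commutes' := fun a => by
        show ψ (algebraMap A Ah a) = algebraMap Bn S (algebraMap A Bn a)
        rw [IsScalarTower.algebraMap_apply A Ap Ah, ← RingHom.comp_apply, hψ, RingHom.comp_apply, IsLocalization.lift_eq] }
  let iB : B →ₐ[A] S := { (algebraMap Bn S).comp (algebraMap B Bn) with commutes' := fun a => rfl }
  let φA : Ah ⊗[A] B →ₐ[A] S := Algebra.TensorProduct.productMap iA iB
  let φ : Ah ⊗[A] B →+* S := φA.toRingHom
  have hφB : ∀ b, φ (1 ⊗ₜ b) = algebraMap Bn S (algebraMap B Bn b) := fun b => by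
    show φA (1 ⊗ₜ b) = _
    rw [Algebra.TensorProduct.productMap_apply_tmul, map_one, one_mul]
    rfl
  refine ⟨φ, ?_⟩
  let T := Ah ⊗[A] B
  haveI : IsNoetherianRing T := IsNoetherianRing.of_finite Ah T
  let mh := maximalIdeal Ah
  have hmh : mh = P.map (algebraMap A Ah) := by
    show maximalIdeal (AdicCompletion (maximalIdeal Ap) Ap) = _
    rw [AdicCompletion.maximalIdeal_eq_map, IsScalarTower.algebraMap_eq A Ap Ah, ← Ideal.map_map,
      IsLocalization.AtPrime.map_eq_maximalIdeal P Ap]
  -- approximation by elements of `B`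
  have happ : ∀ (k : ℕ) (x : T), ∃ (b : B) (s : A), s ∉ P ∧
      algebraMap A T s * x - (1 : Ah) ⊗ₜ[A] b ∈ (P ^ k).map (algebraMap A T) := by
    intro k x
    induction x using TensorProduct.induction_on with
    | zero => exact ⟨0, 1, fun h => Ideal.IsPrime.ne_top (I := P) inferInstance ((Ideal.eq_top_iff_one _).mpr h),
        by simp⟩
    | tmul a b =>
      obtain ⟨α, hα⟩ := Cohen.exists_sub_mem_pow a k
      obtain ⟨c, s, rfl⟩ := IsLocalization.exists_mk'_eq P.primeCompl α
      refine ⟨c • b, s, s.2, ?_⟩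
      have h1 : algebraMap A Ah s * a - algebraMap A Ah c ∈ (P ^ k).map (algebraMap A Ah) := by
        have h2 := Ideal.mul_mem_left _ (algebraMap A Ah s) hα
        rw [mul_sub, IsScalarTower.algebraMap_apply A Ap Ah s, ← map_mul, IsLocalization.mk'_spec',
          ← IsScalarTower.algebraMap_apply, ← IsScalarTower.algebraMap_apply] at h2
        rwa [show maximalIdeal Ah = P.map (algebraMap A Ah) from hmh, ← Ideal.map_pow] at h2
      have h3 : algebraMap A T s * (a ⊗ₜ[A] b) - (1 : Ah) ⊗ₜ[A] (c • b) =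
          Algebra.TensorProduct.includeLeftRingHom (algebraMap A Ah s * a - algebraMap A Ah c) * ((1 : Ah) ⊗ₜ[A] b) := by
        show algebraMap A T s * (a ⊗ₜ[A] b) - _ = ((algebraMap A Ah s * a - algebraMap A Ah c) ⊗ₜ[A] (1 : B)) * _
        rw [Algebra.TensorProduct.tmul_mul_tmul, mul_one, one_mul, TensorProduct.sub_tmul,
          Algebra.TensorProduct.algebraMap_apply, Algebra.TensorProduct.tmul_mul_tmul, one_mul,
          ← TensorProduct.smul_tmul, Algebra.smul_def, mul_one]
      rw [h3]
      refine Ideal.mul_mem_right _ _ ?_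
      have h4 := Ideal.mem_map_of_mem (Algebra.TensorProduct.includeLeftRingHom (R := A) (A := Ah) (B := B)) h1
      rwa [Ideal.map_map, show (Algebra.TensorProduct.includeLeftRingHom (R := A) (A := Ah) (B := B)).comp
        (algebraMap A Ah) = algebraMap A T from RingHom.ext fun z => rfl] at h4
    | add x y hx hy =>
      obtain ⟨b, s, hs, hb⟩ := hx
      obtain ⟨c, t, ht, hc⟩ := hy
      refine ⟨t • b + s • c, s * t, fun h => (Ideal.IsPrime.mem_or_mem inferInstance h).elim hs ht, ?_⟩
      have h : algebraMap A T (s * t) * (x + y) - (1 : Ah) ⊗ₜ[A] (t • b + s • c) =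
          algebraMap A T t * (algebraMap A T s * x - (1 : Ah) ⊗ₜ[A] b) +
            algebraMap A T s * (algebraMap A T t * y - (1 : Ah) ⊗ₜ[A] c) := by
        rw [TensorProduct.tmul_add, TensorProduct.tmul_smul, TensorProduct.tmul_smul, ← algebraMap_smul T t, ← algebraMap_smul T s,
          smul_eq_mul, smul_eq_mul, map_mul]
        ring
      rw [h]
      exact add_mem (Ideal.mul_mem_left _ _ hb) (Ideal.mul_mem_left _ _ hc)
  have hPS : ∀ k, ((P ^ k).map (algebraMap A T)).map φ = ((P ^ k).map (algebraMap A Bn)).map (algebraMap Bn S) :=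
    fun k => by
      rw [Ideal.map_map, Ideal.map_map, show φ.comp (algebraMap A T) = (algebraMap Bn S).comp (algebraMap A Bn) from
        RingHom.ext fun a => φA.commutes a]
  have hPm : P.map (algebraMap A Bn) ≤ maximalIdeal Bn := Ideal.map_le_iff_le_comap.mpr fun a ha => by
    show algebraMap B Bn (algebraMap A B a) ∈ maximalIdeal Bn
    exact (IsLocalization.AtPrime.to_map_mem_maximal_iff Bn n _).mpr ((hmemn a).mpr ha)
  have hPSm : (P.map (algebraMap A T)).map φ ≤ maximalIdeal S := by
    have h := hPS 1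
    rw [pow_one] at h
    rw [h]
    show _ ≤ maximalIdeal (AdicCompletion (maximalIdeal Bn) Bn)
    rw [AdicCompletion.maximalIdeal_eq_map]
    exact Ideal.map_mono hPm
  refine ⟨?_, hφB, ?_⟩
  · -- surjectivity
    let I : Ideal T := mh.map (algebraMap Ah T)
    have hI : I = P.map (algebraMap A T) := by
      show mh.map (algebraMap Ah T) = _
      rw [hmh, Ideal.map_map, ← IsScalarTower.algebraMap_eq]
    haveI : IsAdicComplete mh Ah := inferInstanceAs (IsAdicComplete (maximalIdeal (AdicCompletion (maximalIdeal Ap) Ap)) (AdicCompletion (maximalIdeal Ap) Ap))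
    haveI : IsAdicComplete mh T := AdicLim.isAdicComplete_of_finite mh T
    haveI : IsAdicComplete I T := (IsAdicComplete.map_algebraMap_iff _ _).2 inferInstance
    haveI : IsHausdorff (I.map φ) S := IsHausdorff.of_isLocalRing (I.map φ) S fun h => by
      rw [hI] at h
      exact (maximalIdeal.isMaximal S).ne_top (top_le_iff.mp (h.symm.le.trans hPSm))
    refine surjective_of_mk_map_comp_surjective (I := I) φ fun z => ?_
    obtain ⟨z, rfl⟩ := Ideal.Quotient.mk_surjective z
    obtain ⟨N, hN⟩ := exists_pow_le_map (Bn := Bn) n hn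
    obtain ⟨α, hα⟩ := Cohen.exists_sub_mem_pow z N
    obtain ⟨b, t, rfl⟩ := IsLocalization.exists_mk'_eq n.primeCompl α
    let π := Ideal.Quotient.mk (I.map φ)
    have hNS : maximalIdeal S ^ N ≤ I.map φ := by
      have h := hPS 1
      rw [pow_one] at h
      rw [hI, h]
      show maximalIdeal (AdicCompletion (maximalIdeal Bn) Bn) ^ N ≤ _
      rw [AdicCompletion.maximalIdeal_eq_map, ← Ideal.map_pow]
      exact Ideal.map_mono hN
    have hz : π z = π (algebraMap Bn S (IsLocalization.mk' Bn b t)) := Ideal.Quotient.eq.mpr (hNS hα)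
    obtain ⟨w1, hw1⟩ := exists_inverse_mod mh φ (I.map φ) le_rfl ((1 : Ah) ⊗ₜ[A] (t : B))
      (by rw [hφB]; exact ((IsLocalization.map_units Bn t).map _).map π)
    rw [hφB] at hw1
    refine ⟨w1 * ((1 : Ah) ⊗ₜ[A] b), ?_⟩
    show π (φ _) = π z
    calc π (φ (w1 * ((1 : Ah) ⊗ₜ[A] b)))
        = π (φ w1) * π (algebraMap Bn S (algebraMap B Bn t)) * π (algebraMap Bn S (IsLocalization.mk' Bn b t)) := by
          rw [mul_assoc, ← map_mul π (algebraMap Bn S _), ← map_mul (algebraMap Bn S), IsLocalization.mk'_spec', map_mul φ, hφB, map_mul π]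
      _ = π z := by rw [hw1, one_mul, hz]
  · -- the kernel
    intro x hx
    let M : Ideal T := (maximalIdeal S).comap φ
    haveI : M.IsPrime := Ideal.IsPrime.comap φ
    suffices hmem : ∀ k, ∃ w ∉ M, w * x ∈ (P.map (algebraMap A T)) ^ k by
      obtain ⟨y, hy, hyx⟩ := exists_kill_of_forall_pow M (P.map (algebraMap A T)) (Ideal.map_le_iff_le_comap.mp hPSm) x hmem
      refine ⟨y, ?_, hyx⟩
      by_contra h
      exact hy h
    intro k
    obtain ⟨b, s, hs, hb⟩ := happ k x
    have h1 : algebraMap Bn S (algebraMap B Bn b) ∈ ((P ^ k).map (algebraMap A Bn)).map (algebraMap Bn S) := by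
      rw [← hPS k, ← hφB]
      have h2 := Ideal.mem_map_of_mem φ hb
      rw [map_sub, map_mul, hx, mul_zero, zero_sub, neg_mem_iff] at h2
      exact h2
    haveI : Module.FaithfullyFlat Bn S := Module.FaithfullyFlat.of_flat_of_isLocalHom
    have h3 : algebraMap B Bn b ∈ (P ^ k).map (algebraMap A Bn) := by
      have h4 := Ideal.comap_map_eq_self_of_faithfullyFlat (B := S) ((P ^ k).map (algebraMap A Bn))
      exact h4.le (Ideal.mem_comap.mpr h1)
    rw [IsScalarTower.algebraMap_eq A B Bn, ← Ideal.map_map,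
      IsLocalization.algebraMap_mem_map_algebraMap_iff n.primeCompl Bn] at h3
    obtain ⟨u, hu, hub⟩ := h3
    let w : T := ((1 : Ah) ⊗ₜ[A] u) * algebraMap A T s
    have hwx : w * x ∈ (P ^ k).map (algebraMap A T) := by
      have h5 : ((1 : Ah) ⊗ₜ[A] u) * ((1 : Ah) ⊗ₜ[A] b) ∈ (P ^ k).map (algebraMap A T) := by
        rw [Algebra.TensorProduct.tmul_mul_tmul, one_mul]
        have h6 := Ideal.mem_map_of_mem (Algebra.TensorProduct.includeRight (R := A) (A := Ah) (B := B)).toRingHom hub
        rwa [Ideal.map_map, show (Algebra.TensorProduct.includeRight (R := A) (A := Ah) (B := B)).toRingHom.comp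
          (algebraMap A B) = algebraMap A T from RingHom.ext fun z =>
            (Algebra.TensorProduct.includeRight (R := A) (A := Ah) (B := B)).commutes z] at h6
      have h7 := add_mem (Ideal.mul_mem_left _ ((1 : Ah) ⊗ₜ[A] u) hb) h5
      rwa [← mul_add, sub_add_cancel, ← mul_assoc] at h7
    refine ⟨w, fun hw => ?_, by rwa [← Ideal.map_pow]⟩
    have hunit : IsUnit (φ w) := by
      rw [map_mul, hφB]
      refine ((IsLocalization.map_units Bn (⟨u, hu⟩ : n.primeCompl)).map _).mul ?_
      rw [show φ (algebraMap A T s) = algebraMap Bn S (algebraMap B Bn (algebraMap A B s)) from φA.commutes s]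
      exact (IsLocalization.map_units Bn (⟨algebraMap A B s, fun h => hs ((hmemn s).mp h)⟩ : n.primeCompl)).map _
    exact hw hunit

/-- Elements killed outside a prime do not change the local ring. -/
theorem exists_equiv_atPrime {T S : Type u} [CommRing T] [CommRing S] (φ : T →+* S)
    (hφ : Function.Surjective φ) (hker : ∀ x, φ x = 0 → ∃ y, IsUnit (φ y) ∧ y * x = 0) (q : Ideal S) [q.IsPrime] :
    Nonempty (Localization.AtPrime (q.comap φ) ≃+* Localization.AtPrime q) := by
  let f : Localization.AtPrime (q.comap φ) →+* Localization.AtPrime q := Localization.localRingHom (q.comap φ) q φ rfl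
  refine ⟨RingEquiv.ofBijective f ⟨(injective_iff_map_eq_zero f).mpr fun z hz => ?_,
    RingHom.surjective_localRingHom_of_surjective φ hφ q⟩⟩
  obtain ⟨a, t, rfl⟩ := IsLocalization.exists_mk'_eq (q.comap φ).primeCompl z
  have h0 : f (algebraMap T _ a) = 0 := by
    rw [← IsLocalization.mk'_spec (Localization.AtPrime (q.comap φ)) a t, map_mul, hz, zero_mul]
  rw [Localization.localRingHom_to_map, IsLocalization.map_eq_zero_iff q.primeCompl] at h0
  obtain ⟨⟨u, hu⟩, hua⟩ := h0
  obtain ⟨u0, rfl⟩ := hφ u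
  obtain ⟨y, hy, hyx⟩ := hker (u0 * a) (by rw [map_mul]; exact hua)
  rw [IsLocalization.mk'_eq_zero_iff]
  refine ⟨⟨y * u0, fun h => ?_⟩, by rw [← hyx, mul_assoc]⟩
  rcases (inferInstance : q.IsPrime).mem_or_mem (show φ y * φ u0 ∈ q by rw [← map_mul]; exact h) with h1 | h1
  · exact (inferInstance : q.IsPrime).ne_top (Ideal.eq_top_of_isUnit_mem _ h1 hy)
  · exact hu h1

end Groth.Agent.GRingCpl
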