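/-
Derivations on completions, base changes and hypersurfaces with a derivation not vanishing on the equation.
-/
import Mathlib
import Groth.Agent.Cohen.Completion
import Groth.Agent.EGA41Nagata.Cotangent

set_option autoImplicit false
set_option linter.style.haveILetI false
universe u

open IsLocalRing TensorProduct

namespace Groth.Agent.GRingCpl

attribute [local instance 2000] Ring.toIntAlgebra

/-- Derivations extend to localisations. -/
theorem exists_localization_derivation {A Ap : Type u} [CommRing A] [CommRing Ap] [Algebra A Ap] (S : Submonoid A)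
    [IsLocalization S Ap] (δ : Derivation ℤ A A) :
    ∃ D : Derivation ℤ Ap Ap, ∀ a, D (algebraMap A Ap a) = algebraMap A Ap (δ a) := by
  let g0 : A →+* TrivSqZeroExt Ap Ap :=
    { toFun := fun a => (algebraMap A Ap a, algebraMap A Ap (δ a))
      map_one' := by
        refine TrivSqZeroExt.ext ?_ ?_
        · show algebraMap A Ap 1 = 1; simp
        · show algebraMap A Ap (δ 1) = 0; simp
      map_mul' := fun a b => by
        refine TrivSqZeroExt.ext ?_ ?_
        · show algebraMap A Ap (a * b) = algebraMap A Ap a * algebraMap A Ap b; rw [map_mul]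
        · rw [TrivSqZeroExt.snd_mul, op_smul_eq_smul]
          show algebraMap A Ap (δ (a * b)) = algebraMap A Ap a * algebraMap A Ap (δ b) +
            algebraMap A Ap b * algebraMap A Ap (δ a)
          rw [Derivation.leibniz, smul_eq_mul, smul_eq_mul, map_add, map_mul, map_mul]
      map_zero' := by
        refine TrivSqZeroExt.ext ?_ ?_
        · show algebraMap A Ap 0 = 0; simp
        · show algebraMap A Ap (δ 0) = 0; simp
      map_add' := fun a b => by
        refine TrivSqZeroExt.ext ?_ ?_
        · show algebraMap A Ap (a + b) = algebraMap A Ap a + algebraMap A Ap b; rw [map_add]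
        · show algebraMap A Ap (δ (a + b)) = algebraMap A Ap (δ a) + algebraMap A Ap (δ b); rw [map_add, map_add] }
  have hu : ∀ s : S, IsUnit (g0 s) := fun s =>
    TrivSqZeroExt.isUnit_iff_isUnit_fst.mpr (IsLocalization.map_units Ap s)
  let g : Ap →+* TrivSqZeroExt Ap Ap := IsLocalization.lift hu
  have hfst : ∀ z, (g z).fst = z := fun z => by
    refine RingHom.congr_fun (IsLocalization.ringHom_ext S
      (j := ((TrivSqZeroExt.fstHom Ap Ap Ap).toRingHom).comp g) (k := RingHom.id Ap) (RingHom.ext fun a => ?_)) z
    show (g (algebraMap A Ap a)).fst = algebraMap A Ap a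
    rw [IsLocalization.lift_eq]
    rfl
  refine ⟨Derivation.mk' (AddMonoidHom.mk' (fun z => (g z).snd) fun x y => by rw [map_add, TrivSqZeroExt.snd_add]).toIntLinearMap
    fun x y => ?_, fun a => ?_⟩
  · show (g (x * y)).snd = x * (g y).snd + y * (g x).snd
    rw [map_mul, TrivSqZeroExt.snd_mul, op_smul_eq_smul, hfst, hfst, smul_eq_mul, smul_eq_mul]
  · show (g (algebraMap A Ap a)).snd = _
    rw [IsLocalization.lift_eq]
    rfl

/-- Derivations lower powers of ideals by at most one. -/
theorem derivation_mem_pow {R : Type u} [CommRing R] (D : Derivation ℤ R R) (I : Ideal R) :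
    ∀ (n : ℕ) {x : R}, x ∈ I ^ (n + 1) → D x ∈ I ^ n := by
  intro n
  induction n with
  | zero => intro x _; rw [pow_zero, Ideal.one_eq_top]; exact Submodule.mem_top
  | succ n ih =>
    intro x hx
    rw [pow_succ] at hx
    refine Submodule.mul_induction_on hx (fun a ha b hb => ?_) fun a b ha hb => by rw [map_add]; exact add_mem ha hb
    rw [Derivation.leibniz, smul_eq_mul, smul_eq_mul]
    refine add_mem (Ideal.mul_mem_right _ _ ha) ?_
    rw [pow_succ, mul_comm b (D a)]
    exact Ideal.mul_mem_mul (ih ha) hb

/-- Derivations of a Noetherian local ring extend to its completion. -/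
theorem exists_completion_derivation {A : Type u} [CommRing A] [IsLocalRing A] [IsNoetherianRing A]
    (D : Derivation ℤ A A) :
    ∃ Dh : Derivation ℤ (AdicCompletion (maximalIdeal A) A) (AdicCompletion (maximalIdeal A) A),
      ∀ a, Dh (algebraMap A _ a) = algebraMap A _ (D a) := by
  classical
  let S := AdicCompletion (maximalIdeal A) A
  let m := maximalIdeal S
  haveI : IsAdicComplete m S := inferInstanceAs (IsAdicComplete
    (maximalIdeal (AdicCompletion (maximalIdeal A) A)) (AdicCompletion (maximalIdeal A) A))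
  have hmem : ∀ {n : ℕ} {a : A}, a ∈ maximalIdeal A ^ n → algebraMap A S a ∈ m ^ n := fun {n a} ha => by
    show _ ∈ maximalIdeal (AdicCompletion (maximalIdeal A) A) ^ n
    rw [AdicCompletion.maximalIdeal_eq_map, ← Ideal.map_pow]
    exact Ideal.mem_map_of_mem _ ha
  have key : ∀ x : S, ∃ L : S, ∀ (n : ℕ) (a : A), x - algebraMap A S a ∈ m ^ (n + 1) → L - algebraMap A S (D a) ∈ m ^ n := by
    intro x
    choose a ha using fun n => Cohen.exists_sub_mem_pow x (n + 1)
    have hc : ∀ {k n : ℕ}, k ≤ n → algebraMap A S (D (a k)) ≡ algebraMap A S (D (a n)) [SMOD (m ^ k • ⊤ : Submodule S S)] := by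
      intro k n hkn
      rw [SModEq.sub_mem, smul_eq_mul, Ideal.mul_top, ← map_sub, ← map_sub]
      refine hmem (derivation_mem_pow D _ k (Cohen.eval_mem_pow ?_))
      rw [map_sub, ← sub_sub_sub_cancel_left _ _ x]
      exact sub_mem (Ideal.pow_le_pow_right (by omega) (ha n)) (ha k)
    obtain ⟨L, hL⟩ := IsPrecomplete.prec' (I := m) (fun n => algebraMap A S (D (a n))) hc
    refine ⟨L, fun n b hb => ?_⟩
    have h1 := hL n
    rw [SModEq.sub_mem, smul_eq_mul, Ideal.mul_top] at h1
    have h2 : algebraMap A S (D (a n)) - algebraMap A S (D b) ∈ m ^ n := by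
      rw [← map_sub, ← map_sub]
      refine hmem (derivation_mem_pow D _ n (Cohen.eval_mem_pow ?_))
      rw [map_sub, ← sub_sub_sub_cancel_left _ _ x]
      exact sub_mem hb (ha n)
    rw [show L - algebraMap A S (D b) =
      -(algebraMap A S (D (a n)) - L) + (algebraMap A S (D (a n)) - algebraMap A S (D b)) by ring]
    exact add_mem (neg_mem h1) h2
  choose L hL using key
  have hh : ∀ y z : S, (∀ n, y - z ∈ m ^ n) → y = z := fun y z h => sub_eq_zero.mp
    (IsHausdorff.haus' (I := m) _ fun n => by rw [SModEq.sub_mem, sub_zero, smul_eq_mul, Ideal.mul_top]; exact h n)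
  refine ⟨Derivation.mk' (AddMonoidHom.mk' L fun x y => hh _ _ fun n => ?_).toIntLinearMap fun x y => hh _ _ fun n => ?_,
    fun a => hh _ _ fun n => hL _ n a (by rw [sub_self]; exact zero_mem _)⟩
  · obtain ⟨a, ha⟩ := Cohen.exists_sub_mem_pow x (n + 1)
    obtain ⟨b, hb⟩ := Cohen.exists_sub_mem_pow y (n + 1)
    have h1 := hL (x + y) n (a + b) (by rw [map_add, add_sub_add_comm]; exact add_mem ha hb)
    rw [map_add, map_add] at h1
    rw [show L (x + y) - (L x + L y) = (L (x + y) - (algebraMap A S (D a) + algebraMap A S (D b))) -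
      ((L x - algebraMap A S (D a)) + (L y - algebraMap A S (D b))) by ring]
    exact sub_mem h1 (add_mem (hL x n a ha) (hL y n b hb))
  · show L (x * y) - (x * L y + y * L x) ∈ m ^ n
    obtain ⟨a, ha⟩ := Cohen.exists_sub_mem_pow x (n + 1)
    obtain ⟨b, hb⟩ := Cohen.exists_sub_mem_pow y (n + 1)
    have h1 := hL (x * y) n (a * b) (by
      rw [map_mul, show x * y - algebraMap A S a * algebraMap A S b =
        x * (y - algebraMap A S b) + algebraMap A S b * (x - algebraMap A S a) by ring]
      exact add_mem (Ideal.mul_mem_left _ _ hb) (Ideal.mul_mem_left _ _ ha))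
    rw [Derivation.leibniz, smul_eq_mul, smul_eq_mul, map_add, map_mul, map_mul] at h1
    have ha' : x - algebraMap A S a ∈ m ^ n := Ideal.pow_le_pow_right (Nat.le_succ n) ha
    have hb' : y - algebraMap A S b ∈ m ^ n := Ideal.pow_le_pow_right (Nat.le_succ n) hb
    rw [show L (x * y) - (x * L y + y * L x) =
      (L (x * y) - (algebraMap A S a * algebraMap A S (D b) + algebraMap A S b * algebraMap A S (D a))) -
        ((x * (L y - algebraMap A S (D b)) + algebraMap A S (D b) * (x - algebraMap A S a)) +
          (y * (L x - algebraMap A S (D a)) + algebraMap A S (D a) * (y - algebraMap A S b))) by ring]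
    exact sub_mem h1 (add_mem (add_mem (Ideal.mul_mem_left _ _ (hL y n b hb)) (Ideal.mul_mem_left _ _ ha'))
      (add_mem (Ideal.mul_mem_left _ _ (hL x n a ha)) (Ideal.mul_mem_left _ _ hb')))

/-- Derivations of a ring extend to polynomials through the coefficients. -/
theorem exists_polynomial_derivation {R : Type u} [CommRing R] (D : Derivation ℤ R R) :
    ∃ E : Derivation ℤ (Polynomial R) (Polynomial R), (∀ r, E (Polynomial.C r) = Polynomial.C (D r)) ∧ E Polynomial.X = 0 := by
  classical
  let l0 : Polynomial R → Polynomial R := fun p => ∑ i ∈ p.support, Polynomial.monomial i (D (p.coeff i))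
  have hl0 : ∀ p k, (l0 p).coeff k = D (p.coeff k) := fun p k => by
    show (∑ i ∈ p.support, Polynomial.monomial i (D (p.coeff i))).coeff k = _
    simp only [Polynomial.finsetSum_coeff, Polynomial.coeff_monomial, Finset.sum_ite_eq', Polynomial.mem_support_iff]
    split_ifs <;> simp_all
  let l : Polynomial R →+ Polynomial R :=
    AddMonoidHom.mk' l0 fun p q => by ext k; rw [Polynomial.coeff_add, hl0, hl0, hl0, Polynomial.coeff_add, map_add]
  have hl : ∀ p k, (l p).coeff k = D (p.coeff k) := hl0
  refine ⟨Derivation.mk' l.toIntLinearMap fun p q => ?_, fun r => ?_, ?_⟩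
  · show l (p * q) = p * l q + q * l p
    ext k
    rw [mul_comm q (l p), Polynomial.coeff_add, hl, Polynomial.coeff_mul, Polynomial.coeff_mul, Polynomial.coeff_mul,
      map_sum, ← Finset.sum_add_distrib]
    refine Finset.sum_congr rfl fun x _ => ?_
    rw [Derivation.leibniz, hl, hl, smul_eq_mul, smul_eq_mul]
    ring
  · show l (Polynomial.C r) = _
    ext k
    rw [hl, Polynomial.coeff_C, Polynomial.coeff_C]
    split_ifs <;> simp
  · show l Polynomial.X = 0
    ext k
    rw [hl, Polynomial.coeff_X]
    split_ifs <;> simp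

/-- The kernel of the induced map of local rings. -/
theorem ker_localRingHom_le {P P' : Type u} [CommRing P] [CommRing P'] (φ : P →+* P') (hφ : Function.Surjective φ)
    (q : Ideal P') [q.IsPrime] :
    RingHom.ker (Localization.localRingHom (q.comap φ) q φ rfl) =
      (RingHom.ker φ).map (algebraMap P (Localization.AtPrime (q.comap φ))) := by
  let Q := q.comap φ
  let f := Localization.localRingHom Q q φ rfl
  refine le_antisymm (fun z hz => ?_) (Ideal.map_le_iff_le_comap.mpr fun b hb => ?_)
  · obtain ⟨a, t, rfl⟩ := IsLocalization.exists_mk'_eq Q.primeCompl z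
    have h0 : f (algebraMap P (Localization.AtPrime Q) a) = 0 := by
      rw [← IsLocalization.mk'_spec (Localization.AtPrime Q) a t, map_mul, RingHom.mem_ker.mp hz, zero_mul]
    rw [Localization.localRingHom_to_map, IsLocalization.map_eq_zero_iff q.primeCompl] at h0
    obtain ⟨⟨u, hu⟩, hua⟩ := h0
    obtain ⟨u0, rfl⟩ := hφ u
    have hu0 : IsUnit (algebraMap P (Localization.AtPrime Q) u0) :=
      IsLocalization.map_units _ (⟨u0, hu⟩ : Q.primeCompl)
    have h1 : algebraMap P (Localization.AtPrime Q) a ∈ (RingHom.ker φ).map (algebraMap P (Localization.AtPrime Q)) := by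
      refine (Ideal.unit_mul_mem_iff_mem _ hu0).mp ?_
      rw [← map_mul]
      exact Ideal.mem_map_of_mem _ (by rw [RingHom.mem_ker, map_mul]; exact hua)
    rw [← IsLocalization.mk'_spec (Localization.AtPrime Q) a t] at h1
    exact (Ideal.mul_unit_mem_iff_mem _ (IsLocalization.map_units _ t)).mp h1
  · show f (algebraMap P _ b) = 0
    rw [Localization.localRingHom_to_map, RingHom.mem_ker.mp hb, map_zero]

/-- A hypersurface whose equation has a unit derivative is regular. -/
theorem isRegularRing_of_derivation {P P' : Type u} [CommRing P] [IsRegularRing P] [CommRing P'] (φ : P →+* P')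
    (hφ : Function.Surjective φ) (f : P) (hker : RingHom.ker φ = Ideal.span {f}) (D : Derivation ℤ P P)
    (hD : IsUnit (φ (D f))) : IsRegularRing P' := by
  haveI : IsNoetherianRing P' := isNoetherianRing_of_surjective P P' φ hφ
  refine isRegularRing_iff.mpr fun q _ => ?_
  let Q := q.comap φ
  let R := Localization.AtPrime Q
  haveI : IsRegularLocalRing R := IsRegularRing.isRegularLocalRing_localization Q
  let g := Localization.localRingHom Q q φ rfl
  have hg : Function.Surjective g := RingHom.surjective_localRingHom_of_surjective φ hφ q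
  let x : Fin 1 → R := fun _ => algebraMap P R f
  have hspan : RingHom.ker g = Ideal.span (Set.range x) := by
    rw [ker_localRingHom_le φ hφ q, hker, Ideal.map_span, Set.image_singleton, Set.range_const]
  have hfQ : f ∈ Q := by
    show φ f ∈ q
    rw [show φ f = 0 from RingHom.mem_ker.mp (hker ▸ Ideal.mem_span_singleton_self f)]
    exact zero_mem _
  have hx : ∀ i, x i ∈ maximalIdeal R := fun _ => (IsLocalization.AtPrime.to_map_mem_maximal_iff R Q f).mpr hfQ
  have hDf : D f ∉ Q := fun h => (inferInstance : q.IsPrime).ne_top (Ideal.eq_top_of_isUnit_mem _ h hD)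
  haveI : IsLocalRing (R ⧸ Ideal.span (Set.range x)) :=
    ((Ideal.quotEquivOfEq hspan.symm).trans (RingHom.quotientKerEquivOfSurjective hg)).symm.isLocalRing
  haveI := EGA41Nagata.isRegularLocalRing_quotient_of_indep x hx
    ((EGA41Quot.linearIndependent_toCotangent_iff x hx).mpr fun a ha => by
      intro i
      obtain rfl : i = 0 := Subsingleton.elim i 0
      rw [Fin.sum_univ_one] at ha
      by_contra h0
      have hu : IsUnit (a 0) := by
        by_contra hn
        exact h0 ((IsLocalRing.mem_maximalIdeal _).mpr hn)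
      have h2 : algebraMap P R f ∈ (Q ^ 2).map (algebraMap P R) := by
        rw [Ideal.map_pow, Localization.AtPrime.map_eq_maximalIdeal]
        exact (Ideal.unit_mul_mem_iff_mem _ hu).mp ha
      rw [IsLocalization.algebraMap_mem_map_algebraMap_iff Q.primeCompl R] at h2
      obtain ⟨u, hu, huf⟩ := h2
      have h3 := derivation_mem_pow D Q 1 huf
      rw [pow_one, Derivation.leibniz, smul_eq_mul, smul_eq_mul, Submodule.add_mem_iff_left _ (Q.mul_mem_right _ hfQ)] at h3
      exact ((inferInstance : Q.IsPrime).mem_or_mem h3).elim hu hDf)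
  exact IsRegularLocalRing.of_ringEquiv ((Ideal.quotEquivOfEq hspan.symm).trans (RingHom.quotientKerEquivOfSurjective hg))

/-- Derivations of the coefficients extend to polynomial rings. -/
theorem exists_mvPolynomial_derivation {A : Type u} [CommRing A] {σ : Type*} (δ : Derivation ℤ A A) :
    ∃ D : Derivation ℤ (MvPolynomial σ A) (MvPolynomial σ A),
      ∀ a, D (algebraMap A (MvPolynomial σ A) a) = algebraMap A (MvPolynomial σ A) (δ a) := by
  let Q := MvPolynomial σ A
  let g0 : A →+* TrivSqZeroExt Q Q :=
    { toFun := fun a => (MvPolynomial.C a, MvPolynomial.C (δ a))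
      map_one' := by
        refine TrivSqZeroExt.ext ?_ ?_
        · show (MvPolynomial.C 1 : Q) = 1; simp
        · show (MvPolynomial.C (δ 1) : Q) = 0; simp
      map_mul' := fun a b => by
        refine TrivSqZeroExt.ext ?_ ?_
        · show (MvPolynomial.C (a * b) : Q) = MvPolynomial.C a * MvPolynomial.C b; rw [map_mul]
        · rw [TrivSqZeroExt.snd_mul, op_smul_eq_smul]
          show (MvPolynomial.C (δ (a * b)) : Q) = MvPolynomial.C a * MvPolynomial.C (δ b) +
            MvPolynomial.C b * MvPolynomial.C (δ a)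
          rw [Derivation.leibniz, smul_eq_mul, smul_eq_mul, map_add, map_mul, map_mul]
      map_zero' := by
        refine TrivSqZeroExt.ext ?_ ?_
        · show (MvPolynomial.C 0 : Q) = 0; simp
        · show (MvPolynomial.C (δ 0) : Q) = 0; simp
      map_add' := fun a b => by
        refine TrivSqZeroExt.ext ?_ ?_
        · show (MvPolynomial.C (a + b) : Q) = MvPolynomial.C a + MvPolynomial.C b; rw [map_add]
        · show (MvPolynomial.C (δ (a + b)) : Q) = MvPolynomial.C (δ a) + MvPolynomial.C (δ b); rw [map_add, map_add] }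
  let g : Q →+* TrivSqZeroExt Q Q := MvPolynomial.eval₂Hom g0 fun i => TrivSqZeroExt.inl (MvPolynomial.X i)
  have hfst : ∀ z, (g z).fst = z := fun z => by
    refine RingHom.congr_fun (MvPolynomial.ringHom_ext (f := ((TrivSqZeroExt.fstHom Q Q Q).toRingHom).comp g)
      (g := RingHom.id Q) (fun a => ?_) fun i => ?_) z
    · show (g (MvPolynomial.C a)).fst = MvPolynomial.C a
      rw [MvPolynomial.eval₂Hom_C]
      rfl
    · show (g (MvPolynomial.X i)).fst = MvPolynomial.X i
      rw [MvPolynomial.eval₂Hom_X', TrivSqZeroExt.fst_inl]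
  refine ⟨Derivation.mk' (AddMonoidHom.mk' (fun z => (g z).snd) fun x y => by
      rw [map_add, TrivSqZeroExt.snd_add]).toIntLinearMap fun x y => ?_, fun a => ?_⟩
  · show (g (x * y)).snd = x * (g y).snd + y * (g x).snd
    rw [map_mul, TrivSqZeroExt.snd_mul, op_smul_eq_smul, hfst, hfst, smul_eq_mul, smul_eq_mul]
  · show (g (MvPolynomial.C a)).snd = _
    rw [MvPolynomial.eval₂Hom_C]
    rfl

/-- A quotient by equations with an invertible dual system of derivations is regular. -/
theorem isRegularRing_of_derivations {P P' : Type u} [CommRing P] [IsRegularRing P] [CommRing P'] (φ : P →+* P')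
    (hφ : Function.Surjective φ) {n : ℕ} (f : Fin n → P) (hker : RingHom.ker φ = Ideal.span (Set.range f))
    (D : Fin n → Derivation ℤ P P) (hD : ∀ i j, D i (f j) = if j = i then 1 else 0) : IsRegularRing P' := by
  haveI : IsNoetherianRing P' := isNoetherianRing_of_surjective P P' φ hφ
  refine isRegularRing_iff.mpr fun q _ => ?_
  let Q := q.comap φ
  let R := Localization.AtPrime Q
  haveI : IsRegularLocalRing R := IsRegularRing.isRegularLocalRing_localization Q
  let g := Localization.localRingHom Q q φ rfl
  have hg : Function.Surjective g := RingHom.surjective_localRingHom_of_surjective φ hφ q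
  let x : Fin n → R := fun i => algebraMap P R (f i)
  have hspan : RingHom.ker g = Ideal.span (Set.range x) := by
    rw [ker_localRingHom_le φ hφ q, hker, Ideal.map_span, ← Set.range_comp]
    rfl
  have hfQ : ∀ i, f i ∈ Q := fun i => by
    show φ (f i) ∈ q
    rw [show φ (f i) = 0 from RingHom.mem_ker.mp (hker ▸ Ideal.subset_span ⟨i, rfl⟩)]
    exact zero_mem _
  have hx : ∀ i, x i ∈ maximalIdeal R := fun i => (IsLocalization.AtPrime.to_map_mem_maximal_iff R Q (f i)).mpr (hfQ i)
  haveI : IsLocalRing (R ⧸ Ideal.span (Set.range x)) :=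
    ((Ideal.quotEquivOfEq hspan.symm).trans (RingHom.quotientKerEquivOfSurjective hg)).symm.isLocalRing
  choose Dp hDp using fun i => exists_localization_derivation (Ap := R) Q.primeCompl (D i)
  haveI := EGA41Nagata.isRegularLocalRing_quotient_of_indep x hx
    ((EGA41Quot.linearIndependent_toCotangent_iff x hx).mpr fun a ha i => by
      have h3 := derivation_mem_pow (Dp i) (maximalIdeal R) 1 ha
      rw [pow_one, map_sum] at h3
      have h4 : ∀ j, Dp i (a j * x j) = (if j = i then a j else 0) + x j * Dp i (a j) := fun j => by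
        rw [Derivation.leibniz, smul_eq_mul, smul_eq_mul, hDp, hD]
        split_ifs <;> simp
      rw [Finset.sum_congr rfl fun j _ => h4 j, Finset.sum_add_distrib, Finset.sum_ite_eq', if_pos (Finset.mem_univ i),
        Submodule.add_mem_iff_left _ (Submodule.sum_mem _ fun j _ => Ideal.mul_mem_right _ _ (hx j))] at h3
      exact h3)
  exact IsRegularLocalRing.of_ringEquiv ((Ideal.quotEquivOfEq hspan.symm).trans (RingHom.quotientKerEquivOfSurjective hg))

/-- A derivation of the second factor extends to a tensor product when its restriction to the base does so on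
the first factor. -/
theorem exists_tensor_derivation {A Ah L : Type u} [CommRing A] [CommRing Ah] [CommRing L] [Algebra A Ah]
    [Algebra A L] (δ : Derivation ℤ L L) {ι : Type*} [Fintype ι] (c : ι → L) (δA : ι → Derivation ℤ A A)
    (δh : ι → Derivation ℤ Ah Ah) (hh : ∀ i a, δh i (algebraMap A Ah a) = algebraMap A Ah (δA i a))
    (hδ : ∀ a, δ (algebraMap A L a) = ∑ i, c i * algebraMap A L (δA i a)) :
    ∃ Δ : Derivation ℤ (Ah ⊗[A] L) (Ah ⊗[A] L), ∀ x l, Δ (x ⊗ₜ l) = x ⊗ₜ δ l + ∑ i, δh i x ⊗ₜ (c i * l) := by
  classical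
  let F : Ah →+ L →+ Ah ⊗[A] L :=
    AddMonoidHom.mk' (fun x => AddMonoidHom.mk' (fun l => x ⊗ₜ[A] δ l + ∑ i, δh i x ⊗ₜ[A] (c i * l)) fun l l' => by
      simp only [map_add, mul_add, TensorProduct.tmul_add, Finset.sum_add_distrib]; abel)
      fun x x' => by
        ext l
        simp only [AddMonoidHom.mk'_apply, AddMonoidHom.add_apply, map_add, TensorProduct.add_tmul,
          Finset.sum_add_distrib]
        abel
  have hF : ∀ (r : A) (x : Ah) (l : L), F (r • x) l = F x (r • l) := by
    intro r x l
    show (r • x) ⊗ₜ[A] δ l + ∑ i, δh i (r • x) ⊗ₜ[A] (c i * l) = x ⊗ₜ[A] δ (r • l) + ∑ i, δh i x ⊗ₜ[A] (c i * (r • l))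
    have e1 : ∀ i, δh i (r • x) = r • δh i x + δA i r • x := fun i => by
      rw [Algebra.smul_def, Derivation.leibniz, hh, smul_eq_mul, smul_eq_mul, Algebra.smul_def, Algebra.smul_def,
        mul_comm x]
    have e2 : δ (r • l) = r • δ l + ∑ i, δA i r • (c i * l) := by
      rw [Algebra.smul_def, Derivation.leibniz, hδ, smul_eq_mul, smul_eq_mul, Finset.mul_sum, Algebra.smul_def]
      exact congrArg _ (Finset.sum_congr rfl fun i _ => by rw [Algebra.smul_def]; ring)
    simp only [e1, e2, TensorProduct.add_tmul, Finset.sum_add_distrib, TensorProduct.tmul_add, TensorProduct.tmul_sum,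
      mul_smul_comm, TensorProduct.smul_tmul]
    abel
  let Φ : Ah ⊗[A] L →+ Ah ⊗[A] L := TensorProduct.liftAddHom F hF
  have hΦ : ∀ x l, Φ (x ⊗ₜ l) = x ⊗ₜ[A] δ l + ∑ i, δh i x ⊗ₜ[A] (c i * l) := fun x l => rfl
  refine ⟨Derivation.mk' Φ.toIntLinearMap fun a b => ?_, fun x l => hΦ x l⟩
  show Φ (a * b) = a * Φ b + b * Φ a
  induction a using TensorProduct.induction_on with
  | zero => simp
  | add a a' ha ha' => rw [add_mul, map_add, ha, ha', map_add]; ring
  | tmul x l =>
    induction b using TensorProduct.induction_on with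
    | zero => simp
    | add b b' hb hb' => rw [mul_add, map_add, hb, hb', map_add]; ring
    | tmul y m =>
      rw [Algebra.TensorProduct.tmul_mul_tmul, hΦ, hΦ, hΦ, mul_add, mul_add, Finset.mul_sum, Finset.mul_sum,
        Derivation.leibniz, smul_eq_mul, smul_eq_mul, TensorProduct.tmul_add]
      have h : ∀ i, δh i (x * y) ⊗ₜ[A] (c i * (l * m)) =
          (x ⊗ₜ[A] l) * (δh i y ⊗ₜ[A] (c i * m)) + (y ⊗ₜ[A] m) * (δh i x ⊗ₜ[A] (c i * l)) := fun i => by
        rw [Derivation.leibniz, smul_eq_mul, smul_eq_mul, TensorProduct.add_tmul, Algebra.TensorProduct.tmul_mul_tmul,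
          Algebra.TensorProduct.tmul_mul_tmul, mul_left_comm l (c i) m, mul_left_comm m (c i) l, mul_comm m l]
      rw [Finset.sum_congr rfl fun i _ => h i, Finset.sum_add_distrib, Algebra.TensorProduct.tmul_mul_tmul,
        Algebra.TensorProduct.tmul_mul_tmul, mul_comm y x]
      abel

end Groth.Agent.GRingCpl
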