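/-
Purely inseparable base changes of completed localisations of regular rings with small subrings.
-/
import Mathlib
import Groth.Agent.GRingCpl.Deriv
import Groth.Agent.EGA41SymGr.Separate
import Groth.Agent.RegTrans.Basic

set_option autoImplicit false
set_option linter.style.haveILetI false
universe u v

open IsLocalRing TensorProduct

namespace Groth.Agent.GRingCpl

attribute [local instance 2000] Ring.toIntAlgebra


/-- The hypothesis on a ring of characteristic `p`: small subrings separating non-`p`-th powers. -/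
structure Separates (p : ℕ) (A K : Type u) [CommRing A] [CommRing K] [Algebra A K] (ι : Type v)
    (S : ι → Subring A) : Prop where
  dir : ∀ i j, ∃ l, S l ≤ S i ⊓ S j
  fin : ∀ i, ∃ t : Finset A, Submodule.span (S i) (t : Set A) = ⊤
  pow : ∀ i a, a ^ p ∈ S i
  inf : ∀ x : K, (∀ i, ∃ u ∈ S i, ∃ v ∈ S i, algebraMap A K v ≠ 0 ∧ x * algebraMap A K v = algebraMap A K u) →
    ∃ y, x = y ^ p

variable {p : ℕ} [Fact p.Prime] {A K : Type u} [CommRing A] [IsDomain A] [Field K] [Algebra A K] [IsFractionRing A K]
  {ι : Type v} [Nonempty ι] {S : ι → Subring A}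

/-- Non-`p`-th powers in a finite extension are seen by derivations bounded on the ring. -/
theorem exists_derivation (hS : Separates p A K ι S) {L : Type u} [Field L] [Algebra K L] [Algebra A L]
    [IsScalarTower A K L] [FiniteDimensional K L] [CharP K p] (a : L) (ha : ∀ b : L, b ^ p ≠ a) :
    ∃ (δ : Derivation ℤ L L) (J : Type) (_ : Fintype J) (c : J → L) (δA : J → Derivation ℤ A A),
      (∀ r, δ (algebraMap A L r) = ∑ j, c j * algebraMap A L (δA j r)) ∧ δ a ≠ 0 := by
  classical
  have hp : p.Prime := Fact.out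
  haveI : CharP L p := charP_of_injective_algebraMap (algebraMap K L).injective p
  let J := Fin (Module.finrank K L)
  let b : Module.Basis J K L := Module.finBasis K L
  let w : J → L := fun j => b j ^ p
  -- the fractions of the small rings
  let Kset : ι → Subfield K := fun i =>
    { carrier := {x | ∃ u ∈ S i, ∃ v ∈ S i, algebraMap A K v ≠ 0 ∧ x * algebraMap A K v = algebraMap A K u}
      mul_mem' := by
        rintro x y ⟨u, hu, v, hv, hv0, hx⟩ ⟨u', hu', v', hv', hv0', hy⟩
        refine ⟨u * u', mul_mem hu hu', v * v', mul_mem hv hv', by rw [map_mul]; exact mul_ne_zero hv0 hv0', ?_⟩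
        rw [map_mul, map_mul, ← hx, ← hy]; ring
      one_mem' := ⟨1, one_mem _, 1, one_mem _, by simp, by simp⟩
      add_mem' := by
        rintro x y ⟨u, hu, v, hv, hv0, hx⟩ ⟨u', hu', v', hv', hv0', hy⟩
        refine ⟨u * v' + u' * v, add_mem (mul_mem hu hv') (mul_mem hu' hv), v * v', mul_mem hv hv',
          by rw [map_mul]; exact mul_ne_zero hv0 hv0', ?_⟩
        rw [map_mul, map_add, map_mul, map_mul, ← hx, ← hy]; ring
      zero_mem' := ⟨0, zero_mem _, 1, one_mem _, by simp, by simp⟩
      neg_mem' := by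
        rintro x ⟨u, hu, v, hv, hv0, hx⟩
        exact ⟨-u, neg_mem hu, v, hv, hv0, by rw [map_neg, ← hx]; ring⟩
      inv_mem' := by
        rintro x ⟨u, hu, v, hv, hv0, hx⟩
        by_cases h0 : x = 0
        · exact ⟨0, zero_mem _, 1, one_mem _, by simp, by simp [h0]⟩
        · refine ⟨v, hv, u, hu, by rw [← hx]; exact mul_ne_zero h0 hv0, ?_⟩
          rw [← hx, ← mul_assoc, inv_mul_cancel₀ h0, one_mul] }
  have hKle : ∀ {i l}, S l ≤ S i → Kset l ≤ Kset i := fun {i l} h x ⟨u, hu, v, hv, hv0, hx⟩ =>
    ⟨u, h hu, v, h hv, hv0, hx⟩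
  have hKpow : ∀ i (x : K), x ^ p ∈ Kset i := fun i x => by
    obtain ⟨u, v, hv, rfl⟩ := IsFractionRing.div_surjective (A := A) x
    have hv0 : algebraMap A K v ≠ 0 := IsFractionRing.to_map_ne_zero_of_mem_nonZeroDivisors hv
    refine ⟨u ^ p, hS.pow i u, v ^ p, hS.pow i v, by rw [map_pow]; exact pow_ne_zero _ hv0, ?_⟩
    rw [map_pow, map_pow, ← mul_pow, div_mul_cancel₀ _ hv0]
  have hpowspan : ∀ (i : ι) (y : L), y ^ p ∈ Submodule.span (Kset i) (Set.range w) := fun i y => by
    rw [← b.sum_repr y, sum_pow_char]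
    refine sum_mem fun j _ => ?_
    rw [Algebra.smul_def, mul_pow, ← map_pow]
    have : algebraMap K L (b.repr y j ^ p) * b j ^ p = (⟨b.repr y j ^ p, hKpow i _⟩ : Kset i) • w j := by
      rw [Algebra.smul_def]; rfl
    rw [this]
    exact Submodule.smul_mem _ _ (Submodule.subset_span ⟨j, rfl⟩)
  -- the element avoids one of the spans
  obtain ⟨i, hi⟩ : ∃ i, a ∉ Submodule.span (Kset i) (Set.range w) := by
    by_contra hall
    push Not at hall
    let Pn : ℕ → Prop := fun n => ∃ (i : ι) (t : Finset J), LinearIndependent (Kset i) (fun j : t => w j) ∧ t.card = n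
    let n0 := Nat.findGreatest Pn (Fintype.card J)
    obtain ⟨i0, t, ht, htn⟩ : Pn n0 := Nat.findGreatest_spec (P := Pn) (m := 0) (Nat.zero_le _)
      ⟨Classical.arbitrary ι, ∅, linearIndependent_empty_type, rfl⟩
    have hmono : ∀ {l}, S l ≤ S i0 → LinearIndependent (Kset l) (fun j : t => w j) := fun {l} hl => by
      rw [Fintype.linearIndependent_iff] at ht ⊢
      intro g hg j
      have := ht (fun j => ⟨(g j).1, hKle hl (g j).2⟩) hg j
      exact Subtype.ext (congrArg Subtype.val this :)
    have hspan : ∀ {l}, S l ≤ S i0 → Submodule.span (Kset l) (Set.range w) ≤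
        Submodule.span (Kset l) (Set.range fun j : t => w j) := fun {l} hl => by
      refine Submodule.span_le.mpr ?_
      rintro _ ⟨j, rfl⟩
      by_contra hj
      have hjt : j ∉ t := fun h => hj (Submodule.subset_span ⟨⟨j, h⟩, rfl⟩)
      have h1 : LinearIndependent (Kset l) (fun j' : (insert j t : Finset J) => w j') := by
        have h2 : LinearIndepOn (Kset l) w (insert j (t : Set J)) :=
          (linearIndepOn_insert (by exact_mod_cast hjt)).mpr ⟨hmono hl, by
            rwa [SetLike.mem_coe, show Set.range (fun j : t => w j) = w '' (t : Set J) by ext; simp] at hj⟩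
        rw [← Finset.coe_insert] at h2
        exact h2
      have h3 := Nat.le_findGreatest (P := Pn) (Finset.card_le_univ (insert j t)) ⟨l, insert j t, h1, rfl⟩
      rw [Finset.card_insert_of_notMem hjt] at h3
      omega
    obtain ⟨c, hc⟩ := (Submodule.mem_span_range_iff_exists_fun _).mp (hspan le_rfl (hall i0))
    have hcmem : ∀ j i, (c j : K) ∈ Kset i := fun j i => by
      obtain ⟨l, hl⟩ := hS.dir i i0
      have hl1 : S l ≤ S i := hl.trans inf_le_left
      have hl2 : S l ≤ S i0 := hl.trans inf_le_right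
      obtain ⟨c', hc'⟩ := (Submodule.mem_span_range_iff_exists_fun _).mp (hspan hl2 (hall l))
      have h := Fintype.linearIndependent_iff.mp ht (fun j => c j - ⟨(c' j).1, hKle hl2 (c' j).2⟩) (by
        simp only [sub_smul, Finset.sum_sub_distrib]
        rw [hc, show ∑ j : t, (⟨(c' j).1, hKle hl2 (c' j).2⟩ : Kset i0) • w j = ∑ j : t, c' j • w j from rfl, hc',
          sub_self]) j
      rw [sub_eq_zero] at h
      rw [h]
      exact hKle hl1 (c' j).2
    choose y hy using fun j => hS.inf (c j : K) fun i => hcmem j i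
    refine ha (∑ j : t, algebraMap K L (y j) * b j) ?_
    rw [sum_pow_char, ← hc]
    refine Finset.sum_congr rfl fun j _ => ?_
    rw [mul_pow, ← map_pow, ← hy, Algebra.smul_def]
    rfl
  let E : Subfield L :=
    { carrier := {x | x ∈ Submodule.span (Kset i) (Set.range w)}
      mul_mem' := fun {x y} (hx : x ∈ Submodule.span (Kset i) (Set.range w))
          (hy : y ∈ Submodule.span (Kset i) (Set.range w)) => show x * y ∈ Submodule.span (Kset i) (Set.range w) by
        refine Submodule.span_induction₂ (p := fun x y _ _ => x * y ∈ Submodule.span (Kset i) (Set.range w))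
          ?_ ?_ ?_ ?_ ?_ ?_ ?_ hx hy
        · rintro _ _ ⟨j, rfl⟩ ⟨k, rfl⟩
          rw [← mul_pow]
          exact hpowspan i _
        · intro y _; rw [zero_mul]; exact zero_mem _
        · intro x _; rw [mul_zero]; exact zero_mem _
        · intro x y z _ _ _ h1 h2; rw [add_mul]; exact add_mem h1 h2
        · intro x y z _ _ _ h1 h2; rw [mul_add]; exact add_mem h1 h2
        · intro r x y _ _ h; rw [smul_mul_assoc]; exact Submodule.smul_mem _ r h
        · intro r x y _ _ h; rw [mul_smul_comm]; exact Submodule.smul_mem _ r h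
      one_mem' := by simpa using hpowspan i 1
      add_mem' := fun {x y} (hx : x ∈ Submodule.span (Kset i) (Set.range w)) (hy : y ∈ Submodule.span (Kset i) (Set.range w)) =>
        show x + y ∈ Submodule.span (Kset i) (Set.range w) from add_mem hx hy
      zero_mem' := zero_mem (Submodule.span (Kset i) (Set.range w))
      neg_mem' := fun {x} (hx : x ∈ Submodule.span (Kset i) (Set.range w)) =>
        show -x ∈ Submodule.span (Kset i) (Set.range w) from neg_mem hx
      inv_mem' := fun x (hx : x ∈ Submodule.span (Kset i) (Set.range w)) => by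
        show x⁻¹ ∈ Submodule.span (Kset i) (Set.range w)
        by_cases h0 : x = 0
        · simp [h0]
        have hmulspan : ∀ u ∈ Submodule.span (Kset i) (Set.range w), ∀ v ∈ Submodule.span (Kset i) (Set.range w),
            u * v ∈ Submodule.span (Kset i) (Set.range w) := fun u hu v hv => by
          induction hu using Submodule.span_induction with
          | mem z hz =>
            obtain ⟨j, rfl⟩ := hz
            induction hv using Submodule.span_induction with
            | mem z' hz' => obtain ⟨k, rfl⟩ := hz'; rw [← mul_pow]; exact hpowspan i _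
            | zero => rw [mul_zero]; exact zero_mem _
            | add z1 z2 _ _ h1 h2 => rw [mul_add]; exact add_mem h1 h2
            | smul r z1 _ h1 => rw [mul_smul_comm]; exact Submodule.smul_mem _ r h1
          | zero => rw [zero_mul]; exact zero_mem _
          | add z1 z2 _ _ h1 h2 => rw [add_mul]; exact add_mem h1 h2
          | smul r z1 _ h1 => rw [smul_mul_assoc]; exact Submodule.smul_mem _ r h1
        have hpw : ∀ n : ℕ, x ^ n ∈ Submodule.span (Kset i) (Set.range w) := fun n => by
          induction n with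
          | zero => simpa using hpowspan i 1
          | succ n ih => rw [pow_succ]; exact hmulspan _ ih _ hx
        have he : x⁻¹ = x ^ (p - 1) * (x⁻¹) ^ p := by
          obtain ⟨m, rfl⟩ : ∃ m, p = m + 1 := ⟨p - 1, by have := hp.pos; omega⟩
          rw [Nat.add_sub_cancel, pow_succ, ← mul_assoc, ← mul_pow, mul_inv_cancel₀ h0, one_pow, one_mul]
        rw [he]
        exact hmulspan _ (hpw _) _ (hpowspan i _) }
  obtain ⟨M, hEM, haM, hmax⟩ := EGA41SymGr.Separate.exists_maximal_not_mem E (x := a) hi
  have hD := EGA41SymGr.Separate.D_ne_zero p (fun y => hEM (hpowspan i y)) haM hmax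
  obtain ⟨φ, hφ⟩ : ∃ φ : Module.Dual L (Ω[L⁄M]), φ (KaehlerDifferential.D M L a) ≠ 0 := by
    by_contra h
    push Not at h
    exact hD ((Module.forall_dual_apply_eq_zero_iff L _).mp h)
  let δ : Derivation ℤ L L := (φ.compDer (KaehlerDifferential.D M L)).restrictScalars ℤ
  have hδS : ∀ s ∈ S i, δ (algebraMap A L s) = 0 := fun s hs => by
    have h1 : algebraMap A L s ∈ E := by
      have h2 : (1 : L) ∈ Submodule.span (Kset i) (Set.range w) := by simpa using hpowspan i 1
      show algebraMap A L s ∈ Submodule.span (Kset i) (Set.range w)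
      rw [IsScalarTower.algebraMap_apply A K L, ← mul_one (algebraMap K L (algebraMap A K s)),
        show algebraMap K L (algebraMap A K s) * 1 =
          (⟨algebraMap A K s, s, hs, 1, one_mem _, by simp, by simp⟩ : Kset i) • (1 : L) by rw [Algebra.smul_def]; rfl]
      exact Submodule.smul_mem _ _ h2
    show φ (KaehlerDifferential.D M L (algebraMap A L s)) = 0
    rw [show KaehlerDifferential.D M L (algebraMap A L s) = 0 from
      (KaehlerDifferential.D M L).map_algebraMap ⟨_, hEM h1⟩, map_zero]
  obtain ⟨g, hg⟩ := hS.fin i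
  obtain ⟨d, hd⟩ := IsLocalization.exist_integer_multiples (nonZeroDivisors A)
    ((Finset.univ : Finset (J × g))) (fun x => b.repr (δ (algebraMap A L x.2)) x.1)
  have hd0 : algebraMap A K d.1 ≠ 0 := IsFractionRing.to_map_ne_zero_of_mem_nonZeroDivisors d.2
  have hbs : ∀ (r : A) (z : L) (j : J), b.repr (algebraMap A L r * z) j = algebraMap A K r * b.repr z j := fun r z j => by
    rw [IsScalarTower.algebraMap_apply A K L r, ← Algebra.smul_def, map_smul, Finsupp.smul_apply, smul_eq_mul]
  have hex : ∀ (j : J) (r : A), ∃ r' : A, algebraMap A K r' = algebraMap A K d.1 * b.repr (δ (algebraMap A L r)) j := by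
    intro j r
    have hr : r ∈ Submodule.span (S i) (g : Set A) := hg ▸ Submodule.mem_top
    induction hr using Submodule.span_induction with
    | mem z hz =>
      obtain ⟨r', hr'⟩ := hd (j, ⟨z, hz⟩) (Finset.mem_univ _)
      exact ⟨r', by rw [hr', Algebra.smul_def]⟩
    | zero => exact ⟨0, by simp⟩
    | add x y _ _ hx hy =>
      obtain ⟨x', hx'⟩ := hx
      obtain ⟨y', hy'⟩ := hy
      exact ⟨x' + y', by rw [map_add, hx', hy', map_add, map_add, map_add, Finsupp.add_apply, mul_add]⟩
    | smul s x _ hx =>
      obtain ⟨x', hx'⟩ := hx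
      refine ⟨s * x', ?_⟩
      rw [map_mul, hx', show s • x = (s : A) * x from rfl, map_mul, Derivation.leibniz, hδS _ s.2, smul_zero, add_zero,
        smul_eq_mul, hbs]
      ring
  choose δA hδA using hex
  have hAinj := IsFractionRing.injective A K
  refine ⟨δ, J, inferInstance, fun j => algebraMap K L (algebraMap A K d.1)⁻¹ * b j,
    fun j => Derivation.mk' (AddMonoidHom.mk' (δA j) fun x y => hAinj (by
      rw [map_add (algebraMap A K), hδA, hδA, hδA, map_add, map_add, map_add, Finsupp.add_apply, mul_add])).toIntLinearMap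
      fun x y => hAinj (by
        show algebraMap A K (δA j (x * y)) = algebraMap A K (x * δA j y + y * δA j x)
        rw [map_add, map_mul, map_mul, hδA, hδA, hδA, map_mul, Derivation.leibniz, smul_eq_mul, smul_eq_mul, map_add,
          Finsupp.add_apply, hbs, hbs]
        ring), fun r => ?_, hφ⟩
  show δ (algebraMap A L r) = ∑ j, algebraMap K L (algebraMap A K d.1)⁻¹ * b j * algebraMap A L (δA j r)
  conv_lhs => rw [← b.sum_repr (δ (algebraMap A L r))]
  refine Finset.sum_congr rfl fun j _ => ?_
  rw [IsScalarTower.algebraMap_apply A K L (δA j r), hδA, map_mul, Algebra.smul_def, map_inv₀]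
  field_simp [(map_ne_zero (algebraMap K L)).mpr hd0]

/-- Purely inseparable base changes of completed localisations stay regular. -/
theorem isRegularRing_tensor_purelyInseparable [CharP K p] {B : Type u} [CommRing B] [IsRegularRing B] [Algebra A B]
    (hext : ∀ δ : Derivation ℤ A A, ∃ D : Derivation ℤ B B, ∀ a, D (algebraMap A B a) = algebraMap A B (δ a))
    (hS : Separates p A K ι S) (P : Ideal B) [P.IsPrime] (Ap : Type u) [CommRing Ap] [IsLocalRing Ap] [Algebra B Ap]
    [IsLocalization.AtPrime Ap P] [Algebra A Ap] [IsScalarTower A B Ap] :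
    ∀ (n : ℕ) (L : Type u) [Field L] [Algebra K L] [Algebra A L] [IsScalarTower A K L] [FiniteDimensional K L]
      [IsPurelyInseparable K L], Module.finrank K L = n →
      IsRegularRing (AdicCompletion (maximalIdeal Ap) Ap ⊗[A] L) := by
  classical
  have hp : p.Prime := Fact.out
  haveI : IsRegularLocalRing Ap := IsRegularLocalRing.of_ringEquiv (R := Localization.AtPrime P)
    (IsLocalization.algEquiv P.primeCompl (Localization.AtPrime P) Ap).toRingEquiv
  haveI : IsRegularRing Ap := SerreReg.isRegularRing_of_isRegularLocalRing Ap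
  let Ah := AdicCompletion (maximalIdeal Ap) Ap
  haveI : IsRegularRing Ah := RegTrans.isRegularRing_adicCompletion Ap _
  intro n
  induction n using Nat.strong_induction_on with
  | _ n ih =>
  intro L _ _ _ _ _ _ hn
  haveI : CharP L p := charP_of_injective_algebraMap (algebraMap K L).injective p
  by_cases h1 : (⊥ : IntermediateField K L) = ⊤
  · haveI : IsLocalization (Algebra.algebraMapSubmonoid Ah (nonZeroDivisors A)) (Ah ⊗[A] K) := inferInstance
    haveI : IsRegularRing (Ah ⊗[A] K) := by
      haveI : IsNoetherianRing (Ah ⊗[A] K) :=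
        IsLocalization.isNoetherianRing (Algebra.algebraMapSubmonoid Ah (nonZeroDivisors A)) _ inferInstance
      refine isRegularRing_iff.mpr fun Q _ => ?_
      haveI := IsLocalization.isLocalization_isLocalization_atPrime_isLocalization
        (Algebra.algebraMapSubmonoid Ah (nonZeroDivisors A)) (Localization.AtPrime Q) Q
      exact IsRegularLocalRing.of_ringEquiv (R := Localization.AtPrime (Q.comap (algebraMap Ah (Ah ⊗[A] K))))
        (IsLocalization.algEquiv (Q.comap (algebraMap Ah (Ah ⊗[A] K))).primeCompl _ _).toRingEquiv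
    let e : K ≃ₐ[A] L := AlgEquiv.ofBijective (IsScalarTower.toAlgHom A K L) ⟨(algebraMap K L).injective, fun y => by
      have hy : y ∈ (⊥ : IntermediateField K L) := h1 ▸ IntermediateField.mem_top
      exact IntermediateField.mem_bot.mp hy⟩
    exact IsRegularRing.of_ringEquiv (R := Ah ⊗[A] K) (Algebra.TensorProduct.congr (AlgEquiv.refl : Ah ≃ₐ[A] Ah) e).toRingEquiv
  -- a subextension of prime codegree
  have hex : ∃ m, ∃ L' : IntermediateField K L, L' ≠ ⊤ ∧ Module.finrank L' L = m := ⟨_, ⊥, h1, rfl⟩
  obtain ⟨L', hL', hm⟩ := Nat.find_spec hex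
  obtain ⟨y, hy⟩ : ∃ y, y ∉ L' := by
    by_contra h
    push Not at h
    exact hL' (eq_top_iff.mpr fun z _ => h z)
  haveI : IsPurelyInseparable L' L := IsPurelyInseparable.tower_top K L' L
  haveI : ExpChar L' p := ExpChar.prime hp
  have hpe : ∃ e, y ^ p ^ e ∈ L' := by
    obtain ⟨e, z, hz⟩ := IsPurelyInseparable.pow_mem L' p y
    exact ⟨e, hz ▸ z.2⟩
  obtain ⟨e, he⟩ : ∃ e, Nat.find hpe = e + 1 := ⟨Nat.find hpe - 1, by
    have : Nat.find hpe ≠ 0 := fun h0 => hy (by simpa [h0] using Nat.find_spec hpe)
    omega⟩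
  let x := y ^ p ^ e
  have hx : x ∉ L' := Nat.find_min hpe (by omega)
  have hxp : x ^ p ∈ L' := by
    show (y ^ p ^ e) ^ p ∈ L'
    rw [← pow_mul, ← pow_succ, ← he]
    exact Nat.find_spec hpe
  let a : L' := ⟨x ^ p, hxp⟩
  have ha : ∀ z : L', z ^ p ≠ a := fun z hz => hx (by
    have h : (z : L) ^ p = x ^ p := congrArg Subtype.val hz
    rw [show x = (z : L) from (frobenius_inj L p h).symm]
    exact z.2)
  have htop : IntermediateField.adjoin L' {x} = ⊤ := by
    by_contra h
    have hne : (IntermediateField.adjoin L' {x}).restrictScalars K ≠ ⊤ := fun h' => h (eq_top_iff.mpr fun z _ =>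
      (IntermediateField.mem_restrictScalars K).mp (h' ▸ IntermediateField.mem_top))
    have h2 := Nat.find_le (h := hex) ⟨(IntermediateField.adjoin L' {x}).restrictScalars K, hne, rfl⟩
    have h3 : 1 < Module.finrank L' (IntermediateField.adjoin L' {x}) := by
      by_contra h4
      have h5 : IntermediateField.adjoin L' {x} = ⊥ := IntermediateField.finrank_eq_one_iff.mp
        (le_antisymm (not_lt.mp h4) Module.finrank_pos)
      have h6 : x ∈ (⊥ : IntermediateField L' L) := h5 ▸ IntermediateField.mem_adjoin_simple_self L' x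
      obtain ⟨z, hz⟩ := IntermediateField.mem_bot.mp h6
      exact hx (hz ▸ z.2)
    have h7 := Module.finrank_mul_finrank L' (IntermediateField.adjoin L' {x}) L
    have h8 : 0 < Module.finrank (IntermediateField.adjoin L' {x}) L := Module.finrank_pos
    rw [← hm] at h2
    have h9 : Module.finrank (IntermediateField.adjoin L' {x}) L < Module.finrank L' L := by
      rw [← h7]; exact lt_mul_of_one_lt_left h8 h3
    exact absurd h2 (not_le.mpr h9)
  have hint : IsIntegral L' x := IsIntegral.of_pow hp.pos (isIntegral_algebraMap (x := a))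
  have hmin : minpoly L' x = Polynomial.X ^ p - Polynomial.C a := (minpoly.eq_of_irreducible_of_monic
    (X_pow_sub_C_irreducible_of_prime hp ha) (by simp [show x ^ p = (a : L) from rfl])
    (Polynomial.monic_X_pow_sub_C a hp.ne_zero)).symm
  have hdeg : Module.finrank L' L = p := by
    rw [← IntermediateField.finrank_top', ← htop, IntermediateField.adjoin.finrank hint, hmin,
      Polynomial.natDegree_X_pow_sub_C]
  haveI : IsRegularRing (Ah ⊗[A] L') := ih _ (by
    have h7 := Module.finrank_mul_finrank K L' L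
    rw [← hn, ← h7, hdeg]
    exact lt_mul_of_one_lt_right Module.finrank_pos hp.one_lt) L' rfl
  let R := Ah ⊗[A] L'
  haveI : IsScalarTower A L' L := IsScalarTower.of_algebraMap_eq fun _ => rfl
  obtain ⟨δ, J, _, c, δA, hδ, hδa⟩ := exists_derivation hS (L := L') a ha
  choose δB hδB using fun j => hext (δA j)
  choose δp hδp using fun j => exists_localization_derivation (Ap := Ap) P.primeCompl (δB j)
  choose δh hδh using fun j => exists_completion_derivation (δp j)
  obtain ⟨Δ, hΔ⟩ := exists_tensor_derivation δ c δA δh (fun j r => by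
    rw [IsScalarTower.algebraMap_apply A Ap Ah, hδh, IsScalarTower.algebraMap_apply A B Ap, hδp, hδB,
      ← IsScalarTower.algebraMap_apply, ← IsScalarTower.algebraMap_apply]) hδ
  obtain ⟨D, hDC, hDX⟩ := exists_polynomial_derivation Δ
  let ι' : R →ₐ[A] Ah ⊗[A] L := Algebra.TensorProduct.map (AlgHom.id A Ah) (L'.val.restrictScalars A)
  let π : Polynomial R →+* Ah ⊗[A] L := Polynomial.eval₂RingHom ι'.toRingHom (1 ⊗ₜ[A] x)
  let f : Polynomial R := Polynomial.X ^ p - Polynomial.C (1 ⊗ₜ[A] a)
  have hli : LinearIndependent L' fun i : Fin p => x ^ (i : ℕ) := by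
    have h := linearIndependent_pow (K := L') x
    rw [hmin, Polynomial.natDegree_X_pow_sub_C] at h
    exact h
  haveI : Nonempty (Fin p) := ⟨⟨0, hp.pos⟩⟩
  let bx : Module.Basis (Fin p) L' L := basisOfLinearIndependentOfCardEqFinrank hli (by rw [Fintype.card_fin, hdeg])
  have hbx : ∀ i, bx i = x ^ (i : ℕ) := fun i => congrFun (coe_basisOfLinearIndependentOfCardEqFinrank _ _) i
  let Ψ : Fin p → Ah ⊗[A] L →ₗ[A] R := fun i => ((bx.coord i).restrictScalars A).lTensor Ah
  have hmul : ∀ (u : Ah) (z w : L), (u ⊗ₜ[A] z) * ((1 : Ah) ⊗ₜ[A] w) = u ⊗ₜ[A] (z * w) := fun u z w =>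
    (Algebra.TensorProduct.tmul_mul_tmul u 1 z w).trans (by rw [mul_one])
  have hπC : ∀ (r : R) (k : ℕ), π (Polynomial.C r * Polynomial.X ^ k) = ι' r * ((1 : Ah) ⊗ₜ[A] (x ^ k)) := fun r k => by
    show Polynomial.eval₂ ι'.toRingHom (1 ⊗ₜ[A] x) _ = _
    rw [Polynomial.eval₂_mul, Polynomial.eval₂_C, Polynomial.eval₂_X_pow, Algebra.TensorProduct.tmul_pow, one_pow]
    rfl
  have hΨ : ∀ (i j : Fin p) (r : R), Ψ i (ι' r * ((1 : Ah) ⊗ₜ[A] (x ^ (j : ℕ)))) = if j = i then r else 0 := by
    intro i j r
    induction r using TensorProduct.induction_on with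
    | zero => simp
    | add u v hu hv => rw [map_add, add_mul, map_add, hu, hv]; split_ifs <;> simp
    | tmul u l =>
      rw [show ι' (u ⊗ₜ[A] l) = u ⊗ₜ[A] (l : L) from rfl]
      refine (congrArg (Ψ i) (hmul u (l : L) (x ^ (j : ℕ)))).trans ?_
      show u ⊗ₜ[A] bx.coord i ((l : L) * x ^ (j : ℕ)) = _
      rw [show (l : L) * x ^ (j : ℕ) = l • bx j by rw [hbx]; rfl, map_smul, Module.Basis.coord_apply,
        Module.Basis.repr_self, Finsupp.single_apply, smul_eq_mul]
      split_ifs <;> simp
  have hsum : ∀ z, ∑ i : Fin p, ι' (Ψ i z) * ((1 : Ah) ⊗ₜ[A] (x ^ (i : ℕ))) = z := by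
    intro z
    induction z using TensorProduct.induction_on with
    | zero => simp
    | add u v hu hv => simp only [map_add, add_mul, Finset.sum_add_distrib, hu, hv]
    | tmul u l =>
      conv_rhs => rw [← bx.sum_repr l, TensorProduct.tmul_sum]
      refine Finset.sum_congr rfl fun i _ => ?_
      rw [show ι' (Ψ i (u ⊗ₜ[A] l)) = u ⊗ₜ[A] ((bx.repr l i : L') : L) from rfl]
      refine (hmul u ((bx.repr l i : L') : L) (x ^ (i : ℕ))).trans ?_
      rw [hbx]
      rfl
  have hπs : Function.Surjective π := fun z => ⟨∑ i : Fin p, Polynomial.C (Ψ i z) * Polynomial.X ^ (i : ℕ), by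
    rw [map_sum]; simp only [hπC]; exact hsum z⟩
  have hf : π f = 0 := by
    show Polynomial.eval₂ ι'.toRingHom (1 ⊗ₜ[A] x) _ = 0
    rw [Polynomial.eval₂_sub, Polynomial.eval₂_X_pow, Polynomial.eval₂_C, Algebra.TensorProduct.tmul_pow, one_pow, sub_eq_zero]
    rfl
  have hmonic : f.Monic := Polynomial.monic_X_pow_sub_C _ hp.ne_zero
  have hker : RingHom.ker π = Ideal.span {f} := by
    refine le_antisymm (fun q hq => ?_) (Ideal.span_le.mpr (Set.singleton_subset_iff.mpr hf))
    suffices hzero : q %ₘ f = 0 by
      obtain ⟨w, hw⟩ := (Polynomial.modByMonic_eq_zero_iff_dvd hmonic).mp hzero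
      exact Ideal.mem_span_singleton'.mpr ⟨w, by rw [hw]; ring⟩
    rcases subsingleton_or_nontrivial R with hR | hR
    · exact Subsingleton.elim _ _
    have hdeg : (q %ₘ f).natDegree < p := by
      have h := Polynomial.natDegree_modByMonic_lt q hmonic (fun h1 => by
        have := congrArg Polynomial.natDegree h1
        rw [Polynomial.natDegree_X_pow_sub_C, Polynomial.natDegree_one] at this
        exact hp.ne_zero this)
      rwa [Polynomial.natDegree_X_pow_sub_C] at h
    have hr : π (q %ₘ f) = 0 := by
      have h := congrArg π (Polynomial.modByMonic_add_div q f)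
      rw [map_add, map_mul, hf, zero_mul, add_zero] at h
      rw [h]
      exact hq
    ext k
    rw [Polynomial.coeff_zero]
    by_cases hk : k < p
    · rw [(q %ₘ f).as_sum_range' p hdeg, map_sum] at hr
      simp only [← Polynomial.C_mul_X_pow_eq_monomial, hπC] at hr
      have h := congrArg (Ψ ⟨k, hk⟩) hr
      rw [map_sum, map_zero, Finset.sum_range] at h
      simp only [hΨ, Finset.sum_ite_eq', Finset.mem_univ, if_true] at h
      exact h
    · exact Polynomial.coeff_eq_zero_of_natDegree_lt (by omega)
  refine isRegularRing_of_derivation π hπs f hker D ?_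
  have hDf : D f = -Polynomial.C ((1 : Ah) ⊗ₜ[A] δ a) := by
    show D (Polynomial.X ^ p - Polynomial.C _) = _
    rw [map_sub, Derivation.leibniz_pow, hDX, smul_zero, smul_zero, zero_sub, hDC, hΔ, Finset.sum_eq_zero fun i _ => by rw [Derivation.map_one_eq_zero, TensorProduct.zero_tmul], add_zero]
  rw [hDf]
  exact ((((IsUnit.mk0 _ hδa).map (Algebra.TensorProduct.includeRight (R := A) (A := Ah) (B := L'))).map Polynomial.C).neg).map π

end Groth.Agent.GRingCpl
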