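/-
Small subrings of power series rings in positive characteristic separating non-`p`-th powers.
-/
import Mathlib
import Groth.Agent.GRingCpl.Insep

set_option autoImplicit false
set_option linter.style.haveILetI false
universe u v

open TensorProduct

namespace Groth.Agent.GRingCpl

/-- A family of subfields of finite codegree containing the `p`-th powers and meeting in them. -/
theorem exists_subfield_family (p : ℕ) [Fact p.Prime] (k : Type u) [Field k] [CharP k p] :
    ∃ (ι : Type u) (_ : Nonempty ι) (F : ι → Subfield k), (∀ i j, ∃ l, F l ≤ F i ⊓ F j) ∧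
      (∀ i x, x ^ p ∈ F i) ∧ (∀ i, Module.Finite (F i) k) ∧ ∀ x, (∀ i, x ∈ F i) → ∃ y, y ^ p = x := by
  classical
  have hp : p.Prime := Fact.out
  let dK := KaehlerDifferential.D ℤ k
  obtain ⟨b, hbsub, hbspan, hbli⟩ := exists_linearIndependent k (Set.range dK)
  choose y hy using fun z : b => hbsub z.2
  let pw : Set k := Set.range fun x : k => x ^ p
  let F : Finset b → Subfield k := fun t => Subfield.closure (pw ∪ y '' {z | z ∉ t})
  have hpw : ∀ t x, x ^ p ∈ F t := fun t x => Subfield.subset_closure (Or.inl ⟨x, rfl⟩)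
  let P : Subfield k := (frobenius k p).fieldRange
  have hdP : ∀ m ∈ P, dK m = 0 := by
    rintro _ ⟨x, rfl⟩
    exact EGA41SymGr.Separate.derivation_pow_eq_zero p dK x
  have hroot : ∀ x : k, dK x = 0 → ∃ w, w ^ p = x := fun x hx => by
    by_contra h
    obtain ⟨M, hPM, hxM, hmax⟩ := EGA41SymGr.Separate.exists_maximal_not_mem P (x := x) fun ⟨w, hw⟩ => h ⟨w, hw⟩
    refine EGA41SymGr.Separate.D_ne_zero p (fun z => hPM ⟨z, rfl⟩) hxM hmax ?_
    have h2 : KaehlerDifferential.map ℤ M k k (dK x) = KaehlerDifferential.D M k x := KaehlerDifferential.map_D ℤ M k k x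
    rw [← h2, hx, map_zero]
  refine ⟨Finset b, inferInstance, F, fun i j => ⟨i ∪ j, le_inf ?_ ?_⟩, hpw, fun t => ?_, fun x hx => hroot x ?_⟩
  · exact Subfield.closure_mono (Set.union_subset_union_right _ (Set.image_mono fun z hz h => hz (Finset.mem_union_left _ h)))
  · exact Subfield.closure_mono (Set.union_subset_union_right _ (Set.image_mono fun z hz h => hz (Finset.mem_union_right _ h)))
  · let K1 := IntermediateField.adjoin (F t) (y '' (t : Set b))
    have hint : ∀ z ∈ y '' (t : Set b), IsIntegral (F t) z := fun z _ => EGA41SymGr.Separate.isIntegral' p (hpw t z)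
    haveI : FiniteDimensional (F t) K1 :=
      IntermediateField.finiteDimensional_adjoin fun z hz => hint z hz
    have htop : ∀ z : k, z ∈ K1 := fun z => by
      by_contra hz
      obtain ⟨M, hKM, hzM, hmax⟩ := EGA41SymGr.Separate.exists_maximal_not_mem K1.toSubfield (x := z) hz
      have hFM : ∀ w ∈ F t, w ∈ M := fun w hw => hKM (K1.algebraMap_mem ⟨w, hw⟩)
      have hM : ∀ z' : b, y z' ∈ M := fun z' => by
        by_cases h : z' ∈ t
        · exact hKM (IntermediateField.subset_adjoin _ _ ⟨z', h, rfl⟩)
        · exact hFM _ (Subfield.subset_closure (Or.inr ⟨z', h, rfl⟩))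
      refine EGA41SymGr.Separate.D_ne_zero p (fun w => hFM _ (hpw t w)) hzM hmax ?_
      have hω : dK z ∈ Submodule.span k b := hbspan ▸ Submodule.subset_span ⟨z, rfl⟩
      have h2 : KaehlerDifferential.map ℤ M k k (dK z) = KaehlerDifferential.D M k z := KaehlerDifferential.map_D ℤ M k k z
      rw [← h2]
      have hle : Submodule.span k b ≤ LinearMap.ker (KaehlerDifferential.map ℤ M k k) := Submodule.span_le.mpr fun w hw => by
        show KaehlerDifferential.map ℤ M k k w = 0
        have h3 : dK (y ⟨w, hw⟩) = w := hy ⟨w, hw⟩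
        rw [← h3, KaehlerDifferential.map_D]
        exact (KaehlerDifferential.D M k).map_algebraMap ⟨_, hM ⟨w, hw⟩⟩
      exact hle hω
    exact Module.Finite.of_surjective K1.val.toLinearMap fun z => ⟨⟨z, htop z⟩, rfl⟩
  · have hω : dK x ∈ Submodule.span k (Set.range fun z : b => (z : Ω[k⁄ℤ])) := by
      rw [Subtype.range_coe, hbspan]
      exact Submodule.subset_span ⟨x, rfl⟩
    obtain ⟨c, hc⟩ := (Finsupp.mem_span_range_iff_exists_finsupp).mp hω
    suffices hc0 : c = 0 by rw [← hc, hc0, Finsupp.sum_zero_index]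
    ext z
    rw [Finsupp.zero_apply]
    have hle : F {z} ≤ P ⊔ Subfield.closure (y '' {w | w ≠ z}) := by
      refine Subfield.closure_le.mpr ?_
      rintro w (⟨v, rfl⟩ | ⟨v, hv, rfl⟩)
      · exact EGA41SymGr.Separate.mem_supL ⟨v, rfl⟩
      · exact EGA41SymGr.Separate.mem_supR (Subfield.subset_closure ⟨v, by simpa using hv, rfl⟩)
    have hs := EGA41SymGr.Separate.mem_span_of_mem_closure (R := ℤ) P hdP (y '' {w | w ≠ z}) (hle (hx {z}))
    have himg : dK '' (y '' {w | w ≠ z}) = (fun w : b => (w : Ω[k⁄ℤ])) '' {w | w ≠ z} := by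
      rw [Set.image_image]; exact Set.image_congr fun w _ => hy w
    rw [himg, Finsupp.mem_span_image_iff_linearCombination] at hs
    obtain ⟨c', hc', hcc⟩ := hs
    have heq : c' = c := (linearIndependent_iff_injective_finsuppLinearCombination.mp hbli) (hcc.trans hc.symm)
    rw [← heq]
    by_contra h0
    exact (hc' (Finsupp.mem_support_iff.mpr h0) : z ≠ z) rfl

variable {σ : Type} (k : Type u) [Field k] (p : ℕ)

/-- Series with coefficients in a subfield and exponents divisible by `p`. -/
def subPS (F : Subfield k) : Subring (MvPowerSeries σ k) where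
  carrier := {f | ∀ n, MvPowerSeries.coeff n f ∈ F ∧ (MvPowerSeries.coeff n f ≠ 0 → ∀ i, p ∣ n i)}
  zero_mem' n := ⟨by simp [F.zero_mem], by simp⟩
  one_mem' n := by
    classical
    refine ⟨?_, fun h i => ?_⟩
    · rw [MvPowerSeries.coeff_one]; split_ifs
      · exact F.one_mem
      · exact F.zero_mem
    · rw [MvPowerSeries.coeff_one] at h
      obtain rfl : n = 0 := by by_contra hn; simp [hn] at h
      simp
  add_mem' {f g} hf hg n := by
    refine ⟨by rw [map_add]; exact F.add_mem (hf n).1 (hg n).1, fun h => ?_⟩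
    rw [map_add] at h
    by_cases h1 : MvPowerSeries.coeff n f = 0
    · exact (hg n).2 (by simpa [h1] using h)
    · exact (hf n).2 h1
  neg_mem' {f} hf n := ⟨by rw [map_neg]; exact F.neg_mem (hf n).1, fun h => (hf n).2 (by simpa using h)⟩
  mul_mem' {f g} hf hg n := by
    classical
    refine ⟨?_, fun h i => ?_⟩
    · rw [MvPowerSeries.coeff_mul]
      exact sum_mem fun x _ => F.mul_mem (hf x.1).1 (hg x.2).1
    · rw [MvPowerSeries.coeff_mul] at h
      obtain ⟨x, hx, hx0⟩ := Finset.exists_ne_zero_of_sum_ne_zero h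
      rw [Finset.HasAntidiagonal.mem_antidiagonal] at hx
      rw [← hx, Finsupp.add_apply]
      exact dvd_add ((hf _).2 (left_ne_zero_of_mul hx0) i) ((hg _).2 (right_ne_zero_of_mul hx0) i)

variable {k p}

/-- The small rings of power series separate non-`p`-th powers in the fraction field. -/
theorem separates_subPS [Fact p.Prime] [CharP k p] [Finite σ] {ι : Type u} [Nonempty ι] (F : ι → Subfield k)
    (hdir : ∀ i j, ∃ l, F l ≤ F i ⊓ F j) (hpow : ∀ i x, x ^ p ∈ F i) (hfin : ∀ i, Module.Finite (F i) k)
    (hinf : ∀ x, (∀ i, x ∈ F i) → ∃ y, y ^ p = x)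
    (K : Type u) [Field K] [Algebra (MvPowerSeries σ k) K] [IsFractionRing (MvPowerSeries σ k) K] :
    Separates p (MvPowerSeries σ k) K ι (fun i => subPS k p (F i)) := by
  classical
  haveI := Fintype.ofFinite σ
  have hp : p.Prime := Fact.out
  let A := MvPowerSeries σ k
  haveI : ExpChar k p := ExpChar.prime hp
  have hPow : ∀ i (a : A), a ^ p ∈ subPS k p (F i) := fun i a n => by
    rw [← MvPowerSeries.map_frobenius_expand (p := p) (hp := hp.ne_zero), MvPowerSeries.coeff_map, frobenius_def]
    refine ⟨hpow i _, fun h j => ?_⟩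
    by_contra hj
    rw [MvPowerSeries.coeff_expand_of_not_dvd p hp.ne_zero a hj, zero_pow hp.ne_zero] at h
    exact h rfl
  refine ⟨fun i j => ?_, fun i => ?_, hPow, fun x hx => ?_⟩
  · obtain ⟨l, hl⟩ := hdir i j
    exact ⟨l, fun f hf => ⟨fun n => ⟨(hl (hf n).1).1, (hf n).2⟩, fun n => ⟨(hl (hf n).1).2, (hf n).2⟩⟩⟩
  · haveI := hfin i
    let v := Module.finBasis (F i) k
    let ofBox : (σ → Fin p) → (σ →₀ ℕ) := fun e => Finsupp.equivFunOnFinite.symm fun j => (e j : ℕ)
    refine ⟨Finset.univ.image (fun q : (σ → Fin p) × Fin (Module.finrank (F i) k) =>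
      MvPowerSeries.monomial (ofBox q.1) (v q.2)), eq_top_iff.mpr fun f _ => ?_⟩
    let g : (σ → Fin p) → Fin (Module.finrank (F i) k) → A := fun e j m =>
      if ∀ i', p ∣ m i' then ((v.repr (MvPowerSeries.coeff (m + ofBox e) f) j : F i) : k) else 0
    have hgc : ∀ e j m, MvPowerSeries.coeff m (g e j) =
        if ∀ i', p ∣ m i' then ((v.repr (MvPowerSeries.coeff (m + ofBox e) f) j : F i) : k) else 0 := fun e j m => rfl
    have hg : ∀ e j, g e j ∈ subPS k p (F i) := fun e j m => by
      rw [hgc]
      split_ifs with h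
      · exact ⟨SetLike.coe_mem _, fun _ => h⟩
      · exact ⟨(F i).zero_mem, fun h0 => absurd rfl h0⟩
    have hsum : f = ∑ q : (σ → Fin p) × Fin (Module.finrank (F i) k),
        g q.1 q.2 * MvPowerSeries.monomial (ofBox q.1) (v q.2) := by
      ext n
      rw [map_sum, Fintype.sum_prod_type]
      let e0 : σ → Fin p := fun j => ⟨n j % p, Nat.mod_lt _ hp.pos⟩
      rw [Finset.sum_eq_single e0]
      · have hle : ofBox e0 ≤ n := fun j => Nat.mod_le _ _
        have hdvd : ∀ i', p ∣ (n - ofBox e0) i' := fun i' => by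
          rw [Finsupp.tsub_apply]; exact Nat.dvd_sub_mod _
        refine (v.sum_repr (MvPowerSeries.coeff n f)).symm.trans (Finset.sum_congr rfl fun j _ => ?_)
        dsimp only
        rw [MvPowerSeries.coeff_mul_monomial, if_pos hle, hgc, if_pos hdvd, tsub_add_cancel_of_le hle]
        rfl
      · intro e _ he
        refine Finset.sum_eq_zero fun j _ => ?_
        rw [MvPowerSeries.coeff_mul_monomial]
        split_ifs with hle
        · rw [hgc, if_neg fun hd => he (funext fun i' => Fin.ext ?_), zero_mul]
          have h1 := hd i'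
          dsimp only at h1 hle ⊢
          rw [Finsupp.tsub_apply] at h1
          have h2 : ofBox e i' ≤ n i' := hle i'
          show (e i' : ℕ) = n i' % p
          obtain ⟨c, hc⟩ := h1
          have h3 : n i' = p * c + (e i' : ℕ) := by
            have : ofBox e i' = (e i' : ℕ) := rfl
            omega
          rw [h3, Nat.mul_add_mod, Nat.mod_eq_of_lt (e i').2]
        · rfl
      · exact fun h => absurd (Finset.mem_univ _) h
    rw [hsum]
    refine sum_mem fun q _ => ?_
    exact Submodule.smul_mem _ (⟨_, hg q.1 q.2⟩ : subPS k p (F i))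
      (Submodule.subset_span (Finset.mem_coe.mpr (Finset.mem_image_of_mem _ (Finset.mem_univ q))))
  · obtain ⟨U, V, hV, rfl⟩ := IsFractionRing.div_surjective (A := A) x
    have hV0 : algebraMap A K V ≠ 0 := IsFractionRing.to_map_ne_zero_of_mem_nonZeroDivisors hV
    let W := U * V ^ (p - 1)
    have hUV : algebraMap A K U / algebraMap A K V = algebraMap A K W / algebraMap A K V ^ p := by
      obtain ⟨m, hm⟩ : ∃ m, p = m + 1 := ⟨p - 1, by have := hp.pos; omega⟩
      simp only [W, hm, Nat.add_sub_cancel, map_mul, map_pow, pow_succ]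
      field_simp
    have hW : ∀ i, W ∈ subPS k p (F i) := fun i => by
      obtain ⟨u, hu, v, hv, hv0, huv⟩ := hx i
      have hvW : v * W = u * V ^ p := by
        refine IsFractionRing.injective A K ?_
        rw [hUV] at huv
        rw [map_mul (algebraMap A K) v W, map_mul (algebraMap A K) u (V ^ p), ← huv, map_pow]
        field_simp
        exact mul_comm _ _
      haveI := hfin i
      obtain ⟨r, hr⟩ := LinearMap.exists_leftInverse_of_injective (Algebra.linearMap (F i) k)
        (LinearMap.ker_eq_bot.mpr (algebraMap (F i) k).injective)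
      have hr' : ∀ c : F i, r (c : k) = c := fun c => LinearMap.congr_fun hr c
      let π : A → A := fun f m => if ∀ i', p ∣ m i' then ((r (MvPowerSeries.coeff m f) : F i) : k) else 0
      have hπc : ∀ f m, MvPowerSeries.coeff m (π f) =
          if ∀ i', p ∣ m i' then ((r (MvPowerSeries.coeff m f) : F i) : k) else 0 := fun f m => rfl
      have hπmem : ∀ f, π f ∈ subPS k p (F i) := fun f m => by
        rw [hπc]
        split_ifs with h
        · exact ⟨SetLike.coe_mem _, fun _ => h⟩
        · exact ⟨(F i).zero_mem, fun h0 => absurd rfl h0⟩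
      have hπfix : ∀ f ∈ subPS k p (F i), π f = f := fun f hf => by
        ext m
        rw [hπc]
        split_ifs with h
        · exact congrArg Subtype.val (hr' ⟨_, (hf m).1⟩)
        · exact (by_contra fun h0 => h ((hf m).2 (Ne.symm h0)))
      have hπlin : ∀ s ∈ subPS k p (F i), ∀ f, π (s * f) = s * π f := fun s hs f => by
        ext m
        rw [hπc, MvPowerSeries.coeff_mul, MvPowerSeries.coeff_mul]
        split_ifs with h
        · rw [map_sum, AddSubmonoidClass.coe_finsetSum]
          refine Finset.sum_congr rfl fun x hx => ?_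
          rw [hπc]
          by_cases h0 : MvPowerSeries.coeff x.1 s = 0
          · simp [h0]
          rw [Finset.HasAntidiagonal.mem_antidiagonal] at hx
          have h2 : ∀ i', p ∣ x.2 i' := fun i' => by
            have h3 := h i'
            rw [← hx, Finsupp.add_apply] at h3
            exact (Nat.dvd_add_right ((hs x.1).2 h0 i')).mp h3
          rw [if_pos h2, show MvPowerSeries.coeff x.1 s * MvPowerSeries.coeff x.2 f =
            (⟨_, (hs x.1).1⟩ : F i) • MvPowerSeries.coeff x.2 f from rfl, map_smul]
          rfl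
        · refine (Finset.sum_eq_zero fun x hx => ?_).symm
          rw [hπc]
          by_cases h0 : MvPowerSeries.coeff x.1 s = 0
          · simp [h0]
          rw [Finset.HasAntidiagonal.mem_antidiagonal] at hx
          rw [if_neg fun h2 => h fun i' => by rw [← hx, Finsupp.add_apply]; exact dvd_add ((hs x.1).2 h0 i') (h2 i'),
            mul_zero]
      have hv0' : v ≠ 0 := fun h => hv0 (by rw [h, map_zero])
      have heq := congrArg π hvW
      rw [hπlin v hv, hπfix _ (mul_mem hu (hPow i V)), ← hvW] at heq
      rw [← mul_left_cancel₀ hv0' heq]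
      exact hπmem W
    let G : A := fun m => if h : ∃ c : k, c ^ p = MvPowerSeries.coeff (p • m) W then h.choose else 0
    have hG : G ^ p = W := by
      ext m
      rw [← MvPowerSeries.map_frobenius_expand (p := p) (hp := hp.ne_zero), MvPowerSeries.coeff_map, frobenius_def]
      by_cases h : ∀ i', p ∣ m i'
      · obtain ⟨m', rfl⟩ : ∃ m', m = p • m' := ⟨Finsupp.equivFunOnFinite.symm fun i' => m i' / p, by
          ext i'; simp [Nat.mul_div_cancel' (h i')]⟩
        rw [MvPowerSeries.coeff_expand_smul]
        have hex : ∃ c : k, c ^ p = MvPowerSeries.coeff (p • m') W := hinf _ fun i => (hW i _).1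
        show (dite _ _ _ : k) ^ p = _
        rw [dif_pos hex]
        exact hex.choose_spec
      · obtain ⟨i', hi'⟩ := not_forall.mp h
        rw [MvPowerSeries.coeff_expand_of_not_dvd p hp.ne_zero G hi', zero_pow hp.ne_zero]
        by_contra h0
        exact h ((hW (Classical.arbitrary ι) m).2 (Ne.symm h0))
    refine ⟨algebraMap A K G / algebraMap A K V, ?_⟩
    rw [hUV, div_pow, ← map_pow (algebraMap A K) G, hG]

end Groth.Agent.GRingCpl
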