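/-
Formal fibres of finite algebras over regular domains with small subrings.
-/
import Mathlib
import Groth.Agent.GRingCpl.Decomp
import Groth.Agent.GRingCpl.Insep
import Groth.Agent.GRingCpl.Family
import Groth.Agent.GeomProp.Apps
import Groth.Agent.GeomProp.RegLocal
import Groth.Agent.RegLocus.Smooth
import Groth.Agent.SerreReg.Descent
import Groth.Agent.Cohen.Structure
import Groth.Agent.S0581
import Groth.Agent.FinComplete.Basic

set_option autoImplicit false
set_option linter.style.haveILetI false
universe u v

open IsLocalRing TensorProduct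

namespace Groth.Agent.GRingCpl

attribute [local instance 2000] Ring.toIntAlgebra

/-- Regularity of a localisation. -/
theorem isRegularRing_localization {R : Type u} [CommRing R] [IsRegularRing R] (S : Submonoid R) (R' : Type u)
    [CommRing R'] [Algebra R R'] [IsLocalization S R'] : IsRegularRing R' := by
  haveI : IsNoetherianRing R' := IsLocalization.isNoetherianRing S R' inferInstance
  refine isRegularRing_iff.mpr fun Q _ => ?_
  haveI := IsLocalization.isLocalization_isLocalization_atPrime_isLocalization S (Localization.AtPrime Q) Q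
  exact IsRegularLocalRing.of_ringEquiv (R := Localization.AtPrime (Q.comap (algebraMap R R')))
    (IsLocalization.algEquiv (Q.comap (algebraMap R R')).primeCompl _ _).toRingEquiv

section Fibre

variable {A : Type u} [CommRing A] [IsDomain A] {B : Type u} [CommRing B] [IsRegularRing B] [Algebra A B]
  (K : Type u) [Field K] [Algebra A K] [IsFractionRing A K]
  (P : Ideal B) [P.IsPrime] (Ap : Type u) [CommRing Ap] [IsLocalRing Ap] [Algebra B Ap]
  [IsLocalization.AtPrime Ap P] [Algebra A Ap] [IsScalarTower A B Ap]

include P in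
theorem isRegularRing_cpl : IsRegularRing (AdicCompletion (maximalIdeal Ap) Ap) := by
  haveI : IsRegularLocalRing Ap := IsRegularLocalRing.of_ringEquiv (R := Localization.AtPrime P)
    (IsLocalization.algEquiv P.primeCompl (Localization.AtPrime P) Ap).toRingEquiv
  haveI : IsRegularRing Ap := SerreReg.isRegularRing_of_isRegularLocalRing Ap
  exact RegTrans.isRegularRing_adicCompletion Ap _

include P in
/-- The generic formal fibre is regular. -/
theorem isRegularRing_genericFibre : IsRegularRing (K ⊗[A] AdicCompletion (maximalIdeal Ap) Ap) := by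
  let Ah := AdicCompletion (maximalIdeal Ap) Ap
  haveI : IsRegularRing Ah := isRegularRing_cpl P Ap
  haveI : IsLocalization (Algebra.algebraMapSubmonoid Ah (nonZeroDivisors A)) (Ah ⊗[A] K) := inferInstance
  haveI : IsRegularRing (Ah ⊗[A] K) :=
    isRegularRing_localization (Algebra.algebraMapSubmonoid Ah (nonZeroDivisors A)) (Ah ⊗[A] K)
  exact IsRegularRing.of_ringEquiv (R := Ah ⊗[A] K) (Algebra.TensorProduct.comm A Ah K).toRingEquiv

include P in
/-- Characteristic zero: the generic formal fibre is geometrically regular. -/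
theorem geomRegular_genericFibre_charZero [CharZero K] :
    CAlg.IsGeometricallyRegular K (K ⊗[A] AdicCompletion (maximalIdeal Ap) Ap) := by
  intro k' _ _ hfin
  let S := K ⊗[A] AdicCompletion (maximalIdeal Ap) Ap
  haveI : IsRegularRing S := isRegularRing_genericFibre K P Ap
  haveI : Algebra.IsSeparable K k' := inferInstance
  haveI := Algebra.FormallyEtale.of_isSeparable K k'
  haveI : Algebra.FinitePresentation K k' := Algebra.FinitePresentation.of_finiteType.mp inferInstance
  haveI : Algebra.Etale K k' := ⟨inferInstance, inferInstance⟩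
  haveI : Algebra.Smooth S (S ⊗[K] k') := inferInstance
  haveI : IsRegularRing (S ⊗[K] k') := RegLocus.isRegularRing_of_smooth S (S ⊗[K] k')
  exact IsRegularRing.of_ringEquiv (R := S ⊗[K] k') (Algebra.TensorProduct.comm K S k').toRingEquiv

include P in
/-- Characteristic `p` with small subrings: the generic formal fibre is geometrically regular. -/
theorem geomRegular_genericFibre_charP
    (hext : ∀ δ : Derivation ℤ A A, ∃ D : Derivation ℤ B B, ∀ a, D (algebraMap A B a) = algebraMap A B (δ a))
    (p : ℕ) [Fact p.Prime] [CharP K p] {ι : Type v} [Nonempty ι]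
    {S : ι → Subring A} (hS : Separates p A K ι S) :
    CAlg.IsGeometricallyRegular K (K ⊗[A] AdicCompletion (maximalIdeal Ap) Ap) := by
  let Ah := AdicCompletion (maximalIdeal Ap) Ap
  haveI : IsRegularRing (K ⊗[A] Ah) := isRegularRing_genericFibre K P Ap
  refine (GeomProp.good_regular.geom_iff K (K ⊗[A] Ah)).1.mpr fun k' _ _ _ _ => ?_
  letI : Algebra A k' := ((algebraMap K k').comp (algebraMap A K)).toAlgebra
  haveI : IsScalarTower A K k' := IsScalarTower.of_algebraMap_eq fun _ => rfl
  haveI := isRegularRing_tensor_purelyInseparable hext hS P Ap _ k' rfl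
  exact IsRegularRing.of_ringEquiv (R := Ah ⊗[A] k')
    ((Algebra.TensorProduct.comm A Ah k').toRingEquiv.trans
      (Algebra.TensorProduct.cancelBaseChange A K K k' Ah).symm.toRingEquiv)

end Fibre

/-- Good bases: the completions of the local rings of regular algebras to which derivations extend have
geometrically regular generic fibre. -/
def GoodBase (A : Type u) [CommRing A] : Prop :=
  IsRegularRing A ∧ ∀ (B : Type u) [CommRing B] [IsRegularRing B] [Algebra A B],
    (∀ δ : Derivation ℤ A A, ∃ D : Derivation ℤ B B, ∀ a, D (algebraMap A B a) = algebraMap A B (δ a)) →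
    ∀ (K : Type u) [Field K] [Algebra A K] [IsFractionRing A K] (P : Ideal B) [P.IsPrime]
      (Ap : Type u) [CommRing Ap] [IsLocalRing Ap] [Algebra B Ap] [IsLocalization.AtPrime Ap P] [Algebra A Ap]
      [IsScalarTower A B Ap], CAlg.IsGeometricallyRegular K (K ⊗[A] AdicCompletion (maximalIdeal Ap) Ap)

/-- Identifying the two base rings of a tensor product cuts out the graph of the point. -/
theorem ker_toTensor {A : Type u} [CommRing A] {m : ℕ} {Ah L : Type u} [CommRing Ah] [CommRing L]
    [Algebra A Ah] [Algebra (MvPolynomial (Fin m) A) Ah] [IsScalarTower A (MvPolynomial (Fin m) A) Ah]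
    [Algebra A L] [Algebra (MvPolynomial (Fin m) A) L] [IsScalarTower A (MvPolynomial (Fin m) A) L] :
    ∃ ψ : Ah ⊗[A] L →+* Ah ⊗[MvPolynomial (Fin m) A] L, Function.Surjective ψ ∧
      RingHom.ker ψ = Ideal.span (Set.range fun i : Fin m =>
        algebraMap (MvPolynomial (Fin m) A) Ah (MvPolynomial.X i) ⊗ₜ[A] (1 : L) -
          (1 : Ah) ⊗ₜ[A] algebraMap (MvPolynomial (Fin m) A) L (MvPolynomial.X i)) := by
  let B := MvPolynomial (Fin m) A
  let ψ : Ah ⊗[A] L →ₐ[A] Ah ⊗[B] L := Algebra.TensorProduct.lift
    ((Algebra.TensorProduct.includeLeft (R := B) (S := B) (A := Ah) (B := L)).restrictScalars A)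
    ((Algebra.TensorProduct.includeRight (R := B) (A := Ah) (B := L)).restrictScalars A) fun _ _ => mul_comm _ _
  have hψ : ∀ x l, ψ (x ⊗ₜ l) = x ⊗ₜ[B] l := fun x l => by
    show (x ⊗ₜ[B] (1 : L)) * ((1 : Ah) ⊗ₜ[B] l) = _
    rw [Algebra.TensorProduct.tmul_mul_tmul, mul_one, one_mul]
  have hs : Function.Surjective ψ := fun z => by
    induction z using TensorProduct.induction_on with
    | zero => exact ⟨0, map_zero _⟩
    | tmul x l => exact ⟨x ⊗ₜ l, hψ x l⟩
    | add a b ha hb =>
      obtain ⟨a, rfl⟩ := ha
      obtain ⟨b, rfl⟩ := hb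
      exact ⟨a + b, map_add _ _ _⟩
  refine ⟨ψ.toRingHom, hs, ?_⟩
  set I : Ideal (Ah ⊗[A] L) := Ideal.span (Set.range fun i : Fin m =>
    algebraMap B Ah (MvPolynomial.X i) ⊗ₜ[A] (1 : L) - (1 : Ah) ⊗ₜ[A] algebraMap B L (MvPolynomial.X i)) with hI
  refine le_antisymm (fun z hz => ?_) (Ideal.span_le.mpr ?_)
  · let π := Ideal.Quotient.mk I
    let F : Ah →+ L →+ (Ah ⊗[A] L) ⧸ I :=
      AddMonoidHom.mk' (fun x => AddMonoidHom.mk' (fun l => π (x ⊗ₜ l)) fun l l' => by
        rw [TensorProduct.tmul_add, map_add]) fun x x' => AddMonoidHom.ext fun l => by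
        show π _ = π _ + π _
        rw [TensorProduct.add_tmul, map_add]
    have hb : (π.comp (Algebra.TensorProduct.includeLeftRingHom (R := A) (A := Ah) (B := L))).comp (algebraMap B Ah) =
        (π.comp (Algebra.TensorProduct.includeRight (R := A) (A := Ah) (B := L)).toRingHom).comp (algebraMap B L) := by
      refine MvPolynomial.ringHom_ext (fun a => ?_) fun i => ?_
      · show π (algebraMap B Ah (algebraMap A B a) ⊗ₜ 1) = π (1 ⊗ₜ algebraMap B L (algebraMap A B a))
        rw [← IsScalarTower.algebraMap_apply, ← IsScalarTower.algebraMap_apply, Algebra.algebraMap_eq_smul_one,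
          Algebra.algebraMap_eq_smul_one, TensorProduct.smul_tmul]
      · exact Ideal.Quotient.eq.mpr (Ideal.subset_span ⟨i, rfl⟩)
    have hF : ∀ (b : B) (x : Ah) (l : L), F (b • x) l = F x (b • l) := fun b x l => by
      show π ((b • x) ⊗ₜ l) = π (x ⊗ₜ (b • l))
      rw [Algebra.smul_def, Algebra.smul_def,
        show (algebraMap B Ah b * x) ⊗ₜ[A] l = (algebraMap B Ah b ⊗ₜ[A] (1 : L)) * (x ⊗ₜ[A] l) by
          rw [Algebra.TensorProduct.tmul_mul_tmul, one_mul],
        show x ⊗ₜ[A] (algebraMap B L b * l) = ((1 : Ah) ⊗ₜ[A] algebraMap B L b) * (x ⊗ₜ[A] l) by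
          rw [Algebra.TensorProduct.tmul_mul_tmul, one_mul], map_mul, map_mul]
      exact congrArg (· * _) (RingHom.congr_fun hb b)
    have hG : ∀ w, TensorProduct.liftAddHom F hF (ψ w) = π w := fun w => by
      induction w using TensorProduct.induction_on with
      | zero => simp
      | tmul x l => rw [hψ]; rfl
      | add a b ha hb => rw [map_add, map_add, ha, hb, map_add]
    refine Ideal.Quotient.eq_zero_iff_mem.mp ((hG z).symm.trans ?_)
    rw [show ψ z = 0 from hz, map_zero]
  · rintro _ ⟨i, rfl⟩
    show ψ _ = 0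
    rw [map_sub, hψ, hψ, sub_eq_zero, Algebra.algebraMap_eq_smul_one, Algebra.algebraMap_eq_smul_one,
      TensorProduct.smul_tmul]

/-- Localisations at primes over the generic point see only the generic fibre. -/
theorem isRegularLocalRing_of_genericFibre {B C Ah : Type u} [CommRing B] [CommRing C] [IsDomain C] [CommRing Ah]
    [Algebra B C] [Algebra B Ah] (L : Type u) [Field L] [Algebra C L] [IsFractionRing C L] [Algebra B L]
    [IsScalarTower B C L] [IsRegularRing (L ⊗[B] Ah)] (q0 : Ideal (C ⊗[B] Ah)) [q0.IsPrime]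
    (h : ∀ d : C, d ⊗ₜ[B] (1 : Ah) ∈ q0 → d = 0) : IsRegularLocalRing (Localization.AtPrime q0) := by
  obtain ⟨_, _, hloc⟩ := GeomProp.tensor_localization (R := B) (Λ := C) (Λ' := L) (nonZeroDivisors C) Ah
  let M := Algebra.algebraMapSubmonoid (C ⊗[B] Ah) (nonZeroDivisors C)
  have hdisj : Disjoint (M : Set (C ⊗[B] Ah)) q0 := by
    rw [Set.disjoint_left]
    rintro _ ⟨d, hd, rfl⟩ hd'
    exact nonZeroDivisors.ne_zero hd (h d hd')
  haveI := IsLocalization.isPrime_of_isPrime_disjoint M (L ⊗[B] Ah) q0 inferInstance hdisj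
  haveI h5 := IsLocalization.isLocalization_isLocalization_atPrime_isLocalization M
    (Localization.AtPrime (q0.map (algebraMap (C ⊗[B] Ah) (L ⊗[B] Ah)))) (q0.map (algebraMap (C ⊗[B] Ah) (L ⊗[B] Ah)))
  haveI h6 : IsLocalization.AtPrime (Localization.AtPrime (q0.map (algebraMap (C ⊗[B] Ah) (L ⊗[B] Ah)))) q0 := by
    have h7 := IsLocalization.under_map_of_isPrime_disjoint M (L ⊗[B] Ah) inferInstance hdisj
    convert h5 using 1
    ext x
    exact Iff.of_eq (congrArg (fun I : Ideal _ => x ∈ I) h7.symm)
  exact IsRegularLocalRing.of_ringEquiv (R := Localization.AtPrime (q0.map (algebraMap (C ⊗[B] Ah) (L ⊗[B] Ah))))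
    (IsLocalization.algEquiv q0.primeCompl _ _).toRingEquiv

/-- Completions of polynomial rings over good bases at points of finitely generated fields. -/
theorem isRegularRing_tensor_point {A : Type u} [CommRing A] [IsDomain A] (hA : GoodBase A) {m : ℕ}
    (P : Ideal (MvPolynomial (Fin m) A)) [P.IsPrime] (Ap : Type u) [CommRing Ap] [IsLocalRing Ap]
    [Algebra (MvPolynomial (Fin m) A) Ap] [IsLocalization.AtPrime Ap P]
    (L : Type u) [Field L] [Algebra A L] [Algebra (MvPolynomial (Fin m) A) L]
    [IsScalarTower A (MvPolynomial (Fin m) A) L] [Algebra (FractionRing A) L] [IsScalarTower A (FractionRing A) L]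
    [Algebra.EssFiniteType (FractionRing A) L] :
    IsRegularRing (L ⊗[MvPolynomial (Fin m) A] AdicCompletion (maximalIdeal Ap) Ap) := by
  classical
  obtain ⟨_, hA⟩ := hA
  let B := MvPolynomial (Fin m) A
  letI : Algebra A Ap := ((algebraMap B Ap).comp (algebraMap A B)).toAlgebra
  haveI : IsScalarTower A B Ap := IsScalarTower.of_algebraMap_eq fun _ => rfl
  haveI : IsNoetherianRing Ap := IsLocalization.isNoetherianRing P.primeCompl Ap inferInstance
  let Ah := AdicCompletion (maximalIdeal Ap) Ap
  let K := FractionRing A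
  haveI : IsRegularRing (K ⊗[A] Ah) := isRegularRing_genericFibre K P Ap
  haveI : IsRegularRing (L ⊗[K] (K ⊗[A] Ah)) :=
    (GeomProp.good_regular.geom_iff K (K ⊗[A] Ah)).2.mp (hA B exists_mvPolynomial_derivation K P Ap) L inferInstance
  haveI : IsRegularRing (Ah ⊗[A] L) := IsRegularRing.of_ringEquiv (R := L ⊗[K] (K ⊗[A] Ah))
    ((Algebra.TensorProduct.cancelBaseChange A K K L Ah).toRingEquiv.trans
      (Algebra.TensorProduct.comm A L Ah).toRingEquiv)
  choose Dp hDp using fun i : Fin m => exists_localization_derivation (Ap := Ap) P.primeCompl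
    ((MvPolynomial.pderiv i : Derivation A B B).restrictScalars ℤ)
  choose Dh hDh using fun i : Fin m => exists_completion_derivation (Dp i)
  have hDhB : ∀ i b, Dh i (algebraMap B Ah b) = algebraMap B Ah (MvPolynomial.pderiv i b) := fun i b => by
    rw [IsScalarTower.algebraMap_apply B Ap Ah, hDh, hDp, ← IsScalarTower.algebraMap_apply]
    rfl
  choose Δ hΔ using fun i : Fin m => exists_tensor_derivation (A := A) (Ah := Ah) (L := L) (0 : Derivation ℤ L L)
    (ι := Fin 1) (fun _ => (1 : L)) (fun _ => 0) (fun _ => Dh i) (fun _ a => by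
      rw [IsScalarTower.algebraMap_apply A B Ah, hDhB, show algebraMap A B a = MvPolynomial.C a from rfl,
        MvPolynomial.pderiv_C, map_zero, Derivation.zero_apply, map_zero]) (fun a => by simp)
  obtain ⟨ψ, hψ, hψker⟩ := ker_toTensor (A := A) (m := m) (Ah := Ah) (L := L)
  haveI : IsRegularRing (Ah ⊗[B] L) := isRegularRing_of_derivations ψ hψ _ hψker Δ fun i j => by
    have h1 : ∀ x l, Δ i (x ⊗ₜ[A] l) = Dh i x ⊗ₜ[A] l := fun x l => by
      rw [hΔ, Derivation.zero_apply, TensorProduct.tmul_zero, zero_add, Fin.sum_univ_one, one_mul]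
    rw [map_sub, h1, h1, Derivation.map_one_eq_zero, TensorProduct.zero_tmul, sub_zero, hDhB, MvPolynomial.pderiv_X]
    by_cases h : j = i
    · subst h
      rw [if_pos rfl, Pi.single_eq_same, map_one, Algebra.TensorProduct.one_def]
    · rw [if_neg h, Pi.single_eq_of_ne h, map_zero, TensorProduct.zero_tmul]
  exact IsRegularRing.of_ringEquiv (R := Ah ⊗[B] L) (Algebra.TensorProduct.comm B Ah L).toRingEquiv

/-- Reduction of a generic formal fibre of a finite algebra to a tensor product. -/
theorem regular_of_tensor {B C : Type u} [CommRing B] [IsNoetherianRing B] [CommRing C] [IsDomain C] [Algebra B C]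
    [Module.Finite B C] (n : Ideal C) [n.IsPrime] (Bn : Type u) [CommRing Bn] [IsLocalRing Bn] [Algebra C Bn]
    [IsLocalization.AtPrime Bn n] (L : Type u) [Field L] [Algebra C L] [IsFractionRing C L] [Algebra B L]
    [IsScalarTower B C L]
    (hreg : IsRegularRing (L ⊗[B] AdicCompletion (maximalIdeal (Localization.AtPrime (n.comap (algebraMap B C))))
      (Localization.AtPrime (n.comap (algebraMap B C)))))
    (q : Ideal (AdicCompletion (maximalIdeal Bn) Bn)) [q.IsPrime]
    (hq : ∀ c : C, algebraMap Bn _ (algebraMap C Bn c) ∈ q → c = 0) :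
    IsRegularLocalRing (Localization.AtPrime q) := by
  haveI : IsNoetherianRing C := IsNoetherianRing.of_finite B C
  haveI : IsNoetherianRing Bn := IsLocalization.isNoetherianRing n.primeCompl Bn inferInstance
  let P := n.comap (algebraMap B C)
  let Ap := Localization.AtPrime P
  let Ah := AdicCompletion (maximalIdeal Ap) Ap
  haveI : IsNoetherianRing Ap := IsLocalization.isNoetherianRing P.primeCompl Ap inferInstance
  obtain ⟨φ, hφ, hφB, hker⟩ := exists_proj P Ap n Bn rfl
  obtain ⟨e⟩ := exists_equiv_atPrime φ hφ hker q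
  let c : C ⊗[B] Ah ≃+* Ah ⊗[B] C := (Algebra.TensorProduct.comm B C Ah).toRingEquiv
  let q0 : Ideal (C ⊗[B] Ah) := (q.comap φ).comap c.toRingHom
  haveI : q0.IsPrime := Ideal.IsPrime.comap c.toRingHom
  suffices IsRegularLocalRing (Localization.AtPrime q0) by
    haveI : IsRegularLocalRing (Localization.AtPrime (q.comap φ)) :=
      IsRegularLocalRing.of_ringEquiv (R := Localization.AtPrime q0)
        (IsLocalization.ringEquivOfRingEquiv (M := q0.primeCompl) (T := (q.comap φ).primeCompl)
          (Localization.AtPrime q0) (Localization.AtPrime (q.comap φ)) c (by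
            ext x
            rw [Submonoid.mem_map]
            constructor
            · rintro ⟨y, hy, rfl⟩; exact hy
            · exact fun hx => ⟨c.symm x, fun h => hx (by
                have h' : c (c.symm x) ∈ q.comap φ := h
                rwa [c.apply_symm_apply] at h'), c.apply_symm_apply x⟩))
    exact IsRegularLocalRing.of_ringEquiv (R := Localization.AtPrime (q.comap φ)) e
  refine isRegularLocalRing_of_genericFibre L q0 fun d hd => hq d ?_
  have h1 : φ ((1 : Ah) ⊗ₜ[B] d) ∈ q := hd
  rwa [hφB] at h1

/-- **Generic formal fibres of finite type domains over good bases are regular.** -/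
theorem regular_cpl_of_finiteType {A C : Type u} [CommRing A] [IsDomain A] (hA : GoodBase A) [CommRing C] [IsDomain C]
    [Algebra A C] [Algebra.FiniteType A C] (hinj : Function.Injective (algebraMap A C)) (n : Ideal C) [n.IsPrime]
    (Bn : Type u) [CommRing Bn] [IsLocalRing Bn] [Algebra C Bn] [IsLocalization.AtPrime Bn n]
    (q : Ideal (AdicCompletion (maximalIdeal Bn) Bn)) [q.IsPrime]
    (hq : ∀ c : C, algebraMap Bn _ (algebraMap C Bn c) ∈ q → c = 0) :
    IsRegularLocalRing (Localization.AtPrime q) := by
  classical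
  haveI := hA.1
  obtain ⟨m, π, hπ⟩ := Algebra.FiniteType.iff_quotient_mvPolynomial''.mp (inferInstance : Algebra.FiniteType A C)
  let B := MvPolynomial (Fin m) A
  haveI : IsRegularRing B := inferInstance
  letI : Algebra B C := π.toRingHom.toAlgebra
  haveI : IsScalarTower A B C := IsScalarTower.of_algebraMap_eq fun a => (π.commutes a).symm
  haveI : Module.Finite B C := Module.Finite.of_surjective (Algebra.linearMap B C) hπ
  let K := FractionRing A
  let L := FractionRing C
  letI : Algebra K L := (IsFractionRing.map (A := A) (K := K) (B := C) (L := L) hinj).toAlgebra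
  haveI : IsScalarTower A K L := IsScalarTower.of_algebraMap_eq fun a => by
    show _ = IsFractionRing.map hinj (algebraMap A K a)
    rw [IsScalarTower.algebraMap_apply A C L]
    exact (IsLocalization.map_eq _ a).symm
  haveI : Algebra.EssFiniteType C L := Algebra.EssFiniteType.of_isLocalization L (nonZeroDivisors C)
  haveI : Algebra.EssFiniteType A L := Algebra.EssFiniteType.comp A C L
  haveI : Algebra.EssFiniteType K L := Algebra.EssFiniteType.of_comp A K L
  exact regular_of_tensor (B := B) n Bn L
    (isRegularRing_tensor_point hA (n.comap (algebraMap B C)) (Localization.AtPrime (n.comap (algebraMap B C))) L) q hq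

theorem charZero_cohenRing {Λ : Type u} [CommRing Λ] (h : CAlg.IsCohenRing Λ) : CharZero Λ := by
  obtain ⟨_, _, _, p, hp, hmax⟩ := h
  obtain ⟨l, hl⟩ := CharP.exists Λ
  rcases CharP.char_is_prime_or_zero Λ l with hl' | rfl
  · exfalso
    have hp0 : (p : Λ) ≠ 0 := fun h => (IsDiscreteValuationRing.not_isField Λ)
      (IsLocalRing.isField_iff_maximalIdeal_eq.mpr (by rw [hmax, h, Ideal.span_singleton_eq_bot]))
    have hne : l ≠ p := fun h => hp0 (h ▸ CharP.cast_eq_zero Λ l)
    obtain ⟨a, b, hab⟩ := ((Nat.coprime_primes hl' hp).mpr hne).cast (R := Λ)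
    rw [CharP.cast_eq_zero Λ l, mul_zero, zero_add] at hab
    exact (IsLocalRing.maximalIdeal.isMaximal Λ).ne_top (by
      rw [hmax, Ideal.span_singleton_eq_top]
      exact IsUnit.of_mul_eq_one b (by rwa [mul_comm] at hab))
  · exact CharP.charP_to_charZero Λ

theorem goodBase_of_charZero (A : Type u) [CommRing A] [IsDomain A] [IsRegularRing A] [CharZero A] : GoodBase A := by
  refine ⟨inferInstance, fun B _ _ _ _ K _ _ _ P _ Ap _ _ _ _ _ _ => ?_⟩
  haveI : CharZero K := charZero_of_injective_algebraMap (IsFractionRing.injective A K)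
  exact geomRegular_genericFibre_charZero K P Ap

/-- Power series over a field or a Cohen ring form a good base. -/
theorem goodBase_mvPowerSeries (n : ℕ) {Λ : Type u} [CommRing Λ] (hΛ : IsField Λ ∨ CAlg.IsCohenRing Λ) :
    GoodBase (MvPowerSeries (Fin n) Λ) := by
  haveI : IsRegularLocalRing Λ := Cohen.isRegularLocalRing_coeff hΛ
  haveI : IsDomain Λ := by
    rcases hΛ with hf | ⟨hd, -, -⟩
    · exact hf.isDomain
    · exact hd
  let A := MvPowerSeries (Fin n) Λ
  haveI : IsRegularLocalRing A := Cohen.isRegularLocalRing_mvPowerSeries Λ n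
  haveI : IsRegularRing A := SerreReg.isRegularRing_of_isRegularLocalRing A
  haveI : IsDomain A := NoZeroDivisors.to_isDomain _
  have hC : Function.Injective (MvPowerSeries.C (σ := Fin n) (R := Λ)) := fun a b h => by
    have := congrArg MvPowerSeries.constantCoeff h
    simpa using this
  rcases hΛ with hf | hc
  · letI := hf.toField
    obtain ⟨p, hp⟩ := CharP.exists Λ
    rcases CharP.char_is_prime_or_zero Λ p with hpp | rfl
    · haveI := Fact.mk hpp
      refine ⟨inferInstance, fun B _ _ _ hext K _ _ _ P _ Ap _ _ _ _ _ _ => ?_⟩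
      haveI : CharP K p :=
        charP_of_injective_ringHom (f := (algebraMap A K).comp (MvPowerSeries.C (σ := Fin n) (R := Λ)))
          (by rw [RingHom.coe_comp]; exact (IsFractionRing.injective A K).comp hC) p
      obtain ⟨ι, _, F, hdir, hpow, hfin, hinf⟩ := exists_subfield_family p Λ
      exact geomRegular_genericFibre_charP K P Ap hext p
        (separates_subPS F hdir hpow hfin hinf K)
    · haveI := CharP.charP_to_charZero Λ
      haveI : CharZero A := (RingHom.charZero_iff hC).mp inferInstance
      exact goodBase_of_charZero A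
  · haveI := charZero_cohenRing hc
    haveI : CharZero A := (RingHom.charZero_iff hC).mp inferInstance
    exact goodBase_of_charZero A

/-- **Finite type domains over complete Noetherian local rings have regular generic formal fibres.** -/
theorem regular_cpl_of_complete {R : Type u} [CommRing R] [IsLocalRing R] [IsNoetherianRing R]
    [IsAdicComplete (maximalIdeal R) R] {C : Type u} [CommRing C] [IsDomain C] [Algebra R C] [Algebra.FiniteType R C]
    (n : Ideal C) [n.IsPrime] (Bn : Type u) [CommRing Bn] [IsLocalRing Bn]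
    [Algebra C Bn] [IsLocalization.AtPrime Bn n] (q : Ideal (AdicCompletion (maximalIdeal Bn) Bn)) [q.IsPrime]
    (hq : ∀ c : C, algebraMap Bn _ (algebraMap C Bn c) ∈ q → c = 0) :
    IsRegularLocalRing (Localization.AtPrime q) := by
  let I := RingHom.ker (algebraMap R C)
  haveI : I.IsPrime := RingHom.ker_isPrime _
  haveI : Nontrivial (R ⧸ I) := Ideal.Quotient.nontrivial_iff.mpr (Ideal.IsPrime.ne_top inferInstance)
  haveI : IsAdicComplete (maximalIdeal (R ⧸ I)) (R ⧸ I) := FinComplete.isAdicComplete_of_isLocalRing R (R ⧸ I)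
  letI : Algebra (R ⧸ I) C := (RingHom.kerLift (algebraMap R C)).toAlgebra
  haveI : IsScalarTower R (R ⧸ I) C := IsScalarTower.of_algebraMap_eq fun _ => rfl
  haveI : Algebra.FiniteType (R ⧸ I) C := Algebra.FiniteType.of_restrictScalars_finiteType R (R ⧸ I) C
  obtain ⟨Λ, _, m, f, hΛ, hinj, hfin, -⟩ := S0581.result (R ⧸ I)
  haveI : IsDomain Λ := by
    rcases hΛ with hf | ⟨hd, -, -⟩
    · exact hf.isDomain
    · exact hd
  let A := MvPowerSeries (Fin m) Λ
  haveI : IsDomain A := NoZeroDivisors.to_isDomain _
  letI := f.toAlgebra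
  haveI : Module.Finite A (R ⧸ I) := hfin
  letI : Algebra A C := ((algebraMap (R ⧸ I) C).comp f).toAlgebra
  haveI : IsScalarTower A (R ⧸ I) C := IsScalarTower.of_algebraMap_eq fun _ => rfl
  haveI : Algebra.FiniteType A C := Algebra.FiniteType.trans (S := R ⧸ I) inferInstance inferInstance
  exact regular_cpl_of_finiteType (goodBase_mvPowerSeries m hΛ)
    ((RingHom.kerLift_injective (algebraMap R C)).comp hinj) n Bn q hq

end Groth.Agent.GRingCpl
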