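/-
Complete Noetherian local rings are G-rings.
-/
import Mathlib
import Groth.Agent.GRingCpl.Main
import Groth.Agent.FinComplete.Basic
import Groth.Agent.S4703

set_option autoImplicit false
set_option linter.style.haveILetI false
universe u

open IsLocalRing TensorProduct

namespace Groth.Agent.GRingCpl

theorem comap_maximalIdeal_cpl (A : Type u) [CommRing A] [IsLocalRing A] [IsNoetherianRing A] :
    (maximalIdeal (AdicCompletion (maximalIdeal A) A)).comap (algebraMap A (AdicCompletion (maximalIdeal A) A)) =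
      maximalIdeal A := by
  refine (eq_of_le_of_not_lt ?_ fun h => ?_).symm
  · rw [← Ideal.map_le_iff_le_comap, AdicCompletion.maximalIdeal_eq_map]
  · exact (Ideal.comap_ne_top _ (maximalIdeal.isMaximal _).ne_top)
      ((maximalIdeal.isMaximal A).1.2 _ h)

/-- A finite domain over a localisation is a localisation of a finite domain. -/
theorem exists_model {R : Type u} [CommRing R] (M : Submonoid R) (Ap : Type u) [CommRing Ap] [Algebra R Ap]
    [IsLocalization M Ap] {B : Type u} [CommRing B] [Nontrivial B] [Algebra Ap B] [Module.Finite Ap B]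
    [Algebra R B] [IsScalarTower R Ap B] :
    ∃ C : Subalgebra R B, Module.Finite R C ∧ IsLocalization (Algebra.algebraMapSubmonoid C M) B := by
  classical
  obtain ⟨s, hs⟩ := (inferInstance : Module.Finite Ap B)
  choose t ht using fun b : B => IsIntegral.exists_multiple_integral_of_isLocalization M b
    ((Algebra.IsIntegral.isIntegral (R := Ap)) b)
  let g : Set B := (fun b => t b • b) '' (s : Set B)
  let C := Algebra.adjoin R g
  refine ⟨C, Module.Finite.iff_fg.mpr (fg_adjoin_of_finite (s.finite_toSet.image _)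
    (by rintro _ ⟨b, -, rfl⟩; exact ht b)), ?_⟩
  have hunit : ∀ m : M, IsUnit (algebraMap R B m) := fun m => by
    rw [IsScalarTower.algebraMap_apply R Ap B]
    exact (IsLocalization.map_units Ap m).map _
  have hfrac : ∀ z : B, ∃ (c : C) (m : M), z * algebraMap R B m = c := fun z => by
    have hz : z ∈ Submodule.span Ap (s : Set B) := hs ▸ Submodule.mem_top
    induction hz using Submodule.span_induction with
    | mem b hb => exact ⟨⟨t b • b, Algebra.subset_adjoin ⟨b, hb, rfl⟩⟩, t b, by
        show b * algebraMap R B (t b : R) = t b • b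
        rw [Submonoid.smul_def, Algebra.smul_def, mul_comm]⟩
    | zero => exact ⟨0, 1, by simp⟩
    | add x y _ _ hx hy =>
      obtain ⟨c, m, hc⟩ := hx
      obtain ⟨c', m', hc'⟩ := hy
      refine ⟨(m' : R) • c + (m : R) • c', m * m', ?_⟩
      rw [Subalgebra.coe_add, Subalgebra.coe_smul, Subalgebra.coe_smul, ← hc, ← hc', Submonoid.coe_mul, map_mul,
        Algebra.smul_def, Algebra.smul_def]
      ring
    | smul a x _ hx =>
      obtain ⟨c, m, hc⟩ := hx
      obtain ⟨r, m', rfl⟩ := IsLocalization.exists_mk'_eq M a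
      refine ⟨r • c, m * m', ?_⟩
      have h : algebraMap Ap B (IsLocalization.mk' Ap r m') * algebraMap R B m' = algebraMap R B r := by
        rw [IsScalarTower.algebraMap_apply R Ap B, ← map_mul, IsLocalization.mk'_spec, ← IsScalarTower.algebraMap_apply]
      rw [Subalgebra.coe_smul, ← hc, Algebra.smul_def, Algebra.smul_def, Submonoid.coe_mul, map_mul]
      linear_combination x * algebraMap R B m * h
  refine { map_units := ?_, surj := fun z => ?_, exists_of_eq := fun {x y} hxy => ⟨1, by rw [Subtype.ext hxy]⟩ }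
  · rintro ⟨_, m, hm, rfl⟩
    exact hunit ⟨m, hm⟩
  · obtain ⟨c, m, hc⟩ := hfrac z
    exact ⟨(c, ⟨algebraMap R C m, m, m.2, rfl⟩), hc⟩

/-- The generic formal fibres of all finite domains over `R` are regular. -/
def GenericRegular (R : Type u) [CommRing R] : Prop :=
  ∀ (C : Type u) [CommRing C] [IsDomain C] [Algebra R C], Module.Finite R C → ∀ (n : Ideal C) [n.IsPrime]
    (Bn : Type u) [CommRing Bn] [IsLocalRing Bn] [Algebra C Bn] [IsLocalization.AtPrime Bn n]
    (q : Ideal (AdicCompletion (maximalIdeal Bn) Bn)) [q.IsPrime],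
    (∀ c : C, algebraMap Bn _ (algebraMap C Bn c) ∈ q → c = 0) → IsRegularLocalRing (Localization.AtPrime q)

theorem genericRegular_of_finiteType {R0 R : Type u} [CommRing R0] [IsLocalRing R0] [IsNoetherianRing R0]
    [IsAdicComplete (maximalIdeal R0) R0] [CommRing R] [Algebra R0 R] [Algebra.FiniteType R0 R] :
    GenericRegular R := fun C _ _ _ hfin n _ Bn _ _ _ _ q _ hq => by
  letI : Algebra R0 C := ((algebraMap R C).comp (algebraMap R0 R)).toAlgebra
  haveI : IsScalarTower R0 R C := IsScalarTower.of_algebraMap_eq fun _ => rfl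
  haveI := hfin
  haveI : Algebra.FiniteType R0 C := Algebra.FiniteType.trans (S := R) inferInstance inferInstance
  exact regular_cpl_of_complete (R := R0) n Bn q hq

/-- **Generic formal fibres of finite domains over local rings of such rings are regular.** -/
theorem regular_tensor_cpl {R : Type u} [CommRing R] [IsNoetherianRing R] (H : GenericRegular R)
    (P : Ideal R) [P.IsPrime] (Ap : Type u) [CommRing Ap] [IsLocalRing Ap]
    [Algebra R Ap] [IsLocalization.AtPrime Ap P] {B : Type u} [CommRing B] [IsDomain B] [Algebra Ap B]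
    [Module.Finite Ap B] (q : Ideal (B ⊗[Ap] AdicCompletion (maximalIdeal Ap) Ap)) [q.IsPrime]
    (hq : ∀ b : B, b ⊗ₜ[Ap] (1 : AdicCompletion (maximalIdeal Ap) Ap) ∈ q → b = 0) :
    IsRegularLocalRing (Localization.AtPrime q) := by
  haveI : IsNoetherianRing Ap := IsLocalization.isNoetherianRing P.primeCompl Ap inferInstance
  let Ah := AdicCompletion (maximalIdeal Ap) Ap
  haveI : IsLocalization.AtPrime Ap (maximalIdeal Ap) :=
    IsLocalization.self fun x hx => IsLocalRing.notMem_maximalIdeal.mp hx
  let c : B ⊗[Ap] Ah ≃+* Ah ⊗[Ap] B := (Algebra.TensorProduct.comm Ap B Ah).toRingEquiv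
  let q1 : Ideal (Ah ⊗[Ap] B) := q.comap c.symm.toRingHom
  haveI : q1.IsPrime := Ideal.IsPrime.comap c.symm.toRingHom
  obtain ⟨M, hM, hqM⟩ := Ideal.exists_le_maximal q1 (Ideal.IsPrime.ne_top inferInstance)
  let iB : B →+* Ah ⊗[Ap] B := (Algebra.TensorProduct.includeRight (R := Ap) (A := Ah) (B := B)).toRingHom
  let n : Ideal B := M.comap iB
  haveI : n.IsPrime := Ideal.IsPrime.comap iB
  have hMh : M.comap (algebraMap Ah (Ah ⊗[Ap] B)) = maximalIdeal Ah :=
    IsLocalRing.eq_maximalIdeal (Ideal.isMaximal_comap_of_isIntegral_of_isMaximal M)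
  have hn : n.comap (algebraMap Ap B) = maximalIdeal Ap := by
    rw [show (n.comap (algebraMap Ap B)) = M.comap ((algebraMap Ah (Ah ⊗[Ap] B)).comp (algebraMap Ap Ah)) by
      show (M.comap iB).comap _ = _
      rw [Ideal.comap_comap]
      congr 1
      exact RingHom.ext fun a => ((Algebra.TensorProduct.includeRight (R := Ap) (A := Ah) (B := B)).commutes a).trans rfl,
      ← Ideal.comap_comap, hMh]
    show (maximalIdeal Ah).comap (algebraMap Ap Ah) = _
    exact comap_maximalIdeal_cpl Ap
  let Bn := Localization.AtPrime n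
  obtain ⟨φ, hφ, hφB, hker⟩ := exists_proj (maximalIdeal Ap) Ap n Bn hn
  let S := AdicCompletion (maximalIdeal Bn) Bn
  haveI : IsNoetherianRing B := IsNoetherianRing.of_finite Ap B
  haveI : IsNoetherianRing Bn := IsLocalization.isNoetherianRing n.primeCompl Bn inferInstance
  have hnS : ∀ b, φ (iB b) ∈ maximalIdeal S ↔ b ∈ n := fun b => by
    rw [show φ (iB b) = algebraMap Bn S (algebraMap B Bn b) from hφB b, ← Ideal.mem_comap]
    rw [comap_maximalIdeal_cpl Bn]
    exact IsLocalization.AtPrime.to_map_mem_maximal_iff Bn n b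
  haveI hM' : ((maximalIdeal S).comap φ).IsMaximal := Ideal.comap_isMaximal_of_surjective φ hφ
  have happ : ∀ x : Ah ⊗[Ap] B, ∃ b, x - iB b ∈ (maximalIdeal Ah).map (algebraMap Ah (Ah ⊗[Ap] B)) := by
    intro x
    induction x using TensorProduct.induction_on with
    | zero => exact ⟨0, by simp⟩
    | tmul a b =>
      obtain ⟨α, hα⟩ := Cohen.exists_sub_mem_pow a 1
      rw [pow_one] at hα
      refine ⟨α • b, ?_⟩
      have h : a ⊗ₜ[Ap] b - iB (α • b) = algebraMap Ah (Ah ⊗[Ap] B) (a - algebraMap Ap Ah α) * iB b := by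
        show a ⊗ₜ[Ap] b - (1 : Ah) ⊗ₜ[Ap] (α • b) = ((a - algebraMap Ap Ah α) ⊗ₜ[Ap] (1 : B)) * ((1 : Ah) ⊗ₜ[Ap] b)
        rw [Algebra.TensorProduct.tmul_mul_tmul, mul_one, one_mul, TensorProduct.sub_tmul, ← TensorProduct.smul_tmul,
          Algebra.smul_def, mul_one]
      rw [h]
      exact Ideal.mul_mem_right _ _ (Ideal.mem_map_of_mem _ hα)
    | add x y hx hy =>
      obtain ⟨b, hb⟩ := hx
      obtain ⟨b', hb'⟩ := hy
      exact ⟨b + b', by rw [map_add, add_sub_add_comm]; exact add_mem hb hb'⟩
  have hsame : ∀ (N : Ideal (Ah ⊗[Ap] B)), N.IsMaximal →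
      (maximalIdeal Ah).map (algebraMap Ah (Ah ⊗[Ap] B)) ≤ N := fun N hN =>
    Ideal.map_le_iff_le_comap.mpr
      (IsLocalRing.eq_maximalIdeal (Ideal.isMaximal_comap_of_isIntegral_of_isMaximal N)).ge
  have hMM : ∀ x, x ∈ M ↔ φ x ∈ maximalIdeal S := by
    intro x
    obtain ⟨b, hb⟩ := happ x
    constructor
    · intro hx
      have hbn : b ∈ n := by
        show iB b ∈ M
        simpa using M.sub_mem hx (hsame M hM hb)
      have h := add_mem ((hsame _ hM') hb) (show iB b ∈ (maximalIdeal S).comap φ from (hnS b).mpr hbn)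
      rw [← Ideal.mem_comap]
      simpa only [sub_add_cancel] using h
    · intro hx
      have h : iB b ∈ (maximalIdeal S).comap φ := by
        have := ((maximalIdeal S).comap φ).sub_mem (show x ∈ (maximalIdeal S).comap φ from hx) ((hsame _ hM') hb)
        simpa using this
      have h' := add_mem (hsame M hM hb) (show iB b ∈ M from (hnS b).mp h)
      simpa using h'
  have hkq : RingHom.ker φ ≤ q1 := fun x hx => by
    obtain ⟨y, hy, hyx⟩ := hker x hx
    have hyM : y ∉ q1 := fun h => (IsLocalRing.notMem_maximalIdeal.mpr hy) ((hMM y).mp (hqM h))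
    exact ((inferInstance : q1.IsPrime).mem_or_mem (hyx ▸ q1.zero_mem)).resolve_left hyM
  let q2 : Ideal S := q1.map φ
  haveI : q2.IsPrime := Ideal.map_isPrime_of_surjective hφ hkq
  have hq2 : q2.comap φ = q1 := by
    rw [Ideal.comap_map_of_surjective φ hφ, ← RingHom.ker_eq_comap_bot, sup_eq_left.mpr hkq]
  -- the model over the complete ring
  letI : Algebra R B := ((algebraMap Ap B).comp (algebraMap R Ap)).toAlgebra
  haveI : IsScalarTower R Ap B := IsScalarTower.of_algebraMap_eq fun _ => rfl
  obtain ⟨C, _, _⟩ := exists_model P.primeCompl Ap (B := B)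
  haveI : IsLocalization.AtPrime Bn (n.comap (algebraMap C B)) :=
    IsLocalization.isLocalization_isLocalization_atPrime_isLocalization
      (Algebra.algebraMapSubmonoid C P.primeCompl) Bn n
  haveI := H C inferInstance (n.comap (algebraMap C B)) Bn q2 fun d hd => by
    have h1 : iB (d : B) ∈ q2.comap φ := by
      rw [Ideal.mem_comap, show φ (iB (d : B)) = algebraMap Bn S (algebraMap B Bn (d : B)) from hφB _]
      exact hd
    rw [hq2] at h1
    have h2 : c.symm.toRingHom (iB (d : B)) ∈ q := h1
    exact Subtype.ext (hq _ h2)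
  obtain ⟨e⟩ := exists_equiv_atPrime φ hφ hker q2
  haveI : IsRegularLocalRing (Localization.AtPrime (q2.comap φ)) :=
    IsRegularLocalRing.of_ringEquiv (R := Localization.AtPrime q2) e.symm
  refine IsRegularLocalRing.of_ringEquiv (R := Localization.AtPrime (q2.comap φ))
    (IsLocalization.ringEquivOfRingEquiv (M := (q2.comap φ).primeCompl) (T := q.primeCompl)
      (Localization.AtPrime (q2.comap φ)) (Localization.AtPrime q) c.symm ?_)
  ext x
  rw [Submonoid.mem_map]
  constructor
  · rintro ⟨y, hy, rfl⟩ h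
    exact hy (by rw [hq2]; exact h)
  · refine fun hx => ⟨c x, fun h => hx ?_, c.symm_apply_apply x⟩
    have h' : c x ∈ q2.comap φ := h
    rw [hq2] at h'
    have h'' : c.symm (c x) ∈ q := h'
    rwa [c.symm_apply_apply] at h''

/-- The criterion for G-rings. -/
theorem isGRing_of_genericRegular {R : Type u} [CommRing R] [IsNoetherianRing R] (H : GenericRegular R) :
    CAlg.IsGRing R := by
  refine ⟨inferInstance, fun p _ => ?_⟩
  haveI : IsNoetherianRing (Localization.AtPrime p) := IsLocalization.isNoetherianRing p.primeCompl _ inferInstance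
  refine (S4703.result (Localization.AtPrime p)).mpr ?_
  intro B _ _ _ _ q _ hq
  refine regular_tensor_cpl H p (Localization.AtPrime p) q fun b hb => ?_
  exact (Ideal.mem_bot).mp (hq ▸ (hb : b ∈ q.comap (algebraMap B _)))

/-- **Finite type algebras over complete Noetherian local rings are G-rings.** -/
theorem isGRing_of_finiteType_complete {R0 : Type u} (R : Type u) [CommRing R0] [IsLocalRing R0] [IsNoetherianRing R0]
    [IsAdicComplete (maximalIdeal R0) R0] [CommRing R] [Algebra R0 R] [Algebra.FiniteType R0 R] : CAlg.IsGRing R := by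
  haveI : IsNoetherianRing R := Algebra.FiniteType.isNoetherianRing R0 R
  exact isGRing_of_genericRegular (genericRegular_of_finiteType (R0 := R0))

end Groth.Agent.GRingCpl
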