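/-
Stability of G-rings: descent along regular maps, finite type algebras, maximal ideals, power series.
-/
import Mathlib
import Groth.Agent.GRingCpl.Complete
import Groth.Agent.GeomProp.RegLocal
import Groth.Agent.GeomProp.SmoothReg
import Groth.Agent.GeomProp.BaseChange
import Groth.Agent.FlatDepth.Regular
import Groth.Agent.DescentFT.Basic
import Groth.Agent.ResExt.Completion

set_option autoImplicit false
set_option linter.style.haveILetI false
universe u

open IsLocalRing TensorProduct

namespace Groth.Agent.GRingCpl

/-- Regularity of a homomorphism passes along algebra isomorphisms of the target. -/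
theorem isRegularHom_of_algEquiv {A B C : Type u} [CommRing A] [CommRing B] [CommRing C] [Algebra A B]
    [Algebra A C] (e : B ≃ₐ[A] C) (h : CAlg.IsRegularHom A C) : CAlg.IsRegularHom A B := by
  letI : Algebra B C := e.toAlgHom.toRingHom.toAlgebra
  haveI : IsScalarTower A B C := IsScalarTower.of_algebraMap_eq fun a => (e.commutes a).symm
  haveI : Module.Free B C := Module.Free.of_equiv
    (LinearEquiv.ofBijective (Algebra.linearMap B C) e.bijective)
  haveI : Nontrivial B → Nontrivial C := fun _ => e.toEquiv.symm.nontrivial
  haveI : Module.FaithfullyFlat B C := by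
    rcases subsingleton_or_nontrivial B with hB | hB
    · haveI : Subsingleton C := e.toEquiv.symm.subsingleton
      exact ⟨fun {m} hm => absurd (Subsingleton.elim m ⊤) hm.ne_top⟩
    · haveI : Nontrivial C := e.toEquiv.symm.nontrivial
      infer_instance
  exact FlatDepth.isRegularHom_descent (C := C) h

/-- Localisations are regular. -/
theorem isRegularHom_of_isLocalization {A A' : Type u} [CommRing A] [IsNoetherianRing A] [CommRing A']
    [Algebra A A'] (M : Submonoid A) [IsLocalization M A'] : CAlg.IsRegularHom A A' := by
  haveI : IsLocalization (⊥ : Submonoid A) A :=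
    IsLocalization.self fun x hx => by rw [Submonoid.mem_bot.mp hx]; exact isUnit_one
  exact GeomProp.regular_localizeBoth (R := A) (Λ := A) (R' := A) (Λ' := A') ⊥ M
    (GeomProp.isRegularHom_of_smooth A A)

/-- A regular map into a G-ring descends regularity of the completion. -/
theorem regular_cpl_atPrime_of_hom {A A' : Type u} [CommRing A] [CommRing A'] [IsNoetherianRing A]
    [Algebra A A'] (h : CAlg.IsRegularHom A A') (hA' : CAlg.IsGRing A') (P : Ideal A') [P.IsPrime]
    (p : Ideal A) [p.IsPrime] (hp : P.comap (algebraMap A A') = p) :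
    CAlg.IsRegularHom (Localization.AtPrime p)
      (AdicCompletion (maximalIdeal (Localization.AtPrime p)) (Localization.AtPrime p)) := by
  subst hp
  obtain ⟨_, hA'⟩ := hA'
  let Ap := Localization.AtPrime (P.comap (algebraMap A A'))
  letI := (Localization.localRingHom (Ideal.comap (algebraMap A A') P) P (algebraMap A A') rfl).toAlgebra
  haveI : IsScalarTower A Ap (Localization.AtPrime P) := IsScalarTower.of_algebraMap_eq fun r => by
    rw [RingHom.algebraMap_toAlgebra, Localization.localRingHom_to_map, ← IsScalarTower.algebraMap_apply]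
  haveI : IsNoetherianRing Ap := IsLocalization.isNoetherianRing (P.comap (algebraMap A A')).primeCompl _ inferInstance
  haveI : IsNoetherianRing (Localization.AtPrime P) := IsLocalization.isNoetherianRing P.primeCompl _ inferInstance
  haveI : IsLocalHom (algebraMap Ap (Localization.AtPrime P)) :=
    Localization.isLocalHom_localRingHom _ P (algebraMap A A') rfl
  exact FlatDepth.regular_cpl_of_hom Ap (Localization.AtPrime P)
    (GeomProp.regular_localizeBoth (R := A) (Λ := A') (P.comap (algebraMap A A')).primeCompl P.primeCompl h) (hA' P)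

/-- The map to the completion of a local ring of a G-ring is regular. -/
theorem isRegularHom_cpl {A : Type u} [CommRing A] [IsNoetherianRing A] (p : Ideal A) [p.IsPrime]
    (h : CAlg.IsRegularHom (Localization.AtPrime p)
      (AdicCompletion (maximalIdeal (Localization.AtPrime p)) (Localization.AtPrime p))) :
    CAlg.IsRegularHom A (AdicCompletion (maximalIdeal (Localization.AtPrime p)) (Localization.AtPrime p)) := by
  haveI : IsNoetherianRing (AdicCompletion (maximalIdeal (Localization.AtPrime p)) (Localization.AtPrime p)) :=
    ResExt.isNoetherianRing_adicCompletion _ (IsNoetherian.noetherian _)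
  exact FlatDepth.isRegularHom_comp (isRegularHom_of_isLocalization p.primeCompl) h fun q _ =>
    FlatDepth.isNoetherianRing_tensor_essFinite A _ q.ResidueField

/-- **Finite type algebras over G-rings are G-rings.** -/
theorem isGRing_of_finiteType {R S : Type u} [CommRing R] (hR : CAlg.IsGRing R) [CommRing S] [Algebra R S]
    [Algebra.FiniteType R S] : CAlg.IsGRing S := by
  obtain ⟨_, hR⟩ := hR
  haveI : IsNoetherianRing S := Algebra.FiniteType.isNoetherianRing R S
  refine ⟨inferInstance, fun q _ => ?_⟩
  let p := q.comap (algebraMap R S)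
  haveI : IsNoetherianRing (Localization.AtPrime p) := IsLocalization.isNoetherianRing p.primeCompl _ inferInstance
  let Rh := AdicCompletion (maximalIdeal (Localization.AtPrime p)) (Localization.AtPrime p)
  haveI : IsNoetherianRing Rh := ResExt.isNoetherianRing_adicCompletion _ (IsNoetherian.noetherian _)
  haveI : IsAdicComplete (maximalIdeal Rh) Rh := inferInstanceAs (IsAdicComplete
    (maximalIdeal (AdicCompletion (maximalIdeal (Localization.AtPrime p)) (Localization.AtPrime p)))
      (AdicCompletion (maximalIdeal (Localization.AtPrime p)) (Localization.AtPrime p)))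
  have h : CAlg.IsRegularHom S (S ⊗[R] Rh) :=
    GeomProp.regular_baseChange_finiteType R Rh S (isRegularHom_cpl p (hR p))
  letI : Algebra Rh (S ⊗[R] Rh) := (Algebra.TensorProduct.includeRight (R := R) (A := S) (B := Rh)).toRingHom.toAlgebra
  haveI : Algebra.FiniteType Rh (S ⊗[R] Rh) := Algebra.FiniteType.equiv (inferInstance : Algebra.FiniteType Rh (Rh ⊗[R] S))
    (AlgEquiv.ofRingEquiv (f := (Algebra.TensorProduct.comm R Rh S).toRingEquiv) fun x => rfl)
  have hm : PrimeSpectrum.comap (algebraMap R S) ⟨q, inferInstance⟩ =
      PrimeSpectrum.comap (algebraMap R Rh) ⟨maximalIdeal Rh, inferInstance⟩ := by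
    refine PrimeSpectrum.ext ?_
    show p = (maximalIdeal Rh).comap (algebraMap R Rh)
    rw [IsScalarTower.algebraMap_eq R (Localization.AtPrime p) Rh, ← Ideal.comap_comap, comap_maximalIdeal_cpl]
    exact (Localization.AtPrime.comap_maximalIdeal (I := p)).symm
  obtain ⟨w, hw⟩ := DescentFT.exists_prime_tensor R S Rh ⟨q, inferInstance⟩ ⟨maximalIdeal Rh, inferInstance⟩ hm
  exact regular_cpl_atPrime_of_hom h (isGRing_of_finiteType_complete (R0 := Rh) (S ⊗[R] Rh)) w.asIdeal q
    (congrArg PrimeSpectrum.asIdeal hw)

/-- **It is enough to test at maximal ideals.** -/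
theorem isGRing_of_maximal {R : Type u} [CommRing R] [IsNoetherianRing R]
    (h : ∀ (m : Ideal R) [m.IsMaximal], CAlg.IsRegularHom (Localization.AtPrime m)
      (AdicCompletion (maximalIdeal (Localization.AtPrime m)) (Localization.AtPrime m))) : CAlg.IsGRing R := by
  refine ⟨inferInstance, fun p _ => ?_⟩
  obtain ⟨m, hm, hpm⟩ := p.exists_le_maximal (Ideal.IsPrime.ne_top inferInstance)
  haveI : IsNoetherianRing (Localization.AtPrime m) := IsLocalization.isNoetherianRing m.primeCompl _ inferInstance
  let Rh := AdicCompletion (maximalIdeal (Localization.AtPrime m)) (Localization.AtPrime m)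
  haveI : IsNoetherianRing Rh := ResExt.isNoetherianRing_adicCompletion _ (IsNoetherian.noetherian _)
  haveI : IsAdicComplete (maximalIdeal Rh) Rh := inferInstanceAs (IsAdicComplete
    (maximalIdeal (AdicCompletion (maximalIdeal (Localization.AtPrime m)) (Localization.AtPrime m)))
      (AdicCompletion (maximalIdeal (Localization.AtPrime m)) (Localization.AtPrime m)))
  have hdisj : Disjoint (m.primeCompl : Set R) p := Set.disjoint_left.mpr fun x hx hxp => hx (hpm hxp)
  haveI := IsLocalization.isPrime_of_isPrime_disjoint m.primeCompl (Localization.AtPrime m) p inferInstance hdisj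
  haveI : Module.FaithfullyFlat (Localization.AtPrime m) Rh := Module.FaithfullyFlat.of_flat_of_isLocalHom
  obtain ⟨P, hP⟩ := PrimeSpectrum.comap_surjective_of_faithfullyFlat (B := Rh)
    ⟨p.map (algebraMap R (Localization.AtPrime m)), inferInstance⟩
  refine regular_cpl_atPrime_of_hom (isRegularHom_cpl m (h m)) (isGRing_of_finiteType_complete (R0 := Rh) Rh)
    P.asIdeal p ?_
  rw [IsScalarTower.algebraMap_eq R (Localization.AtPrime m) Rh, ← Ideal.comap_comap]
  rw [show P.asIdeal.comap (algebraMap (Localization.AtPrime m) Rh) = p.map (algebraMap R (Localization.AtPrime m)) from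
    congrArg PrimeSpectrum.asIdeal hP]
  exact IsLocalization.under_map_of_isPrime_disjoint m.primeCompl (Localization.AtPrime m) inferInstance hdisj

end Groth.Agent.GRingCpl
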