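/-
One-dimensional G-rings: the criterion through the generic formal fibre.
-/
import Mathlib
import Groth.Agent.GRingCpl.Main
import Groth.Agent.GRingCpl.Stability
import Groth.Agent.FlatDepth.Regular

set_option autoImplicit false
set_option linter.style.haveILetI false
universe u

open IsLocalRing TensorProduct

namespace Groth.Agent.GRingCpl

/-- The closed formal fibre is the residue field. -/
theorem geomRegular_closedFibre (A : Type u) [CommRing A] [IsLocalRing A] [IsNoetherianRing A] :
    CAlg.IsGeometricallyRegular (maximalIdeal A).ResidueField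
      ((maximalIdeal A).Fiber (AdicCompletion (maximalIdeal A) A)) := by
  let k := (maximalIdeal A).ResidueField
  let Ah := AdicCompletion (maximalIdeal A) A
  let F := (maximalIdeal A).Fiber Ah
  haveI : IsNoetherianRing Ah := ResExt.isNoetherianRing_adicCompletion _ (IsNoetherian.noetherian _)
  haveI : Module.FaithfullyFlat A Ah := Module.FaithfullyFlat.of_flat_of_isLocalHom
  have hsurj : Function.Surjective (algebraMap k F) := by
    intro z
    induction z using TensorProduct.induction_on with
    | zero => exact ⟨0, map_zero _⟩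
    | add x y hx hy =>
      obtain ⟨a, rfl⟩ := hx
      obtain ⟨b, rfl⟩ := hy
      exact ⟨a + b, map_add _ _ _⟩
    | tmul c x =>
      obtain ⟨α, hα⟩ := Cohen.exists_sub_mem_pow x 1
      rw [pow_one, AdicCompletion.maximalIdeal_eq_map] at hα
      have h0 : ∀ w ∈ (maximalIdeal A).map (algebraMap A Ah), c ⊗ₜ[A] w = (0 : F) := by
        intro w hw
        induction hw using Submodule.span_induction with
        | mem w hw =>
          obtain ⟨m, hm, rfl⟩ := hw
          rw [Algebra.algebraMap_eq_smul_one, ← TensorProduct.smul_tmul, Algebra.smul_def,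
            Ideal.algebraMap_residueField_eq_zero.mpr hm, zero_mul, TensorProduct.zero_tmul]
        | zero => rw [TensorProduct.tmul_zero]
        | add u v _ _ hu hv => rw [TensorProduct.tmul_add, hu, hv, add_zero]
        | smul r w _ hw =>
          rw [smul_eq_mul, show c ⊗ₜ[A] (r * w) = (c ⊗ₜ[A] w) * ((1 : k) ⊗ₜ[A] r) by
            rw [Algebra.TensorProduct.tmul_mul_tmul, mul_one, mul_comm w], hw, zero_mul]
      refine ⟨algebraMap A k α * c, ?_⟩
      show (algebraMap A k α * c) ⊗ₜ[A] (1 : Ah) = c ⊗ₜ[A] x
      rw [← Algebra.smul_def, TensorProduct.smul_tmul, ← Algebra.algebraMap_eq_smul_one]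
      exact (sub_eq_zero.mp (by rw [← TensorProduct.tmul_sub]; exact h0 _ hα)).symm
  haveI : Nontrivial F := inferInstanceAs (Nontrivial (k ⊗[A] Ah))
  let e : k ≃ₐ[k] F := AlgEquiv.ofBijective (Algebra.ofId k F) ⟨(algebraMap k F).injective, hsurj⟩
  intro k' _ _ _
  exact IsRegularRing.of_ringEquiv (R := k')
    ((Algebra.TensorProduct.rid k k k').symm.trans
      (Algebra.TensorProduct.congr (AlgEquiv.refl : k' ≃ₐ[k] k') e)).toRingEquiv

theorem isFractionRing_residueField_bot (R : Type u) [CommRing R] [IsDomain R] :
    IsFractionRing R (⊥ : Ideal R).ResidueField := by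
  haveI : FaithfulSMul R (⊥ : Ideal R).ResidueField :=
    (faithfulSMul_iff_algebraMap_injective _ _).mpr fun x y hxy => sub_eq_zero.mp (Ideal.mem_bot.mp
      (Ideal.algebraMap_residueField_eq_zero.mp (by rw [map_sub, hxy, sub_self])))
  refine IsFractionRing.of_field R _ fun w => ?_
  obtain ⟨u, v, -, rfl⟩ := IsFractionRing.div_surjective (A := R ⧸ (⊥ : Ideal R)) w
  obtain ⟨u, rfl⟩ := Ideal.Quotient.mk_surjective u
  obtain ⟨v, rfl⟩ := Ideal.Quotient.mk_surjective v
  exact ⟨u, v, rfl⟩

/-- A local domain of dimension at most one has regular completion map when the generic formal fibre is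
geometrically regular. -/
theorem isRegularHom_cpl_of_dimLEOne (A : Type u) [CommRing A] [IsDomain A] [IsLocalRing A] [IsNoetherianRing A]
    [Ring.DimensionLEOne A]
    (h : CAlg.IsGeometricallyRegular (⊥ : Ideal A).ResidueField
      ((⊥ : Ideal A).Fiber (AdicCompletion (maximalIdeal A) A))) :
    CAlg.IsRegularHom A (AdicCompletion (maximalIdeal A) A) := by
  haveI : IsNoetherianRing (AdicCompletion (maximalIdeal A) A) :=
    ResExt.isNoetherianRing_adicCompletion _ (IsNoetherian.noetherian _)
  refine ⟨inferInstance, fun p _ =>
    ⟨FlatDepth.isNoetherianRing_tensor_essFinite A _ p.ResidueField, ?_⟩⟩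
  by_cases hp : p = ⊥
  · subst hp; exact h
  · obtain rfl : p = maximalIdeal A := IsLocalRing.eq_maximalIdeal (Ideal.IsPrime.isMaximal inferInstance hp)
    exact geomRegular_closedFibre A

/-- Dedekind domains of characteristic zero are G-rings. -/
theorem isGRing_of_isDedekindDomain_charZero (A : Type u) [CommRing A] [IsDedekindDomain A] [CharZero A] :
    CAlg.IsGRing A := by
  refine isGRing_of_maximal fun m _ => ?_
  let Am := Localization.AtPrime m
  haveI : IsDomain Am := IsLocalization.isDomain_localization m.primeCompl_le_nonZeroDivisors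
  haveI : IsDedekindDomain Am := IsLocalization.isDedekindDomain A m.primeCompl_le_nonZeroDivisors _
  haveI : CharZero Am := charZero_of_injective_algebraMap (IsLocalization.injective Am m.primeCompl_le_nonZeroDivisors)
  refine isRegularHom_cpl_of_dimLEOne Am ?_
  haveI := isFractionRing_residueField_bot Am
  haveI : CharZero (⊥ : Ideal Am).ResidueField :=
    charZero_of_injective_algebraMap (IsFractionRing.injective Am (⊥ : Ideal Am).ResidueField)
  haveI : IsLocalization.AtPrime Am (maximalIdeal Am) :=
    IsLocalization.self fun x hx => IsLocalRing.notMem_maximalIdeal.mp hx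
  exact geomRegular_genericFibre_charZero (⊥ : Ideal Am).ResidueField (maximalIdeal Am) Am

end Groth.Agent.GRingCpl
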