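/-
Regular local homomorphisms are adically formally smooth.
-/
import Mathlib
import Groth.Agent.EGA41FS.FlatFibreAdic
import Groth.Agent.FlatDepth.Regular
import Groth.Agent.S4578
import Groth.Agent.S4537

set_option autoImplicit false
set_option linter.style.haveILetI false
universe u

open IsLocalRing TensorProduct

namespace Groth.Agent.GRingCpl

/-- Geometric regularity of the closed fibre, seen on the quotient. -/
theorem geomRegular_quotient_of_fibre {A B : Type u} [CommRing A] [CommRing B] [Algebra A B] [IsLocalRing A]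
    [Algebra (A ⧸ maximalIdeal A) (B ⧸ (maximalIdeal A).map (algebraMap A B))]
    [IsScalarTower A (A ⧸ maximalIdeal A) (B ⧸ (maximalIdeal A).map (algebraMap A B))]
    (k : Type u) [Field k] [Algebra A k] [Algebra (A ⧸ maximalIdeal A) k]
    [IsScalarTower A (A ⧸ maximalIdeal A) k] (hfin : Module.Finite (A ⧸ maximalIdeal A) k)
    (h : CAlg.IsGeometricallyRegular (maximalIdeal A).ResidueField ((maximalIdeal A).Fiber B)) :
    IsRegularRing (k ⊗[A ⧸ maximalIdeal A] (B ⧸ (maximalIdeal A).map (algebraMap A B))) := by
  let k₀ := A ⧸ maximalIdeal A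
  let e : k₀ ≃+* (maximalIdeal A).ResidueField :=
    RingEquiv.ofBijective (algebraMap k₀ (maximalIdeal A).ResidueField)
      ((maximalIdeal A).bijective_algebraMap_quotient_residueField)
  letI : Algebra (maximalIdeal A).ResidueField k := ((algebraMap k₀ k).comp e.symm.toRingHom).toAlgebra
  haveI : IsScalarTower A (maximalIdeal A).ResidueField k := IsScalarTower.of_algebraMap_eq fun a => by
    show algebraMap A k a = algebraMap k₀ k (e.symm (algebraMap A (maximalIdeal A).ResidueField a))
    rw [show algebraMap A (maximalIdeal A).ResidueField a = e (algebraMap A k₀ a) from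
      IsScalarTower.algebraMap_apply A k₀ (maximalIdeal A).ResidueField a, e.symm_apply_apply,
      ← IsScalarTower.algebraMap_apply]
  haveI : Module.Finite (maximalIdeal A).ResidueField k :=
    RingHom.finite_algebraMap.mp ((RingHom.finite_algebraMap.mpr hfin).comp
      (RingHom.Finite.of_surjective e.symm.toRingHom e.symm.surjective))
  obtain ⟨e0⟩ := FlatDepth.fiberTensor_equiv (A := A) (B := B) (maximalIdeal A) k
  haveI : IsRegularRing (k ⊗[A] B) := FlatDepth.isRegularRing_of_equiv _ _ e0 (h k inferInstance)
  haveI : TensorProduct.CompatibleSMul A k₀ k (B ⧸ (maximalIdeal A).map (algebraMap A B)) :=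
    ⟨fun r m n => by
      obtain ⟨a, rfl⟩ := Ideal.Quotient.mk_surjective r
      rw [show Ideal.Quotient.mk (maximalIdeal A) a = algebraMap A k₀ a from rfl, algebraMap_smul, algebraMap_smul,
        TensorProduct.smul_tmul]⟩
  let π : k ⊗[A] B →ₐ[A] k ⊗[A] (B ⧸ (maximalIdeal A).map (algebraMap A B)) :=
    Algebra.TensorProduct.map (AlgHom.id A k) (Ideal.Quotient.mkₐ A _)
  have hπ : Function.Bijective π := by
    refine ⟨(injective_iff_map_eq_zero π).mpr fun z hz => ?_,
      Algebra.TensorProduct.map_surjective _ _ Function.surjective_id Ideal.Quotient.mk_surjective⟩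
    obtain ⟨w, rfl⟩ := (lTensor_exact k (LinearMap.exact_subtype_ker_map (Ideal.Quotient.mkₐ A
      ((maximalIdeal A).map (algebraMap A B))).toLinearMap) Ideal.Quotient.mk_surjective z).mp hz
    clear hz
    induction w using TensorProduct.induction_on with
    | zero => rw [map_zero]
    | add a b ha hb => rw [map_add, ha, hb, add_zero]
    | tmul c x =>
      obtain ⟨x, hx0⟩ := x
      rw [LinearMap.lTensor_tmul, Submodule.subtype_apply]
      have hx : x ∈ (maximalIdeal A).map (algebraMap A B) := Ideal.Quotient.eq_zero_iff_mem.mp hx0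
      show c ⊗ₜ[A] x = 0
      clear hx0
      induction hx using Submodule.span_induction with
      | mem w hw =>
        obtain ⟨a, ha, rfl⟩ := hw
        rw [Algebra.algebraMap_eq_smul_one, ← TensorProduct.smul_tmul, Algebra.smul_def,
          IsScalarTower.algebraMap_apply A k₀ k, show algebraMap A k₀ a = 0 from Ideal.Quotient.eq_zero_iff_mem.mpr ha,
          map_zero, zero_mul, TensorProduct.zero_tmul]
      | zero => rw [TensorProduct.tmul_zero]
      | add u v _ _ hu hv => rw [TensorProduct.tmul_add, hu, hv, add_zero]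
      | smul r w _ hw =>
        rw [smul_eq_mul, show c ⊗ₜ[A] (r * w) = (c ⊗ₜ[A] w) * ((1 : k) ⊗ₜ[A] r) by
          rw [Algebra.TensorProduct.tmul_mul_tmul, mul_one, mul_comm w], hw, zero_mul]
  exact IsRegularRing.of_ringEquiv (R := k ⊗[A] B) ((AlgEquiv.ofBijective π hπ).toRingEquiv.trans
    (Algebra.TensorProduct.equivOfCompatibleSMul A k₀ k k (B ⧸ (maximalIdeal A).map (algebraMap A B))).symm.toRingEquiv)

/-- **Flat local homomorphisms with geometrically regular closed fibre are formally smooth.** -/
theorem isFormallySmoothAdic_of_closedFibre {A B : Type u} [CommRing A] [IsLocalRing A] [IsNoetherianRing A]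
    [CommRing B] [IsLocalRing B] [IsNoetherianRing B] [Algebra A B] [IsLocalHom (algebraMap A B)] [Module.Flat A B]
    (h : CAlg.IsGeometricallyRegular (maximalIdeal A).ResidueField ((maximalIdeal A).Fiber B)) :
    EGA41.IsFormallySmoothAdic A (maximalIdeal A) B (maximalIdeal B) := by
  have hle : (maximalIdeal A).map (algebraMap A B) ≤ maximalIdeal B := Ideal.map_le_iff_le_comap.mpr fun a ha =>
    map_nonunit (algebraMap A B) a ha
  refine EGA41FS.isFormallySmoothAdic_of_flat_fibre (maximalIdeal A) (maximalIdeal A) (maximalIdeal B) hle hle ?_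
  haveI : Nontrivial (B ⧸ (maximalIdeal A).map (algebraMap A B)) :=
    Ideal.Quotient.nontrivial_iff.mpr fun h0 => (maximalIdeal.isMaximal B).ne_top (top_le_iff.mp (h0 ▸ hle))
  haveI : IsLocalRing (B ⧸ (maximalIdeal A).map (algebraMap A B)) :=
    IsLocalRing.of_surjective' (Ideal.Quotient.mk _) Ideal.Quotient.mk_surjective
  letI : Field (A ⧸ maximalIdeal A) := Ideal.Quotient.field _
  rw [Ideal.map_quotient_self, show (maximalIdeal B).map (Ideal.Quotient.mk ((maximalIdeal A).map (algebraMap A B))) =
    maximalIdeal _ from (IsLocalRing.map_maximalIdeal_of_surjective _ Ideal.Quotient.mk_surjective)]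
  refine (S4537.result _).mp (S4578.adic_iff_geomRegular.mpr fun k _ _ hfin => ?_)
  letI : Algebra A k := ((algebraMap (A ⧸ maximalIdeal A) k).comp (Ideal.Quotient.mk (maximalIdeal A))).toAlgebra
  haveI : IsScalarTower A (A ⧸ maximalIdeal A) k := IsScalarTower.of_algebraMap_eq fun _ => rfl
  exact geomRegular_quotient_of_fibre k hfin h

end Groth.Agent.GRingCpl
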