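/-
Base changes of local rings along maps without residue extension.
-/
import Mathlib
import Groth.Agent.FinComplete.Basic
import Groth.Agent.GRingCpl.RegFS

set_option autoImplicit false
set_option linter.style.haveILetI false
universe u

open IsLocalRing TensorProduct

namespace Groth.Agent.GRingCpl

/-- Formal smoothness for the maximal ideals gives the discrete base version. -/
theorem isAdicFormallySmooth_of_maximal {A B : Type u} [CommRing A] [CommRing B] [Algebra A B] (𝔞 : Ideal A)
    (𝔟 : Ideal B) (hle : 𝔞.map (algebraMap A B) ≤ 𝔟) (h : EGA41.IsFormallySmoothAdic A 𝔞 B 𝔟) :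
    CAlgX.IsAdicFormallySmooth A B 𝔟 := by
  intro C _ _ J hJ ψ hψ
  obtain ⟨k, hk⟩ := hψ
  refine h C J ⟨2, hJ⟩ ⟨k * 2, ?_⟩ ψ ⟨k, hk⟩
  rw [pow_mul, Ideal.map_pow]
  refine le_bot_iff.mp ((Ideal.pow_right_mono (Ideal.map_le_iff_le_comap.mpr fun a ha => ?_) 2).trans hJ.le)
  have h1 : algebraMap A B a ∈ 𝔟 ^ k := by
    refine Ideal.pow_right_mono hle k ?_
    rw [← Ideal.map_pow]
    exact Ideal.mem_map_of_mem _ ha
  have h2 := hk _ h1
  rw [AlgHom.commutes, IsScalarTower.algebraMap_apply A C (C ⧸ J), Ideal.Quotient.algebraMap_eq,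
    Ideal.Quotient.eq_zero_iff_mem] at h2
  exact h2

/-- The closed fibre of a lift is the fibre it lifts. -/
theorem exists_fibre_algEquiv {R S k F : Type u} [CommRing R] [IsLocalRing R] [CommRing S] [Algebra R S] [Field k]
    [Algebra R k] [CommRing F] [Algebra k F] [Algebra R F] [IsScalarTower R k F]
    (hk : Function.Surjective (algebraMap R k)) (ρ : S →ₐ[R] F) (hρ : Function.Surjective ρ)
    (hker : ∀ x, ρ x = 0 → x ∈ (maximalIdeal R).map (algebraMap R S)) : Nonempty (k ⊗[R] S ≃ₐ[k] F) := by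
  have hm : ∀ a ∈ maximalIdeal R, algebraMap R k a = 0 := by
    intro a ha
    haveI : (RingHom.ker (algebraMap R k)).IsMaximal := RingHom.ker_isMaximal_of_surjective _ hk
    rw [← RingHom.mem_ker, IsLocalRing.eq_maximalIdeal (inferInstance : (RingHom.ker (algebraMap R k)).IsMaximal)]
    exact ha
  let Φ : k ⊗[R] S →ₐ[k] F := Algebra.TensorProduct.lift (Algebra.ofId k F) ρ fun _ _ => mul_comm _ _
  have hΦ : ∀ s, Φ ((1 : k) ⊗ₜ[R] s) = ρ s := fun s => by
    rw [Algebra.TensorProduct.lift_tmul, map_one, one_mul]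
  have hone : ∀ z : k ⊗[R] S, ∃ s, z = (1 : k) ⊗ₜ[R] s := fun z => by
    induction z using TensorProduct.induction_on with
    | zero => exact ⟨0, by rw [TensorProduct.tmul_zero]⟩
    | tmul c s =>
      obtain ⟨r, rfl⟩ := hk c
      exact ⟨r • s, by rw [Algebra.algebraMap_eq_smul_one, TensorProduct.smul_tmul]⟩
    | add a b ha hb =>
      obtain ⟨s, rfl⟩ := ha
      obtain ⟨t, rfl⟩ := hb
      exact ⟨s + t, by rw [TensorProduct.tmul_add]⟩
  refine ⟨AlgEquiv.ofBijective Φ ⟨(injective_iff_map_eq_zero Φ).mpr fun z hz => ?_, fun y => ?_⟩⟩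
  · obtain ⟨s, rfl⟩ := hone z
    rw [hΦ] at hz
    have hs := hker s hz
    clear hz
    induction hs using Submodule.span_induction with
    | mem w hw =>
      obtain ⟨a, ha, rfl⟩ := hw
      rw [Algebra.algebraMap_eq_smul_one, ← TensorProduct.smul_tmul, Algebra.smul_def, hm a ha, zero_mul,
        TensorProduct.zero_tmul]
    | zero => rw [TensorProduct.tmul_zero]
    | add u v _ _ hu hv => rw [TensorProduct.tmul_add, hu, hv, add_zero]
    | smul r w _ hw =>
      rw [smul_eq_mul, show (1 : k) ⊗ₜ[R] (r * w) = ((1 : k) ⊗ₜ[R] r) * ((1 : k) ⊗ₜ[R] w) by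
        rw [Algebra.TensorProduct.tmul_mul_tmul, one_mul], hw, mul_zero]
  · obtain ⟨s, rfl⟩ := hρ y
    exact ⟨_, hΦ s⟩

attribute [local instance] Algebra.TensorProduct.rightAlgebra in
/-- Finite base change without residue extension keeps complete local rings local and complete. -/
theorem baseChange_local {R S D : Type u} [CommRing R] [IsLocalRing R] [CommRing S] [IsLocalRing S]
    [IsNoetherianRing S] [IsAdicComplete (maximalIdeal S) S] [Algebra R S] [IsLocalHom (algebraMap R S)]
    [CommRing D] [IsLocalRing D] [Algebra R D] [Module.Finite R D]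
    (hres : ∀ d : D, ∃ r : R, d - algebraMap R D r ∈ maximalIdeal D) [Nontrivial (D ⊗[R] S)] :
    ∃ (_ : IsLocalRing (D ⊗[R] S)), IsNoetherianRing (D ⊗[R] S) ∧
      IsLocalHom (algebraMap D (D ⊗[R] S)) ∧ IsAdicComplete (maximalIdeal (D ⊗[R] S)) (D ⊗[R] S) := by
  let T := D ⊗[R] S
  haveI : Module.Finite S T := Module.Finite.equiv ({ (Algebra.TensorProduct.comm R S D).toLinearEquiv.toAddEquiv with
    map_smul' := fun s x => by
      show (Algebra.TensorProduct.comm R S D) (s • x) = s • (Algebra.TensorProduct.comm R S D) x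
      rw [Algebra.smul_def, Algebra.smul_def, map_mul]
      rfl } : (S ⊗[R] D) ≃ₗ[S] T)
  haveI : Algebra.IsIntegral S T := Algebra.IsIntegral.of_finite S T
  have hS : ∀ (M : Ideal T), M.IsMaximal → M.comap (algebraMap S T) = maximalIdeal S := fun M hM =>
    IsLocalRing.eq_maximalIdeal (Ideal.isMaximal_comap_of_isIntegral_of_isMaximal M)
  have hD : ∀ (M : Ideal T), M.IsMaximal → M.comap (algebraMap D T) = maximalIdeal D := by
    intro M hM
    haveI := hM
    haveI : Algebra.IsIntegral R D := Algebra.IsIntegral.of_finite R D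
    have h1 : (M.comap (algebraMap D T)).comap (algebraMap R D) = maximalIdeal R := by
      rw [Ideal.comap_comap, ← IsScalarTower.algebraMap_eq R D T,
        show algebraMap R T = (algebraMap S T).comp (algebraMap R S) from RingHom.ext fun a => by
          show algebraMap R D a ⊗ₜ[R] (1 : S) = (1 : D) ⊗ₜ[R] algebraMap R S a
          rw [Algebra.algebraMap_eq_smul_one, Algebra.algebraMap_eq_smul_one, TensorProduct.smul_tmul],
        ← Ideal.comap_comap, hS M hM]
      exact ((IsLocalRing.local_hom_TFAE (algebraMap R S)).out 0 4).mp (inferInstance : IsLocalHom (algebraMap R S))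
    haveI : ((M.comap (algebraMap D T)).comap (algebraMap R D)).IsMaximal := h1 ▸ maximalIdeal.isMaximal R
    exact IsLocalRing.eq_maximalIdeal (Ideal.isMaximal_of_isIntegral_of_isMaximal_comap (R := R) _ inferInstance)
  have happ : ∀ x : T, ∃ s : S, ∀ (M : Ideal T), M.IsMaximal → (x ∈ M ↔ s ∈ maximalIdeal S) := by
    suffices h : ∀ x : T, ∃ s : S, ∀ (M : Ideal T), M.IsMaximal → x - algebraMap S T s ∈ M by
      intro x
      obtain ⟨s, hs⟩ := h x
      refine ⟨s, fun M hM => ?_⟩
      rw [← hS M hM, Ideal.mem_comap]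
      exact ⟨fun hx => by simpa using M.sub_mem hx (hs M hM), fun hx => by simpa using M.add_mem (hs M hM) hx⟩
    intro x
    induction x using TensorProduct.induction_on with
    | zero => exact ⟨0, fun M _ => by simp⟩
    | tmul d s =>
      obtain ⟨r, hr⟩ := hres d
      refine ⟨r • s, fun M hM => ?_⟩
      have h : d ⊗ₜ[R] s - algebraMap S T (r • s) = algebraMap D T (d - algebraMap R D r) * ((1 : D) ⊗ₜ[R] s) := by
        show d ⊗ₜ[R] s - (1 : D) ⊗ₜ[R] (r • s) = ((d - algebraMap R D r) ⊗ₜ[R] (1 : S)) * ((1 : D) ⊗ₜ[R] s)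
        rw [Algebra.TensorProduct.tmul_mul_tmul, mul_one, one_mul, TensorProduct.sub_tmul, ← TensorProduct.smul_tmul,
          Algebra.algebraMap_eq_smul_one]
      rw [h]
      refine M.mul_mem_right _ ?_
      rw [← Ideal.mem_comap, hD M hM]
      exact hr
    | add a b ha hb =>
      obtain ⟨s, hs⟩ := ha
      obtain ⟨t, ht⟩ := hb
      exact ⟨s + t, fun M hM => by rw [map_add, add_sub_add_comm]; exact M.add_mem (hs M hM) (ht M hM)⟩
  obtain ⟨M, hM⟩ := Ideal.exists_maximal T
  haveI : IsLocalRing T := IsLocalRing.of_unique_max_ideal ⟨M, hM, fun N hN => Ideal.ext fun x => by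
    obtain ⟨s, hs⟩ := happ x
    rw [hs N hN, hs M hM]⟩
  refine ⟨inferInstance, IsNoetherianRing.of_finite S T, ⟨fun d hd => ?_⟩, FinComplete.isAdicComplete_of_isLocalRing S T⟩
  by_contra h
  have h1 : d ∈ (maximalIdeal T).comap (algebraMap D T) := by
    rw [hD _ (maximalIdeal.isMaximal T)]
    exact (IsLocalRing.mem_maximalIdeal _).mpr h
  exact (IsLocalRing.notMem_maximalIdeal.mpr hd) h1

end Groth.Agent.GRingCpl
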