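/-
Formal fibres along quasi-finite maps.
-/
import Mathlib
import Groth.Agent.GRingCpl.Decomp
import Groth.Agent.FlatDepth.Regular
import Groth.Agent.ResExt.Completion

set_option autoImplicit false
set_option linter.style.haveILetI false
universe u

open IsLocalRing TensorProduct

namespace Groth.Agent.GRingCpl

/-- The kernel of a base changed local factor is killed by units of the factor. -/
theorem exists_kill_baseChange {B T S K : Type u} [CommRing B] [CommRing T] [CommRing S] [CommRing K] [Algebra B T]
    [Algebra B S] [Algebra B K] (φ : T →ₐ[B] S) (hφ : Function.Surjective φ)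
    (hker : ∀ x, φ x = 0 → ∃ y, IsUnit (φ y) ∧ y * x = 0) (z : K ⊗[B] T)
    (hz : Algebra.TensorProduct.map (AlgHom.id B K) φ z = 0) :
    ∃ y, IsUnit (Algebra.TensorProduct.map (AlgHom.id B K) φ y) ∧ y * z = 0 := by
  let ψ := Algebra.TensorProduct.map (AlgHom.id B K) φ
  obtain ⟨w, rfl⟩ := (lTensor_exact K (LinearMap.exact_subtype_ker_map φ.toLinearMap) hφ z).mp hz
  suffices ∃ y, IsUnit (φ y) ∧ ((1 : K) ⊗ₜ[B] y) * LinearMap.lTensor K (LinearMap.ker φ.toLinearMap).subtype w = 0 by
    obtain ⟨y, hy, hyw⟩ := this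
    exact ⟨(1 : K) ⊗ₜ[B] y, hy.map (Algebra.TensorProduct.includeRight (R := B) (A := K) (B := S)), hyw⟩
  clear hz
  induction w using TensorProduct.induction_on with
  | zero => exact ⟨1, by rw [map_one]; exact isUnit_one, by simp⟩
  | tmul c x =>
    obtain ⟨y, hy, hyx⟩ := hker x.1 x.2
    refine ⟨y, hy, ?_⟩
    rw [LinearMap.lTensor_tmul, Algebra.TensorProduct.tmul_mul_tmul, Submodule.subtype_apply, hyx, TensorProduct.tmul_zero]
  | add a b ha hb =>
    obtain ⟨y, hy, hya⟩ := ha
    obtain ⟨y', hy', hyb⟩ := hb
    refine ⟨y * y', by rw [map_mul]; exact hy.mul hy', ?_⟩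
    rw [map_add, mul_add, show (1 : K) ⊗ₜ[B] (y * y') = ((1 : K) ⊗ₜ[B] y) * ((1 : K) ⊗ₜ[B] y') by
      rw [Algebra.TensorProduct.tmul_mul_tmul, one_mul]]
    rw [mul_assoc _ _ (LinearMap.lTensor K _ b), hyb, mul_zero, mul_right_comm, hya, zero_mul, add_zero]

/-- Base changes of a local factor of a ring are regular when those of the ring are. -/
theorem regular_baseChange_factor {B T S K : Type u} [CommRing B] [CommRing T] [CommRing S] [CommRing K] [Algebra B T]
    [Algebra B S] [Algebra B K] (φ : T →ₐ[B] S) (hφ : Function.Surjective φ)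
    (hker : ∀ x, φ x = 0 → ∃ y, IsUnit (φ y) ∧ y * x = 0) (h : IsRegularRing (K ⊗[B] T)) :
    IsRegularRing (K ⊗[B] S) := by
  let ψ := Algebra.TensorProduct.map (AlgHom.id B K) φ
  have hψ : Function.Surjective ψ := Algebra.TensorProduct.map_surjective _ _ Function.surjective_id hφ
  haveI := h
  haveI : IsNoetherianRing (K ⊗[B] S) := isNoetherianRing_of_surjective (K ⊗[B] T) (K ⊗[B] S) ψ.toRingHom hψ
  refine isRegularRing_iff.mpr fun Q _ => ?_
  obtain ⟨e⟩ := exists_equiv_atPrime ψ.toRingHom hψ (exists_kill_baseChange φ hφ hker) Q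
  haveI : IsRegularLocalRing (Localization.AtPrime (Q.comap ψ.toRingHom)) :=
    IsRegularRing.isRegularLocalRing_localization _
  exact IsRegularLocalRing.of_ringEquiv (R := Localization.AtPrime (Q.comap ψ.toRingHom)) e

/-- A field of fractions of the image of a finite algebra is finite. -/
theorem finite_of_fractions {R B : Type u} [CommRing R] [CommRing B] [Algebra R B] [Module.Finite R B]
    (K L : Type u) [Field K] [Field L] [Algebra R K] [Algebra B L] [Algebra R L] [IsScalarTower R B L]
    [Algebra K L] [IsScalarTower R K L] (hgen : ∀ z : L, ∃ a b : B, z = algebraMap B L a / algebraMap B L b) :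
    Module.Finite K L := by
  classical
  obtain ⟨s, hs⟩ := (inferInstance : Module.Finite R B)
  let g := IsScalarTower.toAlgHom R B L
  let E := Algebra.adjoin K (g '' (s : Set B))
  have hint : ∀ x ∈ g '' (s : Set B), IsIntegral K x := by
    rintro _ ⟨c, -, rfl⟩
    exact ((Algebra.IsIntegral.isIntegral (R := R) c).map g).tower_top
  haveI : Module.Finite K E := Module.Finite.iff_fg.mpr (fg_adjoin_of_finite (s.finite_toSet.image g) hint)
  have hC : ∀ c : B, algebraMap B L c ∈ E := fun c => by
    have hc : c ∈ Submodule.span R (s : Set B) := hs ▸ Submodule.mem_top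
    induction hc using Submodule.span_induction with
    | mem x hx => exact Algebra.subset_adjoin ⟨x, hx, rfl⟩
    | zero => rw [map_zero]; exact zero_mem _
    | add x y _ _ hx hy => rw [map_add]; exact add_mem hx hy
    | smul a x _ hx =>
      show g (a • x) ∈ E
      rw [map_smul, ← algebraMap_smul K a]
      exact Subalgebra.smul_mem _ hx _
  have htop : E = ⊤ := eq_top_iff.mpr fun z _ => by
    obtain ⟨c, d, rfl⟩ := hgen z
    rw [div_eq_mul_inv]
    exact mul_mem (hC c) (Subalgebra.inv_mem_of_algebraic (A := E) (x := (⟨_, hC d⟩ : E))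
      (IsIntegral.of_finite K (⟨_, hC d⟩ : E)).isAlgebraic.algebraMap)
  exact Module.Finite.equiv ((Subalgebra.equivOfEq _ _ htop).trans Subalgebra.topEquiv).toLinearEquiv

/-- **Formal fibres along finite maps.** -/
theorem geomRegular_fibre_finite {R B : Type u} [CommRing R] [IsNoetherianRing R] [CommRing B] [Algebra R B]
    [Module.Finite R B] (n : Ideal B) [n.IsPrime] (Bn : Type u) [CommRing Bn] [IsLocalRing Bn] [Algebra B Bn]
    [IsLocalization.AtPrime Bn n] (P : Ideal R) [P.IsPrime] (hP : n.comap (algebraMap R B) = P)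
    (Q' : Ideal Bn) [Q'.IsPrime] (Q : Ideal (Localization.AtPrime P)) [Q.IsPrime]
    (hQ : Q.comap (algebraMap R (Localization.AtPrime P)) = (Q'.comap (algebraMap B Bn)).comap (algebraMap R B))
    (h : CAlg.IsGeometricallyRegular Q.ResidueField
      (Q.Fiber (AdicCompletion (maximalIdeal (Localization.AtPrime P)) (Localization.AtPrime P)))) :
    CAlg.IsGeometricallyRegular Q'.ResidueField (Q'.Fiber (AdicCompletion (maximalIdeal Bn) Bn)) := by
  intro k' _ _ hk'
  haveI := hk'
  let Ap := Localization.AtPrime P
  let Ah := AdicCompletion (maximalIdeal Ap) Ap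
  let S := AdicCompletion (maximalIdeal Bn) Bn
  letI : Algebra R Bn := ((algebraMap B Bn).comp (algebraMap R B)).toAlgebra
  haveI : IsScalarTower R B Bn := IsScalarTower.of_algebraMap_eq fun _ => rfl
  letI : Algebra Bn k' := ((algebraMap Q'.ResidueField k').comp (algebraMap Bn Q'.ResidueField)).toAlgebra
  haveI : IsScalarTower Bn Q'.ResidueField k' := IsScalarTower.of_algebraMap_eq fun _ => rfl
  letI : Algebra B k' := ((algebraMap Bn k').comp (algebraMap B Bn)).toAlgebra
  haveI : IsScalarTower B Bn k' := IsScalarTower.of_algebraMap_eq fun _ => rfl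
  letI : Algebra R k' := ((algebraMap B k').comp (algebraMap R B)).toAlgebra
  haveI : IsScalarTower R B k' := IsScalarTower.of_algebraMap_eq fun _ => rfl
  -- the residue field below
  have hk : ∀ x : R, algebraMap R k' x = 0 ↔ x ∈ (Q'.comap (algebraMap B Bn)).comap (algebraMap R B) := fun x => by
    show algebraMap Q'.ResidueField k' (algebraMap Bn Q'.ResidueField (algebraMap B Bn (algebraMap R B x))) = 0 ↔ _
    rw [map_eq_zero, Ideal.algebraMap_residueField_eq_zero]
    rfl
  have hu : ∀ s : P.primeCompl, IsUnit (algebraMap R k' s) := fun s => IsUnit.mk0 _ fun h0 => by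
    rw [hk, ← hQ, Ideal.mem_comap] at h0
    exact (inferInstance : Q.IsPrime).ne_top (Ideal.eq_top_of_isUnit_mem _ h0 (IsLocalization.map_units Ap s))
  letI : Algebra Ap k' := (IsLocalization.lift (S := Ap) hu).toAlgebra
  haveI : IsScalarTower R Ap k' := IsScalarTower.of_algebraMap_eq fun a => (IsLocalization.lift_eq hu a).symm
  have hker : ∀ z : Ap, algebraMap Ap k' z = 0 ↔ z ∈ Q := fun z => by
    obtain ⟨a, t, rfl⟩ := IsLocalization.exists_mk'_eq P.primeCompl z
    have h1 : algebraMap Ap k' (IsLocalization.mk' Ap a t) * algebraMap R k' t = algebraMap R k' a := by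
      rw [IsScalarTower.algebraMap_apply R Ap k', IsScalarTower.algebraMap_apply R Ap k', ← map_mul,
        IsLocalization.mk'_spec]
    rw [← Ideal.mul_unit_mem_iff_mem Q (IsLocalization.map_units Ap t), IsLocalization.mk'_spec, ← Ideal.mem_comap,
      hQ, ← hk, ← h1, mul_eq_zero, or_iff_left (hu t).ne_zero]
  letI : Algebra Q.ResidueField k' := (Ideal.ResidueField.lift Q (algebraMap Ap k')
    (fun z hz => (hker z).mpr hz) fun z hz => IsUnit.mk0 _ fun h0 => hz ((hker z).mp h0)).toAlgebra
  haveI : IsScalarTower Ap Q.ResidueField k' := IsScalarTower.of_algebraMap_eq fun z =>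
    (Ideal.ResidueField.lift_algebraMap Q (algebraMap Ap k') _ _ z).symm
  haveI : IsScalarTower R Q.ResidueField k' := IsScalarTower.of_algebraMap_eq fun a => by
    rw [IsScalarTower.algebraMap_apply R Ap k', IsScalarTower.algebraMap_apply Ap Q.ResidueField k',
      ← IsScalarTower.algebraMap_apply R Ap Q.ResidueField]
  haveI : Module.Finite Q.ResidueField k' := by
    let q0 := Q'.comap (algebraMap B Bn)
    haveI : q0.IsPrime := Ideal.IsPrime.comap _
    have hgen : ∀ z : Q'.ResidueField, ∃ a b : B,
        z = algebraMap B Q'.ResidueField a / algebraMap B Q'.ResidueField b := fun z => by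
      obtain ⟨u, v, -, rfl⟩ := IsFractionRing.div_surjective (A := Bn ⧸ Q') z
      obtain ⟨u, rfl⟩ := Ideal.Quotient.mk_surjective u
      obtain ⟨v, rfl⟩ := Ideal.Quotient.mk_surjective v
      obtain ⟨a, s, rfl⟩ := IsLocalization.exists_mk'_eq n.primeCompl u
      obtain ⟨b, t, rfl⟩ := IsLocalization.exists_mk'_eq n.primeCompl v
      have key : ∀ (x : B) (y : n.primeCompl),
          algebraMap (Bn ⧸ Q') Q'.ResidueField (Ideal.Quotient.mk Q' (IsLocalization.mk' Bn x y)) =
            algebraMap B Q'.ResidueField x / algebraMap B Q'.ResidueField y := fun x y => by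
        have hy : algebraMap B Q'.ResidueField y ≠ 0 := fun h0 => by
          rw [IsScalarTower.algebraMap_apply B Bn Q'.ResidueField, Ideal.algebraMap_residueField_eq_zero] at h0
          exact (inferInstance : Q'.IsPrime).ne_top (Ideal.eq_top_of_isUnit_mem _ h0 (IsLocalization.map_units Bn y))
        rw [eq_div_iff hy, ← Ideal.Quotient.algebraMap_eq, ← IsScalarTower.algebraMap_apply Bn (Bn ⧸ Q'),
          IsScalarTower.algebraMap_apply B Bn Q'.ResidueField, IsScalarTower.algebraMap_apply B Bn Q'.ResidueField,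
          ← map_mul, IsLocalization.mk'_spec]
      refine ⟨a * t, b * s, ?_⟩
      rw [key, key, div_div_div_eq, map_mul, map_mul, mul_comm (algebraMap B Q'.ResidueField (b : B))]
    have hQ'R : ∀ x : R, x ∈ Q.comap (algebraMap R Ap) → algebraMap R Q'.ResidueField x = 0 := fun x hx => by
      rw [hQ] at hx
      rw [IsScalarTower.algebraMap_apply R B Q'.ResidueField, IsScalarTower.algebraMap_apply B Bn Q'.ResidueField,
        Ideal.algebraMap_residueField_eq_zero]
      exact hx
    have hu' : ∀ s : P.primeCompl, IsUnit (algebraMap R Q'.ResidueField s) := fun s => by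
      have h1 := hu s
      rw [show algebraMap R k' s = algebraMap Q'.ResidueField k' (algebraMap R Q'.ResidueField s) by
        rw [IsScalarTower.algebraMap_apply R B Q'.ResidueField, IsScalarTower.algebraMap_apply B Bn Q'.ResidueField]
        rfl] at h1
      exact IsUnit.mk0 _ fun h0 => h1.ne_zero (by rw [h0, map_zero])
    letI : Algebra Ap Q'.ResidueField := (IsLocalization.lift (S := Ap) hu').toAlgebra
    haveI : IsScalarTower R Ap Q'.ResidueField :=
      IsScalarTower.of_algebraMap_eq fun a => (IsLocalization.lift_eq hu' a).symm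
    haveI : IsScalarTower R Q'.ResidueField k' := IsScalarTower.of_algebraMap_eq fun a => by
      rw [IsScalarTower.algebraMap_apply R B Q'.ResidueField, IsScalarTower.algebraMap_apply B Bn Q'.ResidueField]
      rfl
    have hcomp : (algebraMap Q'.ResidueField k').comp (algebraMap Ap Q'.ResidueField) = algebraMap Ap k' :=
      IsLocalization.ringHom_ext P.primeCompl (RingHom.ext fun a => by
        rw [RingHom.comp_apply, RingHom.comp_apply, RingHom.comp_apply, ← IsScalarTower.algebraMap_apply R Ap,
          ← IsScalarTower.algebraMap_apply R Ap, ← IsScalarTower.algebraMap_apply])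
    have hker' : ∀ z : Ap, algebraMap Ap Q'.ResidueField z = 0 ↔ z ∈ Q := fun z => by
      rw [← hker z, ← RingHom.congr_fun hcomp z, RingHom.comp_apply]
      exact (map_eq_zero _).symm
    letI : Algebra Q.ResidueField Q'.ResidueField := (Ideal.ResidueField.lift Q (algebraMap Ap Q'.ResidueField)
      (fun z hz => (hker' z).mpr hz) fun z hz => IsUnit.mk0 _ fun h0 => hz ((hker' z).mp h0)).toAlgebra
    haveI : IsScalarTower R Q.ResidueField Q'.ResidueField := IsScalarTower.of_algebraMap_eq fun a => by
      rw [IsScalarTower.algebraMap_apply R Ap Q.ResidueField]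
      exact ((Ideal.ResidueField.lift_algebraMap Q (algebraMap Ap Q'.ResidueField) _ _ _).trans
        (IsScalarTower.algebraMap_apply R Ap Q'.ResidueField a).symm).symm
    haveI : Module.Finite Q.ResidueField Q'.ResidueField := finite_of_fractions (R := R) (B := B) _ _ hgen
    haveI : IsScalarTower Q.ResidueField Q'.ResidueField k' := IsScalarTower.of_algebraMap_eq' <|
      Ideal.ResidueField.ringHom_ext (RingHom.ext fun z => by
        show algebraMap Q.ResidueField k' (algebraMap Ap Q.ResidueField z) = algebraMap Q'.ResidueField k' _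
        rw [← IsScalarTower.algebraMap_apply Ap Q.ResidueField k',
          show algebraMap Q.ResidueField Q'.ResidueField (algebraMap Ap Q.ResidueField z) = algebraMap Ap Q'.ResidueField z from
            Ideal.ResidueField.lift_algebraMap Q (algebraMap Ap Q'.ResidueField) _ _ _]
        exact (RingHom.congr_fun hcomp z).symm)
    exact Module.Finite.trans Q'.ResidueField k'
  -- regularity of the base change below
  obtain ⟨e0⟩ := FlatDepth.fiberTensor_equiv (A := Ap) (B := Ah) Q k'
  haveI : IsRegularRing (k' ⊗[Ap] Ah) := FlatDepth.isRegularRing_of_equiv _ _ e0 (h k' inferInstance)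
  haveI : TensorProduct.CompatibleSMul R Ap k' Ah :=
    IsLocalization.tensorProduct_compatibleSMul P.primeCompl Ap k' Ah
  haveI : IsRegularRing (k' ⊗[R] Ah) := IsRegularRing.of_ringEquiv (R := k' ⊗[Ap] Ah)
    (Algebra.TensorProduct.equivOfCompatibleSMul R Ap k' k' Ah).toRingEquiv
  obtain ⟨φ, hφ, hφB, hkill⟩ := exists_proj P Ap n Bn hP
  let c := Algebra.TensorProduct.comm R B Ah
  let φB : B ⊗[R] Ah →ₐ[B] S :=
    { φ.comp c.toRingEquiv.toRingHom with
      commutes' := fun b => by
        show φ (c (b ⊗ₜ[R] 1)) = algebraMap B S b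
        rw [Algebra.TensorProduct.comm_tmul, hφB, ← IsScalarTower.algebraMap_apply B Bn S] }
  haveI : IsRegularRing (k' ⊗[B] (B ⊗[R] Ah)) := IsRegularRing.of_ringEquiv (R := k' ⊗[R] Ah)
    (Algebra.TensorProduct.cancelBaseChange R B B k' Ah).symm.toRingEquiv
  haveI : IsRegularRing (k' ⊗[B] S) := regular_baseChange_factor φB (hφ.comp c.surjective)
    (fun x hx => by
      obtain ⟨y, hy, hyx⟩ := hkill (c x) hx
      refine ⟨c.symm y, ?_, c.injective ?_⟩
      · show IsUnit (φ (c (c.symm y)))
        rwa [c.apply_symm_apply]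
      · rw [map_mul, c.apply_symm_apply, hyx, map_zero]) inferInstance
  haveI : TensorProduct.CompatibleSMul B Bn k' S := IsLocalization.tensorProduct_compatibleSMul n.primeCompl Bn k' S
  haveI : IsRegularRing (k' ⊗[Bn] S) := IsRegularRing.of_ringEquiv (R := k' ⊗[B] S)
    (Algebra.TensorProduct.equivOfCompatibleSMul B Bn k' k' S).symm.toRingEquiv
  obtain ⟨e1⟩ := FlatDepth.fiberTensor_equiv (A := Bn) (B := S) Q' k'
  exact FlatDepth.isRegularRing_of_equiv _ _ e1.symm inferInstance

/-- Zariski's main theorem, elementwise: powers of the element push the algebra into the finite subalgebra. -/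
theorem exists_pow_mul_mem {R R' : Type u} [CommRing R] [CommRing R'] [Algebra R R'] (S' : Subalgebra R R') (r : S')
    (hbij : Function.Bijective (Localization.awayMap S'.val.toRingHom r)) (x : R') :
    ∃ k : ℕ, x * (r : R') ^ k ∈ S' := by
  obtain ⟨z, hz⟩ := hbij.2 (algebraMap R' _ x)
  obtain ⟨a, ⟨_, m, rfl⟩, rfl⟩ := IsLocalization.exists_mk'_eq (Submonoid.powers r) z
  have h1 : algebraMap R' (Localization.Away (r : R')) x * algebraMap R' _ ((r : R') ^ m) =
      algebraMap R' (Localization.Away (r : R')) (a : R') := by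
    have h2 := congrArg (Localization.awayMap S'.val.toRingHom r) (IsLocalization.mk'_spec (Localization.Away r) a
      (⟨r ^ m, m, rfl⟩ : Submonoid.powers r))
    rw [map_mul] at h2
    erw [hz, IsLocalization.map_eq, IsLocalization.map_eq] at h2
    simp only [AlgHom.toRingHom_eq_coe, RingHom.coe_coe, Subalgebra.coe_val] at h2
    exact h2
  rw [← map_mul, IsLocalization.eq_iff_exists (Submonoid.powers (r : R'))] at h1
  obtain ⟨⟨_, j, rfl⟩, hj⟩ := h1
  refine ⟨m + j, ?_⟩
  rw [pow_add, ← mul_assoc, mul_comm]
  exact (show (r : R') ^ j * (x * (r : R') ^ m) = (r : R') ^ j * (a : R') from hj) ▸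
    mul_mem (pow_mem r.2 j) a.2

end Groth.Agent.GRingCpl
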