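/-
Flat local homomorphisms of complete local rings with geometrically regular closed fibre are regular.
-/
import Mathlib
import Groth.Agent.GRingCpl.AndreBase
import Groth.Agent.GRingCpl.Main
import Groth.Agent.GRingCpl.QuasiFinite
import Groth.Agent.EGA41FS.FlatLiftRegular
import Groth.Agent.ArtKit.PSRing
import Groth.Agent.S2487
import Groth.Agent.S9258

set_option autoImplicit false
set_option linter.style.haveILetI false
universe u

open IsLocalRing TensorProduct

namespace Groth.Agent.GRingCpl

/-- Finite extensions of a quotient of the residue field see the closed fibre as regular. -/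
theorem regular_tensor_closedFibre {A B : Type u} [CommRing A] [IsLocalRing A] [CommRing B] [Algebra A B]
    (h : CAlg.IsGeometricallyRegular (maximalIdeal A).ResidueField ((maximalIdeal A).Fiber B))
    (k : Type u) [Field k] [Algebra A k] (hk : Function.Surjective (algebraMap A k))
    (k' : Type u) [Field k'] [Algebra k k'] [Module.Finite k k'] [Algebra A k'] [IsScalarTower A k k'] :
    IsRegularRing (k' ⊗[A] B) := by
  let κ := (maximalIdeal A).ResidueField
  have hker : RingHom.ker (algebraMap A k) = maximalIdeal A :=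
    IsLocalRing.eq_maximalIdeal (RingHom.ker_isMaximal_of_surjective _ hk)
  let f : κ →+* k := Ideal.ResidueField.lift (maximalIdeal A) (algebraMap A k) hker.ge fun z hz =>
    IsUnit.mk0 _ fun h0 => hz (hker.le h0)
  have hf : Function.Surjective f := fun y => by
    obtain ⟨a, rfl⟩ := hk y
    exact ⟨algebraMap A κ a, Ideal.ResidueField.lift_algebraMap _ _ _ _ a⟩
  letI : Algebra κ k' := ((algebraMap k k').comp f).toAlgebra
  haveI : IsScalarTower A κ k' := IsScalarTower.of_algebraMap_eq fun a => by
    show algebraMap A k' a = algebraMap k k' (f (algebraMap A κ a))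
    rw [Ideal.ResidueField.lift_algebraMap, ← IsScalarTower.algebraMap_apply]
  haveI : Module.Finite κ k' := RingHom.finite_algebraMap.mp
    ((RingHom.finite_algebraMap.mpr (inferInstance : Module.Finite k k')).comp (RingHom.Finite.of_surjective f hf))
  obtain ⟨e0⟩ := FlatDepth.fiberTensor_equiv (A := A) (B := B) (maximalIdeal A) k'
  exact FlatDepth.isRegularRing_of_equiv _ _ e0 (h k' inferInstance)

/-- The regular part: a flat lift over power series and its generic fibre. -/
theorem regular_lift_generic {A0 B0 : Type u} [CommRing A0] [IsDomain A0] [IsRegularLocalRing A0]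
    (hgood : GoodBase A0) [CommRing B0] [IsRegularLocalRing B0] [IsAdicComplete (maximalIdeal B0) B0]
    [Algebra A0 B0] [IsLocalHom (algebraMap A0 B0)] [Module.Flat A0 B0]
    (h : CAlg.IsGeometricallyRegular (maximalIdeal A0).ResidueField ((maximalIdeal A0).Fiber B0))
    (K L : Type u) [Field K] [Algebra A0 K] [IsFractionRing A0 K] [Field L] [Algebra K L] [Algebra A0 L]
    [IsScalarTower A0 K L] [Module.Finite K L] : IsRegularRing (L ⊗[A0] B0) := by
  haveI : IsRegularRing B0 := SerreReg.isRegularRing_of_isRegularLocalRing B0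
  have hle : (maximalIdeal A0).map (algebraMap A0 B0) ≤ maximalIdeal B0 :=
    Ideal.map_le_iff_le_comap.mpr fun a ha => map_nonunit (algebraMap A0 B0) a ha
  have hfs := isAdicFormallySmooth_of_maximal (maximalIdeal A0) (maximalIdeal B0) hle
    (isFormallySmoothAdic_of_closedFibre h)
  haveI : IsLocalization.AtPrime B0 (maximalIdeal B0) :=
    IsLocalization.self fun x hx => IsLocalRing.notMem_maximalIdeal.mp hx
  have hgeo := hgood.2 B0 (fun δ => S9258.result A0 B0 hfs δ) K (maximalIdeal B0) B0
  let Bh := AdicCompletion (maximalIdeal B0) B0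
  haveI : IsRegularRing (L ⊗[K] (K ⊗[A0] Bh)) := hgeo L inferInstance
  haveI : IsRegularRing (L ⊗[A0] Bh) := IsRegularRing.of_ringEquiv (R := L ⊗[K] (K ⊗[A0] Bh))
    (Algebra.TensorProduct.cancelBaseChange A0 K K L Bh).toRingEquiv
  exact IsRegularRing.of_ringEquiv (R := L ⊗[A0] Bh)
    (Algebra.TensorProduct.congr (AlgEquiv.refl : L ≃ₐ[A0] L)
      ((AdicCompletion.ofAlgEquiv (maximalIdeal B0) (S := B0)).restrictScalars A0).symm).toRingEquiv

/-- **Fibres of flat maps with geometrically regular closed fibre between complete local rings.** -/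
theorem regular_tensor_field {A B : Type u} [CommRing A] [IsLocalRing A] [IsNoetherianRing A]
    [IsAdicComplete (maximalIdeal A) A] [CommRing B] [IsLocalRing B] [IsNoetherianRing B]
    [IsAdicComplete (maximalIdeal B) B] [Algebra A B] [IsLocalHom (algebraMap A B)] [Module.Flat A B]
    (h : CAlg.IsGeometricallyRegular (maximalIdeal A).ResidueField ((maximalIdeal A).Fiber B))
    (p : Ideal A) [p.IsPrime] (L : Type u) [Field L] [Algebra p.ResidueField L] [Algebra A L]
    [IsScalarTower A p.ResidueField L] [Module.Finite p.ResidueField L] : IsRegularRing (L ⊗[A] B) := by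
  classical
  let D := A ⧸ p
  haveI : Nontrivial D := Ideal.Quotient.nontrivial_iff.mpr (Ideal.IsPrime.ne_top inferInstance)
  haveI : IsAdicComplete (maximalIdeal D) D := FinComplete.isAdicComplete_of_isLocalRing A D
  let k := D ⧸ maximalIdeal D
  letI : Field k := Ideal.Quotient.field _
  have hk : Function.Surjective (algebraMap A k) := fun z => by
    obtain ⟨d, rfl⟩ := Ideal.Quotient.mk_surjective z
    obtain ⟨a, rfl⟩ := Ideal.Quotient.mk_surjective d
    exact ⟨a, rfl⟩
  -- the closed fibre
  haveI : Module.FaithfullyFlat A B := Module.FaithfullyFlat.of_flat_of_isLocalHom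
  haveI : Module.Finite A k := Module.Finite.of_surjective (Algebra.linearMap A k) hk
  haveI : Nontrivial (k ⊗[A] B) := inferInstance
  obtain ⟨_, _, _, _⟩ := baseChange_local (R := A) (S := B) (D := k) fun d => by
    obtain ⟨a, ha⟩ := hk d
    exact ⟨a, by rw [ha, sub_self]; exact zero_mem _⟩
  let F := k ⊗[A] B
  have hF : ∀ (k' : Type u) [Field k'] [Algebra k k'], Module.Finite k k' → IsRegularRing (k' ⊗[k] F) := by
    intro k' _ _ _
    letI : Algebra A k' := ((algebraMap k k').comp (algebraMap A k)).toAlgebra
    haveI : IsScalarTower A k k' := IsScalarTower.of_algebraMap_eq fun _ => rfl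
    haveI := regular_tensor_closedFibre h k hk k'
    exact IsRegularRing.of_ringEquiv (R := k' ⊗[A] B)
      (Algebra.TensorProduct.cancelBaseChange A k k k' B).symm.toRingEquiv
  haveI : IsRegularRing F := FlatDepth.isRegularRing_of_equiv _ _
    (Algebra.TensorProduct.lid k F).toRingEquiv (hF k inferInstance)
  haveI : IsLocalization.AtPrime F (maximalIdeal F) :=
    IsLocalization.self fun x hx => IsLocalRing.notMem_maximalIdeal.mp hx
  haveI : IsRegularLocalRing F := IsRegularLocalRing.of_ringEquiv (R := Localization.AtPrime (maximalIdeal F))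
    (IsLocalization.algEquiv (maximalIdeal F).primeCompl (Localization.AtPrime (maximalIdeal F)) F).toRingEquiv
  have hfsF : EGA41.IsFormallySmoothAdic k (maximalIdeal k) F (maximalIdeal F) := by
    rw [show maximalIdeal k = ⊥ from IsLocalRing.maximalIdeal_eq_bot]
    exact (S4537.result _).mp (S4578.adic_iff_geomRegular.mpr hF)
  -- the power series ring over the quotient
  obtain ⟨Λ, _, m, f, hΛ, hinj, hfin, hres⟩ := S0581.result D
  haveI : IsRegularLocalRing Λ := Cohen.isRegularLocalRing_coeff hΛ
  haveI : IsDomain Λ := by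
    rcases hΛ with hf | ⟨hd, -, -⟩
    · exact hf.isDomain
    · exact hd
  haveI : IsAdicComplete (maximalIdeal Λ) Λ := by
    rcases hΛ with hf | ⟨_, _, hc, -⟩
    · rw [IsLocalRing.isField_iff_maximalIdeal_eq.mp hf]
      infer_instance
    · exact hc
  let A0 := MvPowerSeries (Fin m) Λ
  haveI : IsRegularLocalRing A0 := Cohen.isRegularLocalRing_mvPowerSeries Λ m
  haveI : IsDomain A0 := NoZeroDivisors.to_isDomain _
  haveI : IsAdicComplete (maximalIdeal A0) A0 := ArtKit.isAdicComplete_mvPowerSeries
  letI := f.toAlgebra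
  haveI : Module.Finite A0 D := hfin
  haveI : IsLocalHom (algebraMap A0 D) := by
    refine ((IsLocalRing.local_hom_TFAE (algebraMap A0 D)).out 4 0).mp ?_
    haveI : Algebra.IsIntegral A0 D := Algebra.IsIntegral.of_finite A0 D
    exact IsLocalRing.eq_maximalIdeal (Ideal.isMaximal_comap_of_isIntegral_of_isMaximal _)
  have hk0 : Function.Surjective (algebraMap A0 k) := hres
  have hker0 : RingHom.ker (algebraMap A0 k) = maximalIdeal A0 :=
    IsLocalRing.eq_maximalIdeal (RingHom.ker_isMaximal_of_surjective _ hk0)
  let α : ResidueField A0 →+* F := (algebraMap k F).comp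
    (Ideal.Quotient.lift (maximalIdeal A0) (algebraMap A0 k) fun a ha => hker0.ge ha)
  obtain ⟨B0, _, _, _, ι, ρ, hι, hcompl, hflat, hρ, hρker, hρι⟩ := EGA41FS.exists_flat_lift_regular A0 F α
  letI : Algebra A0 B0 := ι.toAlgebra
  haveI : IsLocalHom (algebraMap A0 B0) := hι
  haveI := hcompl
  haveI : Module.Flat A0 B0 := hflat
  let ρ' : B0 →ₐ[A0] F := { ρ with commutes' := fun a => RingHom.congr_fun hρι a }
  obtain ⟨eF⟩ := exists_fibre_algEquiv (R := A0) (S := B0) (k := k) (F := F) hk0 ρ' hρ
    fun x hx => hρker.le (show x ∈ RingHom.ker ρ from hx)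
  have hgeo0 : CAlg.IsGeometricallyRegular (maximalIdeal A0).ResidueField ((maximalIdeal A0).Fiber B0) := by
    let κ := (maximalIdeal A0).ResidueField
    intro k' _ _ hk'
    have hu : (maximalIdeal A0).primeCompl ≤ (IsUnit.submonoid k).comap (algebraMap A0 k) := fun z hz =>
      IsUnit.mk0 _ fun h0 => hz (hker0.le h0)
    let g : κ →+* k := Ideal.ResidueField.lift (maximalIdeal A0) (algebraMap A0 k) hker0.ge hu
    have hg : Function.Bijective g := ⟨g.injective, fun y => by
      obtain ⟨a, rfl⟩ := hk0 y
      exact ⟨algebraMap A0 κ a, Ideal.ResidueField.lift_algebraMap _ _ _ _ a⟩⟩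
    let e := RingEquiv.ofBijective g hg
    letI : Algebra k k' := ((algebraMap κ k').comp e.symm.toRingHom).toAlgebra
    haveI : Module.Finite k k' := RingHom.finite_algebraMap.mp
      ((RingHom.finite_algebraMap.mpr hk').comp (RingHom.Finite.of_surjective e.symm.toRingHom e.symm.surjective))
    letI : Algebra A0 k' := ((algebraMap κ k').comp (algebraMap A0 κ)).toAlgebra
    haveI : IsScalarTower A0 κ k' := IsScalarTower.of_algebraMap_eq fun _ => rfl
    haveI : IsScalarTower A0 k k' := IsScalarTower.of_algebraMap_eq fun a => by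
      show algebraMap κ k' (algebraMap A0 κ a) = algebraMap κ k' (e.symm (algebraMap A0 k a))
      congr 1
      rw [eq_comm, RingEquiv.symm_apply_eq]
      exact (Ideal.ResidueField.lift_algebraMap (maximalIdeal A0) (algebraMap A0 k) hker0.ge hu a).symm
    haveI := hF k' inferInstance
    haveI : IsRegularRing (k' ⊗[k] (k ⊗[A0] B0)) := FlatDepth.isRegularRing_of_equiv _ _
      (Algebra.TensorProduct.congr (AlgEquiv.refl : k' ≃ₐ[k] k') eF).symm.toRingEquiv inferInstance
    haveI : IsRegularRing (k' ⊗[A0] B0) := IsRegularRing.of_ringEquiv (R := k' ⊗[k] (k ⊗[A0] B0))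
      (Algebra.TensorProduct.cancelBaseChange A0 k k k' B0).toRingEquiv
    obtain ⟨e0⟩ := FlatDepth.fiberTensor_equiv (A := A0) (B := B0) (maximalIdeal A0) k'
    exact FlatDepth.isRegularRing_of_equiv _ _ e0.symm inferInstance
  haveI : IsRegularLocalRing (B0 ⧸ (maximalIdeal A0).map (algebraMap A0 B0)) :=
    IsRegularLocalRing.of_ringEquiv (R := F)
      ((Ideal.quotEquivOfEq hρker.symm).trans (RingHom.quotientKerEquivOfSurjective hρ)).symm
  haveI : IsRegularLocalRing B0 := FlatDepth.isRegularLocalRing_ascent (R := A0) (S := B0) inferInstance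
  -- the two base changes to the quotient
  haveI : Module.FaithfullyFlat A0 B0 := Module.FaithfullyFlat.of_flat_of_isLocalHom
  haveI : Module.Finite A D := Module.Finite.of_surjective (Algebra.linearMap A D) Ideal.Quotient.mk_surjective
  obtain ⟨_, _, _, hc1⟩ := baseChange_local (R := A0) (S := B0) (D := D) fun d => by
    obtain ⟨a, ha⟩ := hk0 (Ideal.Quotient.mk _ d)
    exact ⟨a, Ideal.Quotient.eq.mp ha.symm⟩
  obtain ⟨_, _, _, hc2⟩ := baseChange_local (R := A) (S := B) (D := D) fun d => by
    obtain ⟨a, rfl⟩ := Ideal.Quotient.mk_surjective d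
    exact ⟨a, by rw [show algebraMap A D a = Ideal.Quotient.mk p a from rfl, sub_self]; exact zero_mem _⟩
  obtain ⟨v, -⟩ := (S2487.result (maximalIdeal D) le_rfl F hfsF).2 (D ⊗[A0] B0) (D ⊗[A] B)
    hc1 inferInstance hc2 inferInstance
    ((Algebra.TensorProduct.cancelBaseChange A0 D k k B0).trans eF)
    (Algebra.TensorProduct.cancelBaseChange A D k k B)
  -- the field
  letI : Algebra D L := ((algebraMap p.ResidueField L).comp (algebraMap D p.ResidueField)).toAlgebra
  haveI : IsScalarTower D p.ResidueField L := IsScalarTower.of_algebraMap_eq fun _ => rfl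
  haveI : IsScalarTower A D L := IsScalarTower.of_algebraMap_eq fun a => by
    show _ = algebraMap p.ResidueField L (algebraMap D p.ResidueField (algebraMap A D a))
    rw [← IsScalarTower.algebraMap_apply A D p.ResidueField, ← IsScalarTower.algebraMap_apply]
  letI : Algebra A0 L := ((algebraMap D L).comp f).toAlgebra
  haveI : IsScalarTower A0 D L := IsScalarTower.of_algebraMap_eq fun _ => rfl
  let K0 := FractionRing A0
  have hinjκ : Function.Injective ((algebraMap D p.ResidueField).comp f) :=
    (IsFractionRing.injective D p.ResidueField).comp hinj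
  letI : Algebra A0 p.ResidueField := ((algebraMap D p.ResidueField).comp f).toAlgebra
  haveI : IsScalarTower A0 D p.ResidueField := IsScalarTower.of_algebraMap_eq fun _ => rfl
  letI : Algebra K0 p.ResidueField := (IsFractionRing.lift (K := K0) hinjκ).toAlgebra
  haveI : IsScalarTower A0 K0 p.ResidueField := IsScalarTower.of_algebraMap_eq fun a =>
    (IsFractionRing.lift_algebraMap hinjκ a).symm
  haveI : Module.Finite K0 p.ResidueField := finite_of_fractions (R := A0) (B := D) K0 p.ResidueField fun z => by
    obtain ⟨a, b, -, rfl⟩ := IsFractionRing.div_surjective (A := D) z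
    exact ⟨a, b, rfl⟩
  letI : Algebra K0 L := ((algebraMap p.ResidueField L).comp (algebraMap K0 p.ResidueField)).toAlgebra
  haveI : IsScalarTower K0 p.ResidueField L := IsScalarTower.of_algebraMap_eq fun _ => rfl
  haveI : IsScalarTower A0 K0 L := IsScalarTower.of_algebraMap_eq fun a => by
    show _ = algebraMap p.ResidueField L (algebraMap K0 p.ResidueField (algebraMap A0 K0 a))
    rw [← IsScalarTower.algebraMap_apply A0 K0 p.ResidueField]
    rfl
  haveI : Module.Finite K0 L := Module.Finite.trans p.ResidueField L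
  haveI : IsRegularRing (L ⊗[A0] B0) := regular_lift_generic (goodBase_mvPowerSeries m hΛ) hgeo0 K0 L
  haveI : IsRegularRing (L ⊗[D] (D ⊗[A0] B0)) := IsRegularRing.of_ringEquiv (R := L ⊗[A0] B0)
    (Algebra.TensorProduct.cancelBaseChange A0 D D L B0).symm.toRingEquiv
  exact IsRegularRing.of_ringEquiv (R := L ⊗[D] (D ⊗[A0] B0))
    ((Algebra.TensorProduct.congr (AlgEquiv.refl : L ≃ₐ[D] L) v).toRingEquiv.trans
      (Algebra.TensorProduct.cancelBaseChange A D D L B).toRingEquiv)

/-- **A flat local homomorphism of complete local rings with geometrically regular closed fibre is regular.** -/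
theorem isRegularHom_of_closedFibre {A B : Type u} [CommRing A] [IsLocalRing A] [IsNoetherianRing A]
    [IsAdicComplete (maximalIdeal A) A] [CommRing B] [IsLocalRing B] [IsNoetherianRing B]
    [IsAdicComplete (maximalIdeal B) B] [Algebra A B] [IsLocalHom (algebraMap A B)] [Module.Flat A B]
    (h : CAlg.IsGeometricallyRegular (maximalIdeal A).ResidueField ((maximalIdeal A).Fiber B)) :
    CAlg.IsRegularHom A B := by
  refine ⟨inferInstance, fun p _ => ⟨FlatDepth.isNoetherianRing_tensor_essFinite A B p.ResidueField,
    fun k' _ _ hk' => ?_⟩⟩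
  haveI := hk'
  letI : Algebra A k' := ((algebraMap p.ResidueField k').comp (algebraMap A p.ResidueField)).toAlgebra
  haveI : IsScalarTower A p.ResidueField k' := IsScalarTower.of_algebraMap_eq fun _ => rfl
  obtain ⟨e⟩ := FlatDepth.fiberTensor_equiv (A := A) (B := B) p k'
  exact FlatDepth.isRegularRing_of_equiv _ _ e.symm (regular_tensor_field h p k')

end Groth.Agent.GRingCpl
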