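/-
André's localization theorem for a base with geometrically regular formal fibres.
-/
import Mathlib
import Groth.Agent.GRingCpl.Andre
import Groth.Agent.FlatDepth.RegHom
import Groth.Agent.FlatDepth.Regular
import Groth.Agent.Cohen.Completion

set_option autoImplicit false
set_option linter.style.haveILetI false
universe u

open IsLocalRing TensorProduct

namespace Groth.Agent.GRingCpl

/-- The closed fibre does not change when the base is replaced by a ring with the same residue field. -/
theorem geomRegular_closedFibre_of_dense {A A1 S : Type u} [CommRing A] [IsLocalRing A] [CommRing A1] [IsLocalRing A1]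
    [CommRing S] [Algebra A A1] [Algebra A1 S] [Algebra A S] [IsScalarTower A A1 S]
    (hd : ∀ r : A1, ∃ a : A, r - algebraMap A A1 a ∈ (maximalIdeal A).map (algebraMap A A1))
    (hm : (maximalIdeal A).map (algebraMap A A1) ≤ maximalIdeal A1)
    (h : CAlg.IsGeometricallyRegular (maximalIdeal A).ResidueField ((maximalIdeal A).Fiber S)) :
    CAlg.IsGeometricallyRegular (maximalIdeal A1).ResidueField ((maximalIdeal A1).Fiber S) := by
  let κ := (maximalIdeal A1).ResidueField
  intro k' _ _ hk'
  have hk : Function.Surjective (algebraMap A κ) := fun y => by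
    obtain ⟨r, rfl⟩ := Ideal.algebraMap_residueField_surjective (maximalIdeal A1) y
    obtain ⟨a, ha⟩ := hd r
    exact ⟨a, by rw [IsScalarTower.algebraMap_apply A A1 κ, eq_comm, ← sub_eq_zero, ← map_sub, Ideal.algebraMap_residueField_eq_zero]; exact hm ha⟩
  letI : Algebra A1 k' := ((algebraMap κ k').comp (algebraMap A1 κ)).toAlgebra
  haveI : IsScalarTower A1 κ k' := IsScalarTower.of_algebraMap_eq fun _ => rfl
  letI : Algebra A k' := ((algebraMap κ k').comp (algebraMap A κ)).toAlgebra
  haveI : IsScalarTower A κ k' := IsScalarTower.of_algebraMap_eq fun _ => rfl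
  haveI : IsScalarTower A A1 k' := IsScalarTower.of_algebraMap_eq fun a => by
    show algebraMap κ k' (algebraMap A κ a) = algebraMap κ k' (algebraMap A1 κ (algebraMap A A1 a))
    rw [← IsScalarTower.algebraMap_apply A A1 κ]
  haveI := regular_tensor_closedFibre h κ hk k'
  haveI : TensorProduct.CompatibleSMul A A1 k' S := ⟨fun r x y => by
    obtain ⟨a, ha⟩ := hd r
    have key : ∀ z ∈ (maximalIdeal A).map (algebraMap A A1), z • x = 0 ∧ x ⊗ₜ[A] (z • y) = 0 := fun z hz => by
      refine ⟨?_, ?_⟩
      · rw [Algebra.smul_def, show algebraMap A1 k' z = algebraMap κ k' (algebraMap A1 κ z) from rfl,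
          Ideal.algebraMap_residueField_eq_zero.mpr (hm hz), map_zero, zero_mul]
      rw [Ideal.map, Ideal.span] at hz
      induction hz using Submodule.span_induction generalizing y with
      | mem z hz =>
        obtain ⟨b, hb, rfl⟩ := hz
        rw [algebraMap_smul, ← TensorProduct.smul_tmul, ← algebraMap_smul A1 b x, Algebra.smul_def,
          show algebraMap A1 k' (algebraMap A A1 b) = algebraMap κ k' (algebraMap A1 κ (algebraMap A A1 b)) from rfl,
          Ideal.algebraMap_residueField_eq_zero.mpr (hm (Ideal.mem_map_of_mem _ hb)), map_zero, zero_mul,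
          TensorProduct.zero_tmul]
      | zero => rw [zero_smul, TensorProduct.tmul_zero]
      | add u v _ _ hu hv => rw [add_smul, TensorProduct.tmul_add, hu, hv, add_zero]
      | smul c u _ hu => rw [smul_eq_mul, mul_comm, mul_smul]; exact hu (c • y)
    obtain ⟨h1, h2⟩ := key _ ha
    rw [sub_smul, sub_eq_zero, algebraMap_smul] at h1
    rw [sub_smul, TensorProduct.tmul_sub, sub_eq_zero, algebraMap_smul] at h2
    rw [h1, h2, TensorProduct.smul_tmul]⟩
  haveI : IsRegularRing (k' ⊗[A1] S) := IsRegularRing.of_ringEquiv (R := k' ⊗[A] S)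
    (Algebra.TensorProduct.equivOfCompatibleSMul A A1 A k' S).symm.toRingEquiv
  obtain ⟨e⟩ := FlatDepth.fiberTensor_equiv (A := A1) (B := S) (maximalIdeal A1) k'
  exact FlatDepth.isRegularRing_of_equiv _ _ e.symm inferInstance

/-- **André's localization theorem**: a flat local map over a base with geometrically regular formal fibres,
whose completion has geometrically regular closed fibre, is regular. -/
theorem isRegularHom_of_cpl_closedFibre {A B : Type u} [CommRing A] [IsLocalRing A] [IsNoetherianRing A]
    [CommRing B] [IsLocalRing B] [IsNoetherianRing B] [Algebra A B] [IsLocalHom (algebraMap A B)] [Module.Flat A B]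
    (hA : CAlg.IsRegularHom A (EGA4.Cpl A))
    (h : CAlg.IsGeometricallyRegular (maximalIdeal A).ResidueField ((maximalIdeal A).Fiber (EGA4.Cpl B))) :
    CAlg.IsRegularHom A B := by
  obtain ⟨_, h1, h2, h3⟩ := FlatDepth.formal_setup A B
  haveI : IsNoetherianRing (EGA4.Cpl A) := AdicBasics.isNoetherianRing_completion A
  haveI : IsNoetherianRing (EGA4.Cpl B) := AdicBasics.isNoetherianRing_completion B
  haveI : IsAdicComplete (maximalIdeal (EGA4.Cpl A)) (EGA4.Cpl A) :=
    (inferInstance : IsAdicComplete (maximalIdeal (AdicCompletion (maximalIdeal A) A)) (AdicCompletion (maximalIdeal A) A))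
  haveI : IsAdicComplete (maximalIdeal (EGA4.Cpl B)) (EGA4.Cpl B) :=
    (inferInstance : IsAdicComplete (maximalIdeal (AdicCompletion (maximalIdeal B) B)) (AdicCompletion (maximalIdeal B) B))
  haveI : IsLocalHom (algebraMap (EGA4.Cpl A) (EGA4.Cpl B)) := inferInstance
  have hm : (maximalIdeal A).map (algebraMap A (EGA4.Cpl A)) = maximalIdeal (EGA4.Cpl A) :=
    (AdicCompletion.maximalIdeal_eq_map).symm
  have hreg : CAlg.IsRegularHom (EGA4.Cpl A) (EGA4.Cpl B) := isRegularHom_of_closedFibre
    (geomRegular_closedFibre_of_dense (A := A) (fun r => by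
      obtain ⟨a, ha⟩ := Cohen.exists_sub_mem_pow r 1
      rw [pow_one] at ha
      exact ⟨a, hm.ge ha⟩) hm.le h)
  haveI : Module.FaithfullyFlat B (EGA4.Cpl B) := Module.FaithfullyFlat.of_flat_of_isLocalHom
  exact FlatDepth.isRegularHom_descent (C := EGA4.Cpl B) (FlatDepth.isRegularHom_comp (B := EGA4.Cpl A) hA hreg
    fun p _ => FlatDepth.isNoetherianRing_tensor_essFinite A (EGA4.Cpl B) p.ResidueField)

end Groth.Agent.GRingCpl
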