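/-
Formal fibres of (strict) henselizations: maps with separable algebraic fibres and G-rings.
-/
import Mathlib
import Groth.Agent.GRingCpl.AndreLoc
import Groth.Agent.GeomProp.RegularSep
import Groth.Agent.GeomProp.Good
import Groth.Agent.Hensel.FibreProd
import Groth.Agent.Hensel.HenselizationNoeth
import Groth.Agent.S2047
import Groth.Agent.S0600
import Groth.Agent.Easy3.Excellent

set_option autoImplicit false
set_option linter.style.haveILetI false
universe u

open IsLocalRing TensorProduct
open Groth.Agent.Hensel (UnramifiedFibres HasEtaleStages)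

namespace Groth.Agent.GRingCpl

/-- A quotient of a regular ring by an idempotent is regular. -/
theorem isRegularRing_of_idempotent {R1 R2 : Type u} [CommRing R1] [CommRing R2] (f : R1 →+* R2)
    (hf : Function.Surjective f) (e : R1) (he : IsIdempotentElem e) (hk : RingHom.ker f = Ideal.span {e})
    [IsRegularRing R1] : IsRegularRing R2 := by
  letI := f.toAlgebra
  haveI : IsLocalization.Away (1 - e) R2 := IsLocalization.away_of_isIdempotentElem he.one_sub
    (by rw [sub_sub_cancel]; exact hk) hf
  exact GeomProp.isRegularRing_of_isLocalization (Submonoid.powers (1 - e)) ‹IsRegularRing R1›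

/-- Tensoring over `R` with a ring killed by `J` only sees the quotient by `J`. -/
theorem tensor_equiv_of_surjective {R : Type u} [CommRing R] (k : Type u) [CommRing k] [Algebra R k] (J : Ideal R)
    (hJ : J ≤ RingHom.ker (algebraMap R k)) {C K : Type u} [CommRing C] [CommRing K] [Algebra R C] [Algebra R K]
    (ψ : C →ₐ[R] K) (hψ : Function.Surjective ψ) (hker : RingHom.ker ψ.toRingHom ≤ J.map (algebraMap R C)) :
    Nonempty ((k ⊗[R] C) ≃ₐ[k] (k ⊗[R] K)) := by
  let f : k ⊗[R] C →ₐ[k] k ⊗[R] K := Algebra.TensorProduct.map (R := R) (S := k) (AlgHom.id k k) ψ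
  suffices hf : Function.Bijective f from ⟨AlgEquiv.ofBijective f hf⟩
  refine ⟨?_, ?_⟩
  · show Function.Injective (Algebra.TensorProduct.map (AlgHom.id R k) ψ)
    rw [RingHom.injective_iff_ker_eq_bot, Algebra.TensorProduct.lTensor_ker ψ hψ, eq_bot_iff,
      Ideal.map_le_iff_le_comap]
    refine hker.trans (Ideal.map_le_iff_le_comap.mpr fun a ha => ?_)
    show Algebra.TensorProduct.includeRight (R := R) (A := k) (algebraMap R C a) = 0
    rw [AlgHom.commutes, Algebra.TensorProduct.algebraMap_apply, RingHom.mem_ker.mp (hJ ha), TensorProduct.zero_tmul]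
  · intro y
    induction y using TensorProduct.induction_on with
    | zero => exact ⟨0, map_zero f⟩
    | add a b ha hb =>
      obtain ⟨a, rfl⟩ := ha
      obtain ⟨b, rfl⟩ := hb
      exact ⟨a + b, map_add f _ _⟩
    | tmul a b =>
      obtain ⟨b, rfl⟩ := hψ b
      exact ⟨a ⊗ₜ b, rfl⟩

section fibre

variable {R S : Type u} [CommRing R] [CommRing S] [Algebra R S] [IsNoetherianRing S]
  (hU : UnramifiedFibres R S) (hS : HasEtaleStages R S)

include hU hS in
theorem isReduced_isArtinian_fibre (p : Ideal R) [p.IsPrime] :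
    IsArtinianRing (p.ResidueField ⊗[R] S) ∧ IsReduced (p.ResidueField ⊗[R] S) := by
  obtain ⟨n, K, hK1, hK2, hsep, ⟨e⟩⟩ := Hensel.fibre_equiv_pi p hU hS
  exact ⟨RingEquiv.isArtinianRing e.symm.toRingEquiv, isReduced_of_injective e e.injective⟩

include hU hS in
/-- The fibres are geometrically regular. -/
theorem geomRegular_fibre (p : Ideal R) [p.IsPrime] :
    CAlg.IsGeometricallyRegular p.ResidueField (p.ResidueField ⊗[R] S) := by
  intro L _ _ hL
  haveI := hL
  obtain ⟨n, K, hK1, hK2, hsep, ⟨e⟩⟩ := Hensel.fibre_equiv_pi p hU hS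
  haveI : IsArtinianRing (Π i, K i) := inferInstance
  haveI : IsReduced (L ⊗[p.ResidueField] (Π i, K i)) := by
    haveI : ∀ i, IsReduced (L ⊗[p.ResidueField] K i) := fun i => by
      haveI := hsep i
      haveI := GeomProp.geomReduced_of_isSeparable p.ResidueField (K i)
      exact GeomRedPull.isReduced_field_tensor (k := p.ResidueField) (A := K i) L
    exact isReduced_of_injective (Algebra.TensorProduct.piRight p.ResidueField p.ResidueField L K).toRingEquiv
      (Algebra.TensorProduct.piRight p.ResidueField p.ResidueField L K).injective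
  haveI : IsArtinianRing (L ⊗[p.ResidueField] (Π i, K i)) := by
    haveI : IsArtinianRing ((Π i, K i) ⊗[p.ResidueField] L) := IsArtinianRing.of_finite (Π i, K i) _
    exact RingEquiv.isArtinianRing (Algebra.TensorProduct.comm p.ResidueField (Π i, K i) L).toRingEquiv
  exact FlatDepth.isRegularRing_of_equiv _ _ (Algebra.TensorProduct.congr (AlgEquiv.refl (R := p.ResidueField) (A₁ := L)) e.symm).toRingEquiv
    (GeomProp.isRegularRing_of_reduced_artinian (L ⊗[p.ResidueField] (Π i, K i)))

include hU hS in
/-- A map with separable algebraic fibres is regular when flat. -/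
theorem isRegularHom_of_etaleStages [Module.Flat R S] : CAlg.IsRegularHom R S :=
  ⟨inferInstance, fun p _ => ⟨by
    obtain ⟨h, -⟩ := isReduced_isArtinian_fibre hU hS p
    exact (inferInstance : IsNoetherianRing (p.ResidueField ⊗[R] S)), geomRegular_fibre hU hS p⟩⟩

include hU hS in
/-- Residue fields are separable and cut out of the fibre by an idempotent. -/
theorem exists_idempotent_residueField (p : Ideal R) [p.IsPrime] (q : Ideal S) [q.IsPrime]
    [Algebra p.ResidueField q.ResidueField] [IsScalarTower R p.ResidueField q.ResidueField] :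
    Algebra.IsSeparable p.ResidueField q.ResidueField ∧
    ∃ (π : p.ResidueField ⊗[R] S →ₐ[p.ResidueField] q.ResidueField) (e : p.ResidueField ⊗[R] S),
      Function.Surjective π ∧ (∀ s : S, π (1 ⊗ₜ s) = algebraMap S q.ResidueField s) ∧
        IsIdempotentElem e ∧ RingHom.ker π.toRingHom = Ideal.span {e} := by
  obtain ⟨hA, hR⟩ := isReduced_isArtinian_fibre hU hS p
  let π : p.ResidueField ⊗[R] S →ₐ[p.ResidueField] q.ResidueField :=
    Algebra.TensorProduct.lift (Algebra.ofId p.ResidueField q.ResidueField) (IsScalarTower.toAlgHom R S q.ResidueField)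
      fun _ _ => Commute.all _ _
  have hπ : ∀ s : S, π (1 ⊗ₜ s) = algebraMap S q.ResidueField s := fun s => by
    show π (1 ⊗ₜ s) = _
    simp [π]
  haveI : (RingHom.ker π.toRingHom).IsPrime := RingHom.ker_isPrime _
  haveI hmax : (RingHom.ker π.toRingHom).IsMaximal := IsArtinianRing.isMaximal_of_isPrime _
  have hπs : Function.Surjective π := by
    intro z
    obtain ⟨a, b, hb, rfl⟩ := IsFractionRing.div_surjective (S ⧸ q) z
    obtain ⟨a, rfl⟩ := Ideal.Quotient.mk_surjective a
    obtain ⟨b, rfl⟩ := Ideal.Quotient.mk_surjective b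
    have hb0 : π (1 ⊗ₜ b) ≠ 0 := by
      rw [hπ, Ne, Ideal.algebraMap_residueField_eq_zero]
      exact fun h => nonZeroDivisors.ne_zero hb (Ideal.Quotient.eq_zero_iff_mem.mpr h)
    obtain ⟨c, i, hi, hci⟩ := hmax.exists_inv hb0
    refine ⟨(1 ⊗ₜ a) * c, ?_⟩
    have h1 : π c * π (1 ⊗ₜ b) = 1 := by
      have := congrArg π hci
      rwa [map_add, map_mul, map_one, show π i = 0 from hi, add_zero] at this
    rw [map_mul, hπ, eq_div_iff]
    · show algebraMap S q.ResidueField a * π c * _ = algebraMap (S ⧸ q) _ (algebraMap S (S ⧸ q) a)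
      rw [mul_assoc, show algebraMap (S ⧸ q) q.ResidueField (Ideal.Quotient.mk q b) = π (1 ⊗ₜ b) from
        ((IsScalarTower.algebraMap_apply S (S ⧸ q) q.ResidueField b).symm.trans (hπ b).symm), h1, mul_one,
        ← IsScalarTower.algebraMap_apply]
    · exact IsFractionRing.to_map_ne_zero_of_mem_nonZeroDivisors hb
  refine ⟨?_, π, ?_⟩
  · letI := Ideal.Quotient.field (RingHom.ker π.toRingHom)
    haveI : Algebra.IsSeparable p.ResidueField ((p.ResidueField ⊗[R] S) ⧸ RingHom.ker π) :=
      Hensel.isSeparable_fibre_quotient p hU hS (RingHom.ker π.toRingHom)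
    exact AlgEquiv.Algebra.isSeparable (Ideal.quotientKerAlgEquivOfSurjective hπs)
  · haveI : IsSemisimpleRing (p.ResidueField ⊗[R] S) := IsArtinianRing.isSemisimpleRing_of_isReduced _
    obtain ⟨e, he, hk⟩ := IsSemisimpleRing.ideal_eq_span_idempotent (RingHom.ker π.toRingHom)
    exact ⟨e, hπs, hπ, he, hk⟩

include hU hS in
/-- Regularity passes to the upper factor of `R → S → T`. -/
theorem isRegularHom_of_etaleStages_comp {T : Type u} [CommRing T] [IsNoetherianRing T] [Algebra R T] [Algebra S T]
    [IsScalarTower R S T] [Module.Flat S T] (h : CAlg.IsRegularHom R T) : CAlg.IsRegularHom S T := by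
  refine ⟨inferInstance, fun q _ => ?_⟩
  let p := q.under R
  letI : Algebra p.ResidueField q.ResidueField := (Ideal.ResidueField.map p q (algebraMap R S) rfl).toAlgebra
  haveI : IsScalarTower R p.ResidueField q.ResidueField := IsScalarTower.of_algebraMap_eq fun r => by
    rw [IsScalarTower.algebraMap_apply R S q.ResidueField]
    exact (Ideal.ResidueField.map_algebraMap _ _ _ _ r).symm
  obtain ⟨hsep, π, e, hπs, hπ, he, hk⟩ := exists_idempotent_residueField hU hS p q
  haveI := hsep
  obtain ⟨hN, hG⟩ := h.2 p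
  let F := p.ResidueField ⊗[R] S
  let G := p.ResidueField ⊗[R] T
  let H := q.ResidueField ⊗[S] T
  let j : F →ₐ[p.ResidueField] G := Algebra.TensorProduct.map (AlgHom.id _ _) (IsScalarTower.toAlgHom R S T)
  let Φ : G →ₐ[p.ResidueField] H := Algebra.TensorProduct.lift (Algebra.ofId p.ResidueField H)
    ((Algebra.TensorProduct.includeRight : T →ₐ[S] H).restrictScalars R) fun _ _ => Commute.all _ _
  have hΦt : ∀ (c : p.ResidueField) (t : T), Φ (c ⊗ₜ t) = algebraMap p.ResidueField q.ResidueField c ⊗ₜ[S] t := fun c t => by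
    show Algebra.TensorProduct.lift (Algebra.ofId p.ResidueField H)
      ((Algebra.TensorProduct.includeRight : T →ₐ[S] H).restrictScalars R) _ (c ⊗ₜ t) = _
    rw [Algebra.TensorProduct.lift_tmul]
    show algebraMap p.ResidueField H c * ((1 : q.ResidueField) ⊗ₜ[S] t) = _
    rw [Algebra.TensorProduct.algebraMap_apply, Algebra.TensorProduct.tmul_mul_tmul, mul_one, one_mul]
  have hjt : ∀ (c : p.ResidueField) (s : S), j (c ⊗ₜ s) = c ⊗ₜ[R] algebraMap S T s := fun c s => rfl
  have hΦj : ∀ x, Φ (j x) = π x ⊗ₜ[S] (1 : T) := by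
    intro x
    induction x using TensorProduct.induction_on with
    | zero => rw [map_zero, map_zero, map_zero, TensorProduct.zero_tmul]
    | add a b ha hb => rw [map_add, map_add, map_add, ha, hb, TensorProduct.add_tmul]
    | tmul c s =>
      rw [hjt, hΦt, show c ⊗ₜ[R] s = algebraMap p.ResidueField F c * ((1 : p.ResidueField) ⊗ₜ[R] s) by
        rw [Algebra.TensorProduct.algebraMap_apply, Algebra.TensorProduct.tmul_mul_tmul, one_mul]; simp,
        map_mul, AlgHom.commutes, hπ, Algebra.algebraMap_eq_smul_one (A := T), ← TensorProduct.smul_tmul,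
        Algebra.smul_def, mul_comm]
  have hΦs : Function.Surjective Φ := by
    intro z
    induction z using TensorProduct.induction_on with
    | zero => exact ⟨0, map_zero _⟩
    | add a b ha hb =>
      obtain ⟨a, rfl⟩ := ha
      obtain ⟨b, rfl⟩ := hb
      exact ⟨a + b, map_add _ _ _⟩
    | tmul a t =>
      obtain ⟨x, rfl⟩ := hπs a
      refine ⟨j x * (1 ⊗ₜ t), ?_⟩
      rw [map_mul, hΦj, hΦt, map_one, Algebra.TensorProduct.tmul_mul_tmul, mul_one, one_mul]
  have hΦk : RingHom.ker Φ.toRingHom = Ideal.span {j e} := by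
    refine le_antisymm (fun g hg => ?_) ((Ideal.span_singleton_le_iff_mem _).mpr ?_)
    · let Q := G ⧸ Ideal.span {j e}
      let m : G →+* Q := Ideal.Quotient.mk _
      let jS : S →+* Q := m.comp ((Algebra.TensorProduct.includeRight : T →ₐ[R] G).toRingHom.comp (algebraMap S T))
      letI : Algebra S Q := jS.toAlgebra
      have hke : RingHom.ker π.toRingHom ≤ RingHom.ker (m.comp j.toRingHom) := by
        rw [hk, Ideal.span_singleton_le_iff_mem]
        exact Ideal.Quotient.eq_zero_iff_mem.mpr (Ideal.mem_span_singleton_self _)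
      let l : q.ResidueField →+* Q := RingHom.liftOfSurjective π.toRingHom hπs ⟨m.comp j.toRingHom, hke⟩
      have hl : ∀ x, l (π x) = m (j x) := fun x => RingHom.liftOfRightInverse_comp_apply _ _ _ _ x
      have hls : ∀ s : S, l (algebraMap S _ s) = algebraMap S Q s := fun s => by
        rw [← hπ, hl]
        show m (j (1 ⊗ₜ s)) = m (1 ⊗ₜ algebraMap S T s)
        rw [hjt]
      let lA : q.ResidueField →ₐ[S] Q := { l with commutes' := hls }
      let tA : T →ₐ[S] Q := { m.comp (Algebra.TensorProduct.includeRight : T →ₐ[R] G).toRingHom with commutes' := fun _ => rfl }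
      let Ψ : H →ₐ[S] Q := Algebra.TensorProduct.lift lA tA fun _ _ => Commute.all _ _
      have hΨ : ∀ y : G, Ψ (Φ y) = m y := by
        intro y
        induction y using TensorProduct.induction_on with
        | zero => simp
        | add a b ha hb => simp [map_add, ha, hb]
        | tmul c t =>
          rw [hΦt]
          show Algebra.TensorProduct.lift lA tA _ (algebraMap p.ResidueField q.ResidueField c ⊗ₜ[S] t) = _
          rw [Algebra.TensorProduct.lift_tmul]
          show l (algebraMap p.ResidueField q.ResidueField c) * m (1 ⊗ₜ t) = _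
          rw [← π.commutes, hl, ← map_mul]
          congr 1
          rw [show algebraMap p.ResidueField (p.ResidueField ⊗[R] S) c = c ⊗ₜ 1 from rfl, hjt, map_one,
            Algebra.TensorProduct.tmul_mul_tmul, mul_one, one_mul]
      have h3 := hΨ g
      rw [show Φ g = 0 from hg, map_zero] at h3
      exact Ideal.Quotient.eq_zero_iff_mem.mp h3.symm
    · show Φ (j e) = 0
      rw [hΦj, show π e = 0 from hk.ge (Ideal.mem_span_singleton_self e), TensorProduct.zero_tmul]
  haveI : IsNoetherianRing G := hN
  haveI : IsNoetherianRing H := isNoetherianRing_of_surjective G H Φ.toRingHom hΦs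
  refine ⟨inferInstance, (GeomProp.geomRegular_iff_of_isSeparable p.ResidueField q.ResidueField H).mp fun L _ _ hL => ?_⟩
  haveI : IsRegularRing (L ⊗[p.ResidueField] G) := hG L hL
  refine isRegularRing_of_idempotent (Algebra.TensorProduct.map (AlgHom.id p.ResidueField L) Φ).toRingHom
    (TensorProduct.map_surjective Function.surjective_id hΦs) ((1 : L) ⊗ₜ[p.ResidueField] j e) ?_ ?_
  · show _ * _ = _
    rw [Algebra.TensorProduct.tmul_mul_tmul, one_mul, ← map_mul, he.eq]
  · refine ((Algebra.TensorProduct.lTensor_ker (A := L) Φ hΦs).trans ?_)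
    rw [show RingHom.ker Φ = Ideal.span {j e} from hΦk, Ideal.map_span, Set.image_singleton]
    rfl

end fibre

section localcase

variable {R S : Type u} [CommRing R] [IsLocalRing R] [IsNoetherianRing R] [CommRing S] [IsLocalRing S]
  [IsNoetherianRing S] [Algebra R S] [IsLocalHom (algebraMap R S)] [Module.Flat R S]
  (hm : (maximalIdeal R).map (algebraMap R S) = maximalIdeal S)
  (hU : UnramifiedFibres R S) (hS : HasEtaleStages R S)

omit [IsNoetherianRing R] [IsLocalHom (algebraMap R S)] [Module.Flat R S] in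
include hm hU hS in
theorem geomRegular_closedFibre_cpl :
    CAlg.IsGeometricallyRegular (maximalIdeal R).ResidueField ((maximalIdeal R).Fiber (EGA4.Cpl S)) := by
  haveI : IsNoetherianRing (EGA4.Cpl S) := AdicBasics.isNoetherianRing_completion S
  let K := ResidueField (EGA4.Cpl S)
  let k := (maximalIdeal R).ResidueField
  have hmS : maximalIdeal (EGA4.Cpl S) = (maximalIdeal S).map (algebraMap S (EGA4.Cpl S)) :=
    AdicCompletion.maximalIdeal_eq_map
  haveI : IsLocalHom (algebraMap S (EGA4.Cpl S)) := inferInstance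
  let ψ₂ : EGA4.Cpl S →ₐ[R] K := IsScalarTower.toAlgHom R _ _
  let ψ₁ : S →ₐ[R] K := ψ₂.comp (IsScalarTower.toAlgHom R S _)
  have hs₂ : Function.Surjective ψ₂ := residue_surjective
  have hs₁ : Function.Surjective ψ₁ := fun z => by
    obtain ⟨w, rfl⟩ := hs₂ z
    obtain ⟨a, ha⟩ := Cohen.exists_sub_mem_pow w 1
    rw [pow_one] at ha
    refine ⟨a, (Ideal.Quotient.eq).mpr ?_⟩
    rw [← Ideal.neg_mem_iff, neg_sub]
    exact ha
  have hk₁ : RingHom.ker ψ₁.toRingHom ≤ (maximalIdeal R).map (algebraMap R S) := fun x hx => by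
    rw [hm]
    exact (map_mem_nonunits_iff (algebraMap S (EGA4.Cpl S)) x).mp ((residue_eq_zero_iff _).mp hx)
  have hk₂ : RingHom.ker ψ₂.toRingHom ≤ (maximalIdeal R).map (algebraMap R (EGA4.Cpl S)) := fun x hx => by
    rw [IsScalarTower.algebraMap_eq R S (EGA4.Cpl S), ← Ideal.map_map, hm, ← hmS]
    exact (residue_eq_zero_iff _).mp hx
  have hJ : maximalIdeal R ≤ RingHom.ker (algebraMap R k) := fun a ha =>
    Ideal.algebraMap_residueField_eq_zero.mpr ha
  obtain ⟨e₁⟩ := tensor_equiv_of_surjective k (maximalIdeal R) hJ ψ₁ hs₁ hk₁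
  obtain ⟨e₂⟩ := tensor_equiv_of_surjective k (maximalIdeal R) hJ ψ₂ hs₂ hk₂
  let e : (k ⊗[R] S) ≃ₐ[k] (k ⊗[R] EGA4.Cpl S) := e₁.trans e₂.symm
  intro L _ _ hL
  have h := geomRegular_fibre hU hS (maximalIdeal R) L hL
  let eL : L ⊗[k] (k ⊗[R] S) ≃ₐ[k] L ⊗[k] (k ⊗[R] EGA4.Cpl S) :=
    Algebra.TensorProduct.congr (AlgEquiv.refl (R := k) (A₁ := L)) e
  exact FlatDepth.isRegularRing_of_equiv _ _ eL.toRingEquiv h

include hm hU hS in
/-- If the completion map of the base is regular, so is that of `S`. -/
theorem isRegularHom_cpl_of_etaleStages (hR : CAlg.IsRegularHom R (EGA4.Cpl R)) :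
    CAlg.IsRegularHom S (EGA4.Cpl S) := by
  haveI : IsNoetherianRing (EGA4.Cpl R) := AdicBasics.isNoetherianRing_completion R
  haveI : IsNoetherianRing (EGA4.Cpl S) := AdicBasics.isNoetherianRing_completion S
  have h := geomRegular_closedFibre_cpl hm hU hS
  obtain ⟨_, h1, h2, h3⟩ := FlatDepth.formal_setup R S
  haveI : IsAdicComplete (maximalIdeal (EGA4.Cpl R)) (EGA4.Cpl R) :=
    (inferInstance : IsAdicComplete (maximalIdeal (AdicCompletion (maximalIdeal R) R)) (AdicCompletion (maximalIdeal R) R))
  haveI : IsAdicComplete (maximalIdeal (EGA4.Cpl S)) (EGA4.Cpl S) :=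
    (inferInstance : IsAdicComplete (maximalIdeal (AdicCompletion (maximalIdeal S) S)) (AdicCompletion (maximalIdeal S) S))
  haveI : IsLocalHom (algebraMap (EGA4.Cpl R) (EGA4.Cpl S)) := inferInstance
  have hmR : (maximalIdeal R).map (algebraMap R (EGA4.Cpl R)) = maximalIdeal (EGA4.Cpl R) :=
    (AdicCompletion.maximalIdeal_eq_map).symm
  have hreg : CAlg.IsRegularHom (EGA4.Cpl R) (EGA4.Cpl S) := isRegularHom_of_closedFibre
    (geomRegular_closedFibre_of_dense (A := R) (fun r => by
      obtain ⟨a, ha⟩ := Cohen.exists_sub_mem_pow r 1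
      rw [pow_one] at ha
      exact ⟨a, hmR.ge ha⟩) hmR.le h)
  haveI : Module.Flat S (EGA4.Cpl S) := AdicCompletion.flat_of_isNoetherian _
  exact isRegularHom_of_etaleStages_comp hU hS (FlatDepth.isRegularHom_comp (B := EGA4.Cpl R) hR hreg
    fun p _ => FlatDepth.isNoetherianRing_tensor_essFinite R (EGA4.Cpl S) p.ResidueField)

/-- A Noetherian local ring with regular completion map is a G-ring. -/
theorem isGRing_of_local (R : Type u) [CommRing R] [IsLocalRing R] [IsNoetherianRing R]
    (h : CAlg.IsRegularHom R (EGA4.Cpl R)) : CAlg.IsGRing R := by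
  refine S2047.result.mpr fun m _ => ?_
  have hu : ∀ x : m.primeCompl, IsUnit (algebraMap R R (x : R)) := fun x => by
    by_contra hx
    exact x.2 ((IsLocalRing.eq_maximalIdeal ‹m.IsMaximal›) ▸ hx)
  haveI : IsLocalization m.primeCompl R := IsLocalization.of_le_isUnit (S := m.primeCompl) (fun x hx => hu ⟨x, hx⟩)
  exact Easy3.isRegularHom_completion_of_ringEquiv (IsLocalization.algEquiv m.primeCompl R (Localization.AtPrime m)).toRingEquiv h

/-- The completion map of a local G-ring is regular. -/
theorem isRegularHom_cpl_of_isGRing (R : Type u) [CommRing R] [IsLocalRing R] (h : CAlg.IsGRing R) :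
    CAlg.IsRegularHom R (EGA4.Cpl R) := S0600.result R h _

end localcase

end Groth.Agent.GRingCpl
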