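/-
Local properties of Noetherian rings and their fibrewise geometric versions.
-/
import Mathlib
import Groth.Agent.FlatDepth.Regular
import Groth.Agent.Catenary.Ring
import Groth.Agent.Cohen.Structure
import Groth.Agent.Easy3.Excellent
import Groth.Agent.GRingCpl.Stability
import Groth.Agent.GRingCpl.Complete

set_option autoImplicit false
set_option linter.style.haveILetI false
universe u

open IsLocalRing TensorProduct

namespace Groth.Agent.GRingCpl

/-- What a property of Noetherian rings has to satisfy for the localization theorem. -/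
structure LocProp (P : ∀ (R : Type u) [CommRing R], Prop) : Prop where
  equiv : ∀ (R R' : Type u) [CommRing R] [CommRing R'], (R ≃+* R') → P R → P R'
  of_localization : ∀ (R : Type u) [CommRing R] [IsNoetherianRing R],
    (∀ (q : Ideal R) [q.IsPrime], P (Localization.AtPrime q)) → P R
  localization : ∀ (R : Type u) [CommRing R] [IsNoetherianRing R] (q : Ideal R) [q.IsPrime],
    P R → P (Localization.AtPrime q)
  ascent : ∀ (R S : Type u) [CommRing R] [CommRing S] [Algebra R S] [IsNoetherianRing R] [IsNoetherianRing S]
    [Module.Flat R S], P R → (∀ (Q : Ideal R) [Q.IsPrime], P (Q.Fiber S)) → P S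
  descent : ∀ (R S : Type u) [CommRing R] [CommRing S] [Algebra R S] [IsNoetherianRing R] [IsNoetherianRing S]
    [Module.FaithfullyFlat R S], P S → P R
  of_regular : ∀ (R : Type u) [CommRing R] [IsRegularRing R], P R
  lift : ∀ (S : Type u) [CommRing S] [IsLocalRing S] [IsNoetherianRing S], CAlg.IsCatenary S →
    ∀ t : S, t ∈ maximalIdeal S → t ∈ nonZeroDivisors S → P (S ⧸ Ideal.span {t}) → P S

variable {P : ∀ (R : Type u) [CommRing R], Prop}

/-- The property passes to localizations. -/
theorem LocProp.of_isLocalization (hP : LocProp P) {R : Type u} [CommRing R] [IsNoetherianRing R]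
    (S : Submonoid R) (R' : Type u) [CommRing R'] [Algebra R R'] [IsLocalization S R'] (h : P R) : P R' := by
  haveI : IsNoetherianRing R' := IsLocalization.isNoetherianRing S R' inferInstance
  refine hP.of_localization R' fun Q _ => ?_
  haveI := IsLocalization.isLocalization_isLocalization_atPrime_isLocalization S (Localization.AtPrime Q) Q
  exact hP.equiv _ _ (IsLocalization.algEquiv (Q.comap (algebraMap R R')).primeCompl
    (Localization.AtPrime (Q.comap (algebraMap R R'))) (Localization.AtPrime Q)).toRingEquiv
    (hP.localization R _ h)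

/-- The fibre over `p` has the property geometrically. -/
def FibP (P : ∀ (R : Type u) [CommRing R], Prop) (A B : Type u) [CommRing A] [CommRing B] [Algebra A B]
    (p : Ideal A) [p.IsPrime] : Prop :=
  ∀ (L : Type u) [Field L] [Algebra p.ResidueField L] [Algebra A L] [IsScalarTower A p.ResidueField L]
    [Module.Finite p.ResidueField L], P (L ⊗[A] B)

theorem fibP_iff (hequiv : ∀ (R R' : Type u) [CommRing R] [CommRing R'], (R ≃+* R') → P R → P R')
    (A B : Type u) [CommRing A] [CommRing B] [Algebra A B] (p : Ideal A) [p.IsPrime] :
    FibP P A B p ↔ ∀ (L : Type u) [Field L] [Algebra p.ResidueField L],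
      Module.Finite p.ResidueField L → P (L ⊗[p.ResidueField] p.Fiber B) := by
  refine ⟨fun h L _ _ hL => ?_, fun h L _ _ _ _ _ => ?_⟩
  · haveI := hL
    letI : Algebra A L := ((algebraMap p.ResidueField L).comp (algebraMap A p.ResidueField)).toAlgebra
    haveI : IsScalarTower A p.ResidueField L := IsScalarTower.of_algebraMap_eq fun _ => rfl
    obtain ⟨e⟩ := FlatDepth.fiberTensor_equiv (A := A) (B := B) p L
    exact hequiv _ _ e.symm (h L)
  · obtain ⟨e⟩ := FlatDepth.fiberTensor_equiv (A := A) (B := B) p L
    exact hequiv _ _ e (h L inferInstance)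

/-- Regular homomorphisms have geometrically `P` fibres. -/
theorem fibP_of_isRegularHom (hP : LocProp P) {A B : Type u} [CommRing A] [CommRing B] [Algebra A B]
    (h : CAlg.IsRegularHom A B) (p : Ideal A) [p.IsPrime] : FibP P A B p :=
  (fibP_iff hP.equiv A B p).mpr fun L _ _ hL => haveI := (h.2 p).2 L hL; hP.of_regular _

/-- G-rings that are universally catenary. -/
def Nice (B : Type u) [CommRing B] : Prop := CAlg.IsGRing B ∧ CAlg.IsUniversallyCatenary B

theorem Nice.of_complete (B : Type u) [CommRing B] [IsLocalRing B] [IsNoetherianRing B]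
    [IsAdicComplete (maximalIdeal B) B] : Nice B :=
  ⟨isGRing_of_finiteType_complete (R0 := B) B, Cohen.isUniversallyCatenary_of_complete B⟩

theorem Nice.of_finiteType {B C : Type u} [CommRing B] [CommRing C] [Algebra B C] [Algebra.FiniteType B C]
    (h : Nice B) : Nice C :=
  ⟨isGRing_of_finiteType h.1, Catenary.isUniversallyCatenary_of_finiteType h.2⟩

theorem Nice.of_isLocalization {B : Type u} [CommRing B] (S : Submonoid B) (C : Type u) [CommRing C]
    [Algebra B C] [IsLocalization S C] (h : Nice B) : Nice C :=
  ⟨Easy3.isGRing_of_isLocalization S C h.1, Catenary.isUniversallyCatenary_of_isLocalization S C h.2⟩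

/-- The residue field of `B` is finite over `A`. -/
def ResFin (A B : Type u) [CommRing A] [CommRing B] [IsLocalRing B] [Algebra A B] : Prop :=
  ((residue B).comp (algebraMap A B)).Finite

end Groth.Agent.GRingCpl
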