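/-
Cohen–Macaulay, reduced and normal satisfy the hypotheses of the localization theorem.
-/
import Mathlib
import Groth.Agent.GRingCpl.PFibreProp
import Groth.Agent.FlatDepth.RegHom
import Groth.Agent.FlatDepth.CompDescent
import Groth.Agent.CMFlat.Localization
import Groth.Agent.CMFlat.FieldTensor
import Groth.Agent.GeomProp.NormalColim
import Groth.Agent.S2661

set_option autoImplicit false
set_option linter.style.haveILetI false
universe u

open IsLocalRing TensorProduct

namespace Groth.Agent.GRingCpl

/-- A local ring is its localization at the maximal ideal. -/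
noncomputable def atMaximalEquiv (R : Type u) [CommRing R] [IsLocalRing R] :
    R ≃+* Localization.AtPrime (maximalIdeal R) :=
  (IsLocalization.atUnits R (maximalIdeal R).primeCompl (S := Localization.AtPrime (maximalIdeal R))
    (fun x hx => IsLocalRing.notMem_maximalIdeal.1 hx)).toRingEquiv

theorem isCM_of_isCMLocal (R : Type u) [CommRing R] [LocCoh.IsCohenMacaulayLocalRing R] :
    LocCoh.IsCohenMacaulayRing R :=
  { isCohenMacaulayLocalRing_localization := fun p _ => CMFlat.isCohenMacaulayLocalRing_atPrime R p }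

theorem isCMLocal_of_isCM (R : Type u) [CommRing R] [IsLocalRing R] (h : LocCoh.IsCohenMacaulayRing R) :
    LocCoh.IsCohenMacaulayLocalRing R :=
  @CMChart.isCohenMacaulayLocalRing_of_ringEquiv _ _ _ _ (atMaximalEquiv R).symm
    (h.isCohenMacaulayLocalRing_localization (maximalIdeal R))

theorem locProp_cm : LocProp.{u} (fun R _ => LocCoh.IsCohenMacaulayRing R) where
  equiv _ _ _ _ e h := FlatDepth.isCM_of_equiv e h
  of_localization R _ _ h := { isCohenMacaulayLocalRing_localization := fun p _ => isCMLocal_of_isCM _ (h p) }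
  localization R _ _ q _ h := by
    haveI := h.isCohenMacaulayLocalRing_localization q
    exact isCM_of_isCMLocal _
  ascent R S _ _ _ _ _ _ hR hF := by
    haveI := hR
    exact CMFlat.isCohenMacaulayRing_of_fibers fun Q _ P _ => (hF Q).isCohenMacaulayLocalRing_localization P
  descent R S _ _ _ _ _ _ h := FlatDepth.cm_descent (B := S) h
  of_regular R _ _ := FlatDepth.isCM_of_isRegularRing R
  lift S _ _ _ _ t ht hreg h := by
    haveI : Nontrivial (S ⧸ Ideal.span {t}) := Ideal.Quotient.nontrivial_iff.mpr fun h0 =>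
      (maximalIdeal.isMaximal S).ne_top (top_le_iff.mp (h0 ▸ (Ideal.span_singleton_le_iff_mem _).mpr ht))
    haveI : IsLocalRing (S ⧸ Ideal.span {t}) := IsLocalRing.of_surjective' _ Ideal.Quotient.mk_surjective
    haveI := isCMLocal_of_isCM _ h
    have hts : IsSMulRegular S t := fun a b hab => by
      have h1 : (a - b) * t = 0 := by
        rw [sub_mul, mul_comm a, mul_comm b]
        exact sub_eq_zero.mpr hab
      exact sub_eq_zero.mp ((mem_nonZeroDivisors_iff_right.mp hreg) _ h1)
    obtain ⟨n, hn⟩ := SerreReg.exists_dim_nat (S ⧸ Ideal.span {t})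
    have hdim : ringKrullDim S = ((n + 1 : ℕ) : WithBot ℕ∞) := by
      rw [← ringKrullDim_quotient_span_singleton_succ_eq_ringKrullDim_of_mem_jacobson hts
        (by rwa [IsLocalRing.ringJacobson_eq_maximalIdeal]), hn]
      rfl
    obtain ⟨rs, hlen, hw, hm⟩ := SerreReg.exists_list_of_hasRegSeq n (CMFlat.hasRegSeq_of_cm hn)
    choose g hg using fun x : S ⧸ Ideal.span {t} => Ideal.Quotient.mk_surjective x
    have hmap : (rs.map g).map (algebraMap S (S ⧸ Ideal.span {t})) = rs := by
      rw [List.map_map]
      conv_rhs => rw [← List.map_id rs]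
      exact List.map_congr_left fun x _ => hg x
    have e : QuotSMulTop t S ≃ₗ[S] S ⧸ Ideal.span {t} := Submodule.quotEquivOfEq _ _ (by
      rw [← Submodule.ideal_span_singleton_smul, smul_eq_mul, Ideal.mul_top])
    have hw' : RingTheory.Sequence.IsWeaklyRegular S (t :: rs.map g) := by
      rw [RingTheory.Sequence.isWeaklyRegular_cons_iff]
      refine ⟨hts, (e.isWeaklyRegular_congr _).2 ?_⟩
      rw [← RingTheory.Sequence.isWeaklyRegular_map_algebraMap_iff (S := S ⧸ Ideal.span {t}), hmap]
      exact hw
    haveI : LocCoh.IsCohenMacaulayLocalRing S := by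
      refine CMFlat.isCohenMacaulayLocalRing_of_dim_le_depth hdim (le_trans ?_
        (CMFlat.le_depth_of_isWeaklyRegular hw' fun r hr => ?_))
      · rw [List.length_cons, List.length_map, hlen]
      · rcases List.mem_cons.mp hr with rfl | hr
        · exact ht
        obtain ⟨x, hx, rfl⟩ := List.mem_map.mp hr
        intro hu
        exact (IsLocalRing.mem_maximalIdeal _).mp (hm x hx) (hg x ▸ hu.map (Ideal.Quotient.mk _))
    exact isCM_of_isCMLocal S

theorem locProp_reduced : LocProp.{u} (fun R _ => IsReduced R) where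
  equiv _ _ _ _ e h := haveI := h; isReduced_of_injective e.symm e.symm.injective
  of_localization R _ _ h := by
    haveI : ∀ p : MaximalSpectrum R, IsReduced (Localization.AtPrime p.asIdeal) := fun p => h p.asIdeal
    exact isReduced_of_injective (MaximalSpectrum.toPiLocalization R) (MaximalSpectrum.toPiLocalization_injective R)
  localization R _ _ q _ h := haveI := h; inferInstance
  ascent R S _ _ _ _ _ _ hR hF :=
    haveI := hR
    FlatDepth.isReduced_of_flat (minimalPrimes.finite_of_isNoetherianRing R) fun Q _ _ => hF Q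
  descent R S _ _ _ _ _ _ h :=
    haveI := h
    isReduced_of_injective (algebraMap R S) (FaithfulSMul.algebraMap_injective R S)
  of_regular R _ _ := FlatDepth.isReduced_of_isNormalRing R (FlatDepth.isNormalRing_of_isRegularRing R)
  lift S _ _ _ _ t ht hreg h := by
    haveI := h
    have key : ∀ k : ℕ, ∀ x : S, IsNilpotent x → x ∈ Ideal.span {t} ^ k := by
      intro k
      induction k with
      | zero => intro x _; rw [pow_zero, Ideal.one_eq_top]; exact Submodule.mem_top
      | succ k ih =>
        intro x hx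
        have h1 : x ∈ Ideal.span {t} :=
          Ideal.Quotient.eq_zero_iff_mem.mp (hx.map (Ideal.Quotient.mk _)).eq_zero
        obtain ⟨y, rfl⟩ := Ideal.mem_span_singleton'.mp h1
        have hy : IsNilpotent y := by
          obtain ⟨m, hm⟩ := hx
          refine ⟨m, (mem_nonZeroDivisors_iff_right.mp (pow_mem hreg m)) _ ?_⟩
          rw [← mul_pow, hm]
        rw [pow_succ]
        exact Ideal.mul_mem_mul (ih y hy) (Ideal.mem_span_singleton_self t)
    refine ⟨fun x hx => ?_⟩
    have h2 : x ∈ ⨅ k : ℕ, Ideal.span {t} ^ k := Ideal.mem_iInf.mpr fun k => key k x hx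
    rwa [Ideal.iInf_pow_eq_bot_of_isLocalRing (R := S) (Ideal.span {t}) fun h0 =>
      (maximalIdeal.isMaximal S).ne_top (top_le_iff.mp (h0 ▸ (Ideal.span_singleton_le_iff_mem _).mpr ht)),
      Ideal.mem_bot] at h2

theorem locProp_normal : LocProp.{u} (fun R _ => EGA4.IsNormalRing R) where
  equiv _ _ _ _ e h := FlatDepth.isNormalRing_of_equiv e h
  of_localization R _ _ h p _ := by
    obtain ⟨_, _⟩ := h p (maximalIdeal (Localization.AtPrime p))
    let e := atMaximalEquiv (Localization.AtPrime p)
    haveI := MulEquiv.isDomain _ e.toMulEquiv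
    exact ⟨inferInstance, IsIntegrallyClosed.of_equiv e.symm⟩
  localization R _ _ q _ h := by
    obtain ⟨_, _⟩ := h q
    exact GeomProp.isNormalRing_of_domain _
  ascent R S _ _ _ _ _ _ hR hF q _ := by
    refine FlatDepth.normal_ascent (A := R) (fun P _ => ?_) hR q
    obtain ⟨Q, _, ⟨e⟩⟩ := FlatDepth.exists_fibre_equiv (A := R) P
    obtain ⟨_, _⟩ := hF _ Q
    haveI := e.symm.toMulEquiv.isDomain (Localization.AtPrime Q)
    exact ⟨inferInstance, IsIntegrallyClosed.of_equiv (R := Localization.AtPrime Q) e⟩
  descent R S _ _ _ _ _ _ h q _ := by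
    obtain ⟨P, _, hP, -⟩ := FlatDepth.exists_minimal_over (B := S) q
    obtain ⟨_, _⟩ := h P
    subst hP
    exact FlatDepth.normal_atPrime_descent P
  of_regular R _ _ := FlatDepth.isNormalRing_of_isRegularRing R
  lift S _ _ _ hcat t ht hreg h := by
    haveI : Nontrivial (S ⧸ Ideal.span {t}) := Ideal.Quotient.nontrivial_iff.mpr fun h0 =>
      (maximalIdeal.isMaximal S).ne_top (top_le_iff.mp (h0 ▸ (Ideal.span_singleton_le_iff_mem _).mpr ht))
    haveI : IsLocalRing (S ⧸ Ideal.span {t}) := IsLocalRing.of_surjective' _ Ideal.Quotient.mk_surjective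
    obtain ⟨_, _⟩ := h (maximalIdeal (S ⧸ Ideal.span {t}))
    let e := atMaximalEquiv (S ⧸ Ideal.span {t})
    haveI := MulEquiv.isDomain _ e.toMulEquiv
    haveI := IsIntegrallyClosed.of_equiv e.symm
    obtain ⟨_, _⟩ := S2661.result S hcat t ht hreg
    exact GeomProp.isNormalRing_of_domain S

end Groth.Agent.GRingCpl

namespace Groth.Agent.GRingCpl

/-- Cohen–Macaulayness is preserved by finite extensions of the base field. -/
theorem isCM_field_extension (k R K : Type u) [Field k] [CommRing R] [Algebra k R] [Field K] [Algebra k K]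
    [Module.Finite k K] (h : LocCoh.IsCohenMacaulayRing R) : LocCoh.IsCohenMacaulayRing (K ⊗[k] R) := by
  haveI := h
  haveI : IsNoetherianRing (R ⊗[k] K) := IsNoetherianRing.of_finite R (R ⊗[k] K)
  refine FlatDepth.isCM_of_equiv (Algebra.TensorProduct.comm k R K).toRingEquiv
    (locProp_cm.{u}.ascent R (R ⊗[k] K) h fun Q _ => ?_)
  obtain ⟨hN, hQ⟩ := CMFlat.isCohenMacaulay_tensor_field k K Q.ResidueField
  haveI := hN
  exact FlatDepth.isCM_of_equiv (Algebra.TensorProduct.cancelBaseChange k R Q.ResidueField Q.ResidueField K).symm.toRingEquiv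
    { isCohenMacaulayLocalRing_localization := fun p _ => hQ p }

end Groth.Agent.GRingCpl
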