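/-
Transport lemmas for geometric properties of fibres.
-/
import Mathlib
import Groth.Agent.GRingCpl.PFibreProp
import Groth.Agent.FlatDepth.FiniteDomains
import Groth.Agent.GRingCpl.Decomp

set_option autoImplicit false
set_option linter.style.haveILetI false
universe u

open IsLocalRing TensorProduct

namespace Groth.Agent.GRingCpl

variable {P : ∀ (R : Type u) [CommRing R], Prop}

/-- Localizing the right factor preserves the property. -/
theorem tensor_localization (hP : LocProp P) {A T T' : Type u} [CommRing A] [CommRing T] [Algebra A T] (M : Submonoid T)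
    [CommRing T'] [Algebra T T'] [Algebra A T'] [IsScalarTower A T T'] [IsLocalization M T']
    (L : Type u) [CommRing L] [Algebra A L] [IsNoetherianRing (L ⊗[A] T)] (h : P (L ⊗[A] T)) : P (L ⊗[A] T') := by
  let f : L ⊗[A] T →ₐ[L] L ⊗[A] T' := Algebra.TensorProduct.map (AlgHom.id L L) (IsScalarTower.toAlgHom A T T')
  letI : Algebra (L ⊗[A] T) (L ⊗[A] T') := f.toRingHom.toAlgebra
  haveI : IsScalarTower L (L ⊗[A] T) (L ⊗[A] T') := IsScalarTower.of_algebraMap_eq fun l => (f.commutes l).symm
  haveI := IsLocalization.tensorProduct_tensorProduct_right A L M T' (RingHom.ext fun t => rfl)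
  exact hP.of_isLocalization (M.map (Algebra.TensorProduct.includeRight (R := A) (A := L))) (L ⊗[A] T') h

/-- Local rings of the generic fibre. -/
theorem atPrime_of_generic (hP : LocProp P) {A B : Type u} [CommRing A] [IsDomain A] [CommRing B] [Algebra A B]
    (K : Type u) [Field K] [Algebra A K] [IsFractionRing A K] [IsNoetherianRing (K ⊗[A] B)] (h : P (K ⊗[A] B))
    (Pr : Ideal B) [Pr.IsPrime] (hPr : Pr.comap (algebraMap A B) = ⊥) : P (Localization.AtPrime Pr) := by
  let e : A ⊗[A] B ≃ₐ[A] B := Algebra.TensorProduct.lid A B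
  obtain ⟨Q, _, ⟨e1⟩⟩ := (FlatDepth.generic_fibre_primes A B A K).2 (Pr.comap e.toRingEquiv.toRingHom) (by
    rw [Ideal.comap_comap, show e.toRingEquiv.toRingHom.comp (algebraMap A (A ⊗[A] B)) = algebraMap A B from
      RingHom.ext fun a => e.commutes a, hPr])
  obtain ⟨e2⟩ := exists_equiv_atPrime e.toRingEquiv.toRingHom e.surjective
    (fun x hx => ⟨0 + 1, by simp, by
      rw [(map_eq_zero_iff _ e.injective).mp (show e x = 0 from hx), mul_zero]⟩) Pr
  exact hP.equiv _ _ (e1.symm.trans e2) (hP.localization (K ⊗[A] B) Q h)

/-- The property does not see a change of base inducing an isomorphism of the quotients acting on the field. -/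
theorem tensor_of_dense (hP : LocProp P) {A A1 S L : Type u} [CommRing A] [CommRing A1] [CommRing S] [Field L]
    [Algebra A A1] [Algebra A1 S] [Algebra A S] [IsScalarTower A A1 S] [Algebra A1 L] [Algebra A L]
    [IsScalarTower A A1 L] (I : Ideal A) (hI : ∀ b ∈ I, algebraMap A L b = 0)
    (hd : ∀ r : A1, ∃ a : A, r - algebraMap A A1 a ∈ I.map (algebraMap A A1))
    (h : P (L ⊗[A] S)) : P (L ⊗[A1] S) := by
  haveI : TensorProduct.CompatibleSMul A A1 L S := ⟨fun r x y => by
    obtain ⟨a, ha⟩ := hd r
    have key : ∀ z ∈ I.map (algebraMap A A1), z • x = 0 ∧ x ⊗ₜ[A] (z • y) = 0 := fun z hz => by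
      refine ⟨?_, ?_⟩
      · have h0 : algebraMap A1 L z = 0 := by
          refine RingHom.mem_ker.mp (Ideal.map_le_iff_le_comap.mpr (fun b hb => ?_) hz)
          rw [Ideal.mem_comap, RingHom.mem_ker, ← IsScalarTower.algebraMap_apply]
          exact hI b hb
        rw [Algebra.smul_def, h0, zero_mul]
      rw [Ideal.map, Ideal.span] at hz
      induction hz using Submodule.span_induction generalizing y with
      | mem z hz =>
        obtain ⟨b, hb, rfl⟩ := hz
        rw [algebraMap_smul, ← TensorProduct.smul_tmul, Algebra.smul_def, hI b hb, zero_mul,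
          TensorProduct.zero_tmul]
      | zero => rw [zero_smul, TensorProduct.tmul_zero]
      | add u v _ _ hu hv => rw [add_smul, TensorProduct.tmul_add, hu, hv, add_zero]
      | smul c u _ hu => rw [smul_eq_mul, mul_comm, mul_smul]; exact hu (c • y)
    obtain ⟨h1, h2⟩ := key _ ha
    rw [sub_smul, sub_eq_zero, algebraMap_smul] at h1
    rw [sub_smul, TensorProduct.tmul_sub, sub_eq_zero, algebraMap_smul] at h2
    rw [h1, h2, TensorProduct.smul_tmul]⟩
  exact hP.equiv _ _ (Algebra.TensorProduct.equivOfCompatibleSMul A A1 A L S).symm.toRingEquiv h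

/-- Geometric fibres applied to a field with given kernel. -/
theorem FibP.apply {A B : Type u} [CommRing A] [CommRing B] [Algebra A B] {p : Ideal A} [p.IsPrime]
    (h : FibP P A B p) (L : Type u) [Field L] [Algebra A L] (hker : RingHom.ker (algebraMap A L) = p)
    (hfin : ∀ (_ : Algebra p.ResidueField L), IsScalarTower A p.ResidueField L → Module.Finite p.ResidueField L) :
    P (L ⊗[A] B) := by
  have hu : p.primeCompl ≤ (IsUnit.submonoid L).comap (algebraMap A L) := fun x hx =>
    IsUnit.mk0 _ fun h0 => hx (hker.le h0)
  letI : Algebra p.ResidueField L := (Ideal.ResidueField.lift p (algebraMap A L) hker.ge hu).toAlgebra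
  haveI : IsScalarTower A p.ResidueField L := IsScalarTower.of_algebraMap_eq fun a =>
    (Ideal.ResidueField.lift_algebraMap _ _ _ _ a).symm
  haveI := hfin inferInstance inferInstance
  exact h L

/-- A field finite over `A` is finite over the residue field at the kernel. -/
theorem FibP.apply_finite {A B : Type u} [CommRing A] [CommRing B] [Algebra A B] {p : Ideal A} [p.IsPrime]
    (h : FibP P A B p) (L : Type u) [Field L] [Algebra A L] [Module.Finite A L]
    (hker : RingHom.ker (algebraMap A L) = p) : P (L ⊗[A] B) :=
  h.apply L hker fun _ _ => Module.Finite.of_restrictScalars_finite A p.ResidueField L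

/-- Changing to the local ring at the prime does not enlarge the finite extensions. -/
theorem FibP.apply_atPrime {A B : Type u} [CommRing A] [CommRing B] [Algebra A B] {q : Ideal A} [q.IsPrime]
    (h : FibP P A B q) (L : Type u) [Field L] [Algebra (maximalIdeal (Localization.AtPrime q)).ResidueField L]
    [Algebra (Localization.AtPrime q) L] [IsScalarTower (Localization.AtPrime q) (maximalIdeal (Localization.AtPrime q)).ResidueField L]
    [Algebra A L] [IsScalarTower A (Localization.AtPrime q) L]
    [Module.Finite (maximalIdeal (Localization.AtPrime q)).ResidueField L] : P (L ⊗[A] B) := by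
  let Aq := Localization.AtPrime q
  let κ' := (maximalIdeal Aq).ResidueField
  refine h.apply L ?_ fun _ _ => ?_
  · ext a
    rw [RingHom.mem_ker, IsScalarTower.algebraMap_apply A Aq L, IsScalarTower.algebraMap_apply Aq κ' L, map_eq_zero,
      Ideal.algebraMap_residueField_eq_zero, ← IsLocalization.AtPrime.to_map_mem_maximal_iff Aq q]
  let φ : q.ResidueField →+* κ' := Ideal.ResidueField.map q (maximalIdeal Aq) (algebraMap A Aq)
    (IsLocalization.AtPrime.comap_maximalIdeal Aq q).symm
  have hφ : Function.Surjective φ := fun z => by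
    obtain ⟨w, rfl⟩ := Ideal.algebraMap_residueField_surjective (maximalIdeal Aq) z
    obtain ⟨a, s, rfl⟩ := IsLocalization.exists_mk'_eq q.primeCompl w
    have hs : algebraMap Aq κ' (algebraMap A Aq (s : A)) ≠ 0 := fun h0 => by
      rw [Ideal.algebraMap_residueField_eq_zero, IsLocalization.AtPrime.to_map_mem_maximal_iff Aq q] at h0
      exact s.2 h0
    refine ⟨algebraMap A q.ResidueField a / algebraMap A q.ResidueField s, ?_⟩
    rw [map_div₀, Ideal.ResidueField.map_algebraMap, Ideal.ResidueField.map_algebraMap, div_eq_iff hs, ← map_mul,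
      IsLocalization.mk'_spec]
  have hcomp : algebraMap q.ResidueField L = (algebraMap κ' L).comp φ := Ideal.ResidueField.ringHom_ext (RingHom.ext fun a => by
    rw [RingHom.comp_apply, RingHom.comp_apply, RingHom.comp_apply, Ideal.ResidueField.map_algebraMap,
      ← IsScalarTower.algebraMap_apply A q.ResidueField L, ← IsScalarTower.algebraMap_apply Aq κ' L,
      ← IsScalarTower.algebraMap_apply A Aq L])
  rw [← RingHom.finite_algebraMap, hcomp]
  exact (RingHom.finite_algebraMap.mpr inferInstance).comp (RingHom.Finite.of_surjective φ hφ)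

end Groth.Agent.GRingCpl
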