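/-
Completions of unibranch local rings with geometrically normal formal fibres.
-/
import Mathlib
import Groth.Agent.GRingCpl.PFibreInst
import Groth.Agent.GRingCpl.PFibreLemmas
import Groth.Agent.Cohen.FormallyCatenary
import Groth.Agent.Cohen.Ratliff
import Groth.Agent.S2646
import Groth.Agent.S4754
import Groth.Agent.Easy4.PushCpl
import Groth.Prelude.Def_CAlg2

set_option autoImplicit false
set_option linter.style.haveILetI false
universe u

open IsLocalRing TensorProduct

attribute [local instance] Algebra.TensorProduct.rightAlgebra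

namespace Groth.Agent.GRingCpl

section

variable {A A' : Type u} [CommRing A] [IsLocalRing A] [IsNoetherianRing A] [IsDomain A] [CommRing A'] [IsDomain A']
  [Algebra A A'] [FaithfulSMul A A'] [Module.Finite A A'] [IsIntegrallyClosed A']

/-- The base change of a normalisation to the completion is normal. -/
theorem isNormalRing_normalization_cpl (hA : EGA4.HasGeomNormalFormalFibres A) :
    EGA4.IsNormalRing (A' ⊗[A] EGA4.Cpl A) := by
  haveI : IsNoetherianRing (EGA4.Cpl A) := AdicBasics.isNoetherianRing_completion A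
  haveI : Module.Flat A (EGA4.Cpl A) := AdicCompletion.flat_of_isNoetherian _
  haveI : IsNoetherianRing A' := IsNoetherianRing.of_finite A A'
  haveI : IsNoetherianRing (A' ⊗[A] EGA4.Cpl A) := by
    haveI : IsNoetherianRing (EGA4.Cpl A ⊗[A] A') := IsNoetherianRing.of_finite (EGA4.Cpl A) _
    exact isNoetherianRing_of_ringEquiv _ (Algebra.TensorProduct.comm A (EGA4.Cpl A) A').toRingEquiv
  refine locProp_normal.ascent A' (A' ⊗[A] EGA4.Cpl A) (GeomProp.isNormalRing_of_domain A') fun Q _ => ?_
  let p := Q.comap (algebraMap A A')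
  have hfib : FibP (fun R _ => EGA4.IsNormalRing R) A (EGA4.Cpl A) p :=
    (fibP_iff locProp_normal.equiv A (EGA4.Cpl A) p).mpr (hA p)
  have h : EGA4.IsNormalRing (Q.ResidueField ⊗[A] EGA4.Cpl A) := hfib.apply Q.ResidueField
    (by rw [IsScalarTower.algebraMap_eq A A' Q.ResidueField, ← RingHom.comap_ker, Ideal.ker_algebraMap_residueField])
    fun _ _ => by
      haveI : Algebra.QuasiFinite A Q.ResidueField := Algebra.QuasiFinite.trans A A' _
      haveI : Algebra.QuasiFinite p.ResidueField Q.ResidueField := .of_restrictScalars A _ _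
      exact .of_quasiFinite
  exact locProp_normal.equiv _ _ (Algebra.TensorProduct.cancelBaseChange A A' Q.ResidueField Q.ResidueField (EGA4.Cpl A)).symm.toRingEquiv h

omit [IsDomain A] [IsDomain A'] [IsIntegrallyClosed A'] [FaithfulSMul A A'] in
theorem exists_approx (M : Ideal A') [M.IsMaximal] (t : A' ⊗[A] EGA4.Cpl A) :
    ∃ a' : A', t - a' ⊗ₜ 1 ∈ M.map (algebraMap A' (A' ⊗[A] EGA4.Cpl A)) := by
  haveI : Algebra.IsIntegral A A' := Algebra.IsIntegral.of_finite A A'
  induction t using TensorProduct.induction_on with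
  | zero => exact ⟨0, by rw [TensorProduct.zero_tmul, sub_zero]; exact Ideal.zero_mem _⟩
  | add x y hx hy =>
    obtain ⟨a, ha⟩ := hx
    obtain ⟨b, hb⟩ := hy
    refine ⟨a + b, ?_⟩
    rw [TensorProduct.add_tmul, show x + y - (a ⊗ₜ 1 + b ⊗ₜ 1) = (x - a ⊗ₜ 1) + (y - b ⊗ₜ 1) by ring]
    exact add_mem ha hb
  | tmul x c =>
    obtain ⟨a, ha⟩ := Cohen.exists_sub_mem_pow c 1
    refine ⟨a • x, ?_⟩
    rw [pow_one] at ha
    have h1 : c - algebraMap A (EGA4.Cpl A) a ∈ (maximalIdeal A).map (algebraMap A (EGA4.Cpl A)) := by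
      have h0 := ha
      rwa [show maximalIdeal (AdicCompletion (maximalIdeal A) A) = _ from AdicCompletion.maximalIdeal_eq_map] at h0
    have h2 : x ⊗ₜ c - (a • x) ⊗ₜ (1 : EGA4.Cpl A) =
        (x ⊗ₜ[A] (1 : EGA4.Cpl A)) * (Algebra.TensorProduct.includeRight (R := A) (A := A') (c - algebraMap A (EGA4.Cpl A) a)) := by
      rw [map_sub, mul_sub, Algebra.TensorProduct.includeRight_apply, Algebra.TensorProduct.includeRight_apply,
        Algebra.TensorProduct.tmul_mul_tmul, Algebra.TensorProduct.tmul_mul_tmul, mul_one, one_mul, one_mul,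
        Algebra.algebraMap_eq_smul_one, ← TensorProduct.smul_tmul]
    rw [h2]
    refine Ideal.mul_mem_left _ _ ?_
    have h3 := Ideal.mem_map_of_mem (Algebra.TensorProduct.includeRight (R := A) (A := A') (B := EGA4.Cpl A)) h1
    refine Ideal.map_le_iff_le_comap.mpr ?_ h3
    refine Ideal.map_le_iff_le_comap.mpr fun b hb => ?_
    show Algebra.TensorProduct.includeRight (R := A) (A := A') (algebraMap A (EGA4.Cpl A) b) ∈
      M.map (algebraMap A' (A' ⊗[A] EGA4.Cpl A))
    rw [AlgHom.commutes, IsScalarTower.algebraMap_apply A A' (A' ⊗[A] EGA4.Cpl A)]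
    exact Ideal.mem_map_of_mem _ (FinComplete.map_le_maximal A A' M (Ideal.mem_map_of_mem _ hb))

omit [IsDomain A] [IsIntegrallyClosed A'] [FaithfulSMul A A'] [IsDomain A'] in
/-- If `A'` is local then so is its base change to the completion. -/
theorem isLocalRing_normalization_cpl [IsLocalRing A'] : IsLocalRing (A' ⊗[A] EGA4.Cpl A) := by
  haveI : Module.FaithfullyFlat A (EGA4.Cpl A) := Module.FaithfullyFlat.of_flat_of_isLocalHom
  haveI : Algebra.IsIntegral A A' := Algebra.IsIntegral.of_finite A A'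
  haveI : Nontrivial (A' ⊗[A] EGA4.Cpl A) := (PrimeSpectrum.comap_surjective_of_faithfullyFlat (A := A') (B := A' ⊗[A] EGA4.Cpl A)
    ⟨maximalIdeal A', inferInstance⟩).choose.isPrime.ne_top |> fun h => nontrivial_of_ne_top h
  refine IsLocalRing.of_nonunits_add fun x y hx hy hxy => ?_
  -- every maximal ideal contains the image of the maximal ideal
  let J := (maximalIdeal A').map (algebraMap A' (A' ⊗[A] EGA4.Cpl A))
  have hJ : ∀ N : Ideal (A' ⊗[A] EGA4.Cpl A), N.IsMaximal → J ≤ N := fun N hN => by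
    haveI : Algebra.IsIntegral (EGA4.Cpl A) (A' ⊗[A] EGA4.Cpl A) := by
      haveI : Module.Finite (EGA4.Cpl A) (A' ⊗[A] EGA4.Cpl A) := finite_rightTensor A A' (EGA4.Cpl A)
      exact Algebra.IsIntegral.of_finite _ _
    rw [Ideal.map_le_iff_le_comap]
    haveI : (N.comap (algebraMap A' (A' ⊗[A] EGA4.Cpl A))).IsPrime := Ideal.comap_isPrime _ N
    have h1 : (maximalIdeal A).map (algebraMap A A') ≤ N.comap (algebraMap A' (A' ⊗[A] EGA4.Cpl A)) := by
      rw [Ideal.map_le_iff_le_comap, Ideal.comap_comap, ← IsScalarTower.algebraMap_eq]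
      intro b hb
      show algebraMap A (A' ⊗[A] EGA4.Cpl A) b ∈ N
      rw [IsScalarTower.algebraMap_apply A (EGA4.Cpl A) (A' ⊗[A] EGA4.Cpl A)]
      refine FinComplete.map_le_maximal (EGA4.Cpl A) _ N (Ideal.mem_map_of_mem _ ?_)
      show algebraMap A (AdicCompletion (maximalIdeal A) A) b ∈ maximalIdeal (AdicCompletion (maximalIdeal A) A)
      rw [AdicCompletion.maximalIdeal_eq_map]
      exact Ideal.mem_map_of_mem _ hb
    haveI := FinComplete.isMaximal_of_map_le A A' _ h1
    exact (IsLocalRing.eq_maximalIdeal (I := N.comap (algebraMap A' (A' ⊗[A] EGA4.Cpl A))) inferInstance).ge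
  have key : ∀ z : A' ⊗[A] EGA4.Cpl A, ¬ IsUnit z → z ∈ J := fun z hz => by
    obtain ⟨N, hN, hzN⟩ := exists_max_ideal_of_mem_nonunits hz
    obtain ⟨a, ha⟩ := exists_approx (maximalIdeal A') z
    by_cases ham : a ∈ maximalIdeal A'
    · have := add_mem ha (Ideal.mem_map_of_mem (algebraMap A' (A' ⊗[A] EGA4.Cpl A)) ham)
      rwa [show z - a ⊗ₜ 1 + algebraMap A' (A' ⊗[A] EGA4.Cpl A) a = z by
        rw [Algebra.TensorProduct.algebraMap_apply]; simp] at this
    · exfalso
      have h1 : (a ⊗ₜ 1 : A' ⊗[A] EGA4.Cpl A) ∈ N := by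
        have := sub_mem hzN (hJ N hN ha)
        rwa [sub_sub_cancel] at this
      exact hN.ne_top (Ideal.eq_top_of_isUnit_mem _ h1
        ((IsLocalRing.notMem_maximalIdeal.mp ham).map (algebraMap A' (A' ⊗[A] EGA4.Cpl A))))
  obtain ⟨N, hN⟩ := Ideal.exists_maximal (A' ⊗[A] EGA4.Cpl A)
  exact hN.ne_top (Ideal.eq_top_of_isUnit_mem _ (add_mem (hJ N hN (key x hx)) (hJ N hN (key y hy))) hxy)
where
  nontrivial_of_ne_top {R : Type u} [CommRing R] {I : Ideal R} (h : I ≠ ⊤) : Nontrivial R :=
    ⟨0, 1, fun h0 => h ((Ideal.eq_top_iff_one I).mpr (h0 ▸ I.zero_mem))⟩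
  finite_rightTensor (A A' B : Type u) [CommRing A] [CommRing A'] [CommRing B] [Algebra A A'] [Algebra A B]
      [Module.Finite A A'] : Module.Finite B (A' ⊗[A] B) :=
    Module.Finite.of_surjective
      (AlgHom.toLinearMap
        ({ (Algebra.TensorProduct.comm A B A').toRingEquiv.toRingHom with commutes' := fun _ => rfl } :
          B ⊗[A] A' →ₐ[B] A' ⊗[A] B))
      (Algebra.TensorProduct.comm A B A').surjective

omit [IsDomain A] [IsDomain A'] [Module.Finite A A'] [IsIntegrallyClosed A'] in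
/-- `A → A'` stays injective after completion. -/
theorem injective_cpl_normalization :
    Function.Injective (algebraMap (EGA4.Cpl A) (A' ⊗[A] EGA4.Cpl A)) := by
  haveI : Module.Flat A (EGA4.Cpl A) := AdicCompletion.flat_of_isNoetherian _
  intro x y h
  have h' : (Algebra.linearMap A A').rTensor (EGA4.Cpl A) ((TensorProduct.lid A _).symm x) =
      (Algebra.linearMap A A').rTensor (EGA4.Cpl A) ((TensorProduct.lid A _).symm y) := by
    rw [TensorProduct.lid_symm_apply, TensorProduct.lid_symm_apply, LinearMap.rTensor_tmul, LinearMap.rTensor_tmul,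
      Algebra.linearMap_apply, map_one]
    exact h
  exact (TensorProduct.lid A _).symm.injective
    (Module.Flat.rTensor_preserves_injective_linearMap _ (FaithfulSMul.algebraMap_injective A A') h')

include A' in
/-- If the normalisation is local, the completion is a domain. -/
theorem isDomain_cpl_of_normalization [IsLocalRing A'] (hA : EGA4.HasGeomNormalFormalFibres A) :
    IsDomain (A' ⊗[A] EGA4.Cpl A) ∧ IsIntegrallyClosed (A' ⊗[A] EGA4.Cpl A) ∧ IsDomain (EGA4.Cpl A) := by
  haveI : IsLocalRing (A' ⊗[A] EGA4.Cpl A) := isLocalRing_normalization_cpl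
  obtain ⟨_, _⟩ := isNormalRing_normalization_cpl (A' := A') hA (maximalIdeal (A' ⊗[A] EGA4.Cpl A))
  let e := atMaximalEquiv (A' ⊗[A] EGA4.Cpl A)
  haveI : IsDomain (A' ⊗[A] EGA4.Cpl A) := e.toMulEquiv.isDomain _
  exact ⟨inferInstance, IsIntegrallyClosed.of_equiv e.symm,
    (injective_cpl_normalization (A' := A')).isDomain _⟩

omit [IsIntegrallyClosed A'] in
/-- If the completion is a domain, the normalisation is local. -/
theorem isLocalRing_of_isDomain_cpl (hbir : ∀ x : A', ∃ a : A, a ≠ 0 ∧ a • x ∈ Set.range (algebraMap A A'))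
    [IsDomain (EGA4.Cpl A)] : IsLocalRing A' := by
  haveI : Module.FaithfullyFlat A (EGA4.Cpl A) := Module.FaithfullyFlat.of_flat_of_isLocalHom
  haveI : Module.Flat A' (A' ⊗[A] EGA4.Cpl A) := inferInstance
  let T := A' ⊗[A] EGA4.Cpl A
  -- the base change sits inside the completion up to denominators
  have hfrac : ∀ t : T, ∃ (a : A) (c : EGA4.Cpl A), a ≠ 0 ∧ a • t = algebraMap (EGA4.Cpl A) T c := fun t => by
    induction t using TensorProduct.induction_on with
    | zero => exact ⟨1, 0, one_ne_zero, by rw [smul_zero, map_zero]⟩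
    | add x y hx hy =>
      obtain ⟨a, c, ha, hac⟩ := hx
      obtain ⟨b, d, hb, hbd⟩ := hy
      refine ⟨a * b, b • c + a • d, mul_ne_zero ha hb, ?_⟩
      rw [smul_add, mul_comm a b, mul_smul, hac, mul_comm b a, mul_smul, hbd]
      exact (((IsScalarTower.toAlgHom A (EGA4.Cpl A) T).map_add _ _).trans (congrArg₂ (· + ·)
        (map_smul (IsScalarTower.toAlgHom A (EGA4.Cpl A) T) b c) (map_smul (IsScalarTower.toAlgHom A (EGA4.Cpl A) T) a d))).symm
    | tmul x c =>
      obtain ⟨a, ha, a₀, ha₀⟩ := hbir x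
      refine ⟨a, a₀ • c, ha, ?_⟩
      rw [TensorProduct.smul_tmul', ← ha₀, Algebra.algebraMap_eq_smul_one, TensorProduct.smul_tmul]
      rfl
  have hreg : ∀ (a : A) (t : T), a ≠ 0 → a • t = 0 → t = 0 := fun a t ha h => by
    have h1 : Function.Injective (LinearMap.lsmul A A' a) := fun u v huv => by
      simpa [Algebra.smul_def, sub_eq_zero, (FaithfulSMul.algebraMap_injective A A').ne_iff' (map_zero _) |>.mpr ha] using huv
    have h2 := Module.Flat.rTensor_preserves_injective_linearMap (M := EGA4.Cpl A) _ h1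
    refine h2 ?_
    have h3 : ∀ t : T, (LinearMap.lsmul A A' a).rTensor (EGA4.Cpl A) t = a • t := fun t => by
      induction t using TensorProduct.induction_on with
      | zero => simp
      | add x y hx hy => rw [map_add, smul_add, hx, hy]
      | tmul x c => rw [LinearMap.rTensor_tmul, LinearMap.lsmul_apply, TensorProduct.smul_tmul']
    rw [map_zero, h3, h]
  haveI : Nontrivial T := (injective_cpl_normalization (A' := A')).nontrivial
  haveI : IsDomain T := by
    refine @NoZeroDivisors.to_isDomain T _ _ ⟨fun {s t} hst => ?_⟩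
    obtain ⟨a, c, ha, hac⟩ := hfrac s
    obtain ⟨b, d, hb, hbd⟩ := hfrac t
    have h0 : algebraMap (EGA4.Cpl A) T (c * d) = 0 := by
      rw [map_mul, ← hac, ← hbd, smul_mul_smul_comm, hst, smul_zero]
    rcases mul_eq_zero.mp ((injective_iff_map_eq_zero _).mp (injective_cpl_normalization (A' := A')) _ h0) with h | h
    · exact Or.inl (hreg a s ha (by rw [hac, h, map_zero]))
    · exact Or.inr (hreg b t hb (by rw [hbd, h, map_zero]))
  haveI : IsNoetherianRing (EGA4.Cpl A) := AdicBasics.isNoetherianRing_completion A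
  haveI : IsAdicComplete (maximalIdeal (EGA4.Cpl A)) (EGA4.Cpl A) :=
    (inferInstance : IsAdicComplete (maximalIdeal (AdicCompletion (maximalIdeal A) A)) (AdicCompletion (maximalIdeal A) A))
  haveI : Module.Finite (EGA4.Cpl A) T := isLocalRing_normalization_cpl.finite_rightTensor A A' (EGA4.Cpl A)
  haveI : IsLocalRing T := FinComplete.isLocalRing_of_isDomain (EGA4.Cpl A) T
  refine IsLocalRing.of_unique_max_ideal ?_
  haveI : Nontrivial A' := inferInstance
  refine ⟨(maximalIdeal T).comap (algebraMap A' T), ?_, fun M hM => ?_⟩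
  · obtain ⟨M, hM⟩ := Ideal.exists_maximal A'
    obtain ⟨P, hP⟩ := PrimeSpectrum.comap_surjective_of_faithfullyFlat (A := A') (B := T) ⟨M, hM.isPrime⟩
    have hle : M ≤ (maximalIdeal T).comap (algebraMap A' T) :=
      ((congrArg PrimeSpectrum.asIdeal hP).ge).trans (Ideal.comap_mono (IsLocalRing.le_maximalIdeal P.isPrime.ne_top))
    rw [← hM.eq_of_le (Ideal.IsPrime.ne_top (Ideal.comap_isPrime _ _)) hle]
    exact hM
  · obtain ⟨P, hP⟩ := PrimeSpectrum.comap_surjective_of_faithfullyFlat (A := A') (B := T) ⟨M, hM.isPrime⟩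
    exact hM.eq_of_le (Ideal.IsPrime.ne_top (Ideal.comap_isPrime _ _))
      (((congrArg PrimeSpectrum.asIdeal hP).ge).trans (Ideal.comap_mono (IsLocalRing.le_maximalIdeal P.isPrime.ne_top)))

end

end Groth.Agent.GRingCpl
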