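/-
Geometric connectedness of the formal fibres of henselian local rings with geometrically reduced formal fibres.
-/
import Mathlib
import Groth.Agent.GRingCpl.UnibranchCpl
import Groth.Agent.Nagata.GeomRed
import Groth.Agent.Hensel.Local
import Groth.Agent.Hensel.Branches
import Groth.Agent.FlatDepth.Quot
import Groth.Agent.S14359
import Groth.Agent.S2501

set_option autoImplicit false
set_option linter.style.haveILetI false
universe u

open IsLocalRing TensorProduct AlgebraicGeometry

namespace Groth.Agent.GRingCpl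

section idem

variable {R M : Type u} [CommRing R] [IsNoetherianRing R] [IsDomain R] [CommRing M] [Algebra R M] [Module.Flat R M]

omit [IsNoetherianRing R] in
/-- The descent step at a prime whose localisation has principal maximal ideal. -/
theorem exists_smul_mem_of_sq {Q : Ideal R} [Q.IsPrime] {π : R} (hπQ : π ∈ Q) (hπ0 : π ≠ 0)
    (hgen : ∀ q ∈ Q, ∃ s ∉ Q, π ∣ s * q) [IsReduced (Q.ResidueField ⊗[R] M)] :
    ∀ (n : ℕ) (b : M) (s u : R), s ∉ Q → s • (b * b) = (u * π ^ n) • b → ∃ t ∉ Q, ∃ c, t • b = π ^ n • c := by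
  have hker : ∀ m : M, (1 : Q.ResidueField) ⊗ₜ[R] m = 0 → ∃ t ∉ Q, ∃ c, t • m = π • c := fun m hm => by
    have hm' : ((1 : R ⧸ Q) ⊗ₜ[R] m) = 0 := by
      refine Module.Flat.rTensor_preserves_injective_linearMap (M := M)
        (IsScalarTower.toAlgHom R (R ⧸ Q) Q.ResidueField).toLinearMap (IsFractionRing.injective (R ⧸ Q) Q.ResidueField) ?_
      rw [LinearMap.rTensor_tmul, map_zero]
      show algebraMap (R ⧸ Q) Q.ResidueField 1 ⊗ₜ m = 0
      rw [map_one, hm]
    have hmem : m ∈ Q • (⊤ : Submodule R M) := by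
      have h2 := congrArg (TensorProduct.quotTensorEquivQuotSMul M Q) hm'
      rw [map_zero, show ((1 : R ⧸ Q) ⊗ₜ[R] m) = Ideal.Quotient.mk Q 1 ⊗ₜ m from rfl,
        TensorProduct.quotTensorEquivQuotSMul_mk_tmul, one_smul] at h2
      exact (Submodule.Quotient.mk_eq_zero _).mp h2
    clear hm hm'
    induction hmem using Submodule.smul_induction_on' with
    | smul q hq x _ =>
      obtain ⟨t, ht, e, he⟩ := hgen q hq
      exact ⟨t, ht, e • x, by rw [smul_smul, smul_smul, he]⟩
    | add x _ y _ hx hy =>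
      obtain ⟨t, ht, c, hc⟩ := hx
      obtain ⟨t', ht', d, hd⟩ := hy
      refine ⟨t * t', fun h => (Ideal.IsPrime.mem_or_mem ‹Q.IsPrime› h).elim ht ht', t' • c + t • d, ?_⟩
      rw [smul_add, smul_add, mul_comm t t', mul_smul, hc, mul_comm t' t, mul_smul t t', hd, smul_comm t' π, smul_comm t π]
  intro n
  induction n with
  | zero => exact fun b _ _ _ _ => ⟨1, Ideal.one_notMem _, b, by simp⟩
  | succ n ih =>
    intro b s u hs hb
    have hπk : algebraMap R Q.ResidueField π = 0 := Ideal.algebraMap_residueField_eq_zero.mpr hπQ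
    have hsk : algebraMap R Q.ResidueField s ≠ 0 := fun h => hs (Ideal.algebraMap_residueField_eq_zero.mp h)
    have hsq : ((1 : Q.ResidueField) ⊗ₜ[R] b) * ((1 : Q.ResidueField) ⊗ₜ[R] b) = 0 := by
      have h1 : (algebraMap R Q.ResidueField s) ⊗ₜ[R] (b * b) = 0 := by
        rw [Algebra.algebraMap_eq_smul_one, TensorProduct.smul_tmul, hb, ← TensorProduct.smul_tmul,
          ← Algebra.algebraMap_eq_smul_one, map_mul, map_pow, hπk, zero_pow n.succ_ne_zero, mul_zero,
          TensorProduct.zero_tmul]
      rw [Algebra.TensorProduct.tmul_mul_tmul, one_mul]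
      have h2 := congrArg ((((algebraMap R Q.ResidueField s)⁻¹ : Q.ResidueField) ⊗ₜ[R] (1 : M)) * ·) h1
      simpa [inv_mul_cancel₀ hsk] using h2
    obtain ⟨t, ht, c, hc⟩ := hker b (IsReduced.eq_zero _ ⟨2, by rw [pow_two, hsq]⟩)
    have hinj : Function.Injective fun x : M => π • x := by
      intro x y h
      exact (Module.Flat.isSMulRegular_of_nonZeroDivisors (M := M) (mem_nonZeroDivisors_of_ne_zero hπ0)) h
    have h3 : s • (c * c) = (u * t * π ^ n) • c := by
      refine hinj (hinj ?_)
      calc π • π • s • (c * c) = s • ((π • c) * (π • c)) := by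
            simp only [smul_mul_assoc, mul_smul_comm, smul_smul]; congr 1; ring
        _ = (t * t) • (s • (b * b)) := by
            rw [← hc]; simp only [smul_mul_assoc, mul_smul_comm, smul_smul]; congr 1; ring
        _ = (t * t * (u * π ^ (n + 1))) • b := by rw [hb, smul_smul]
        _ = (t * (u * π ^ (n + 1))) • (π • c) := by rw [← hc, smul_smul]; congr 1; ring
        _ = π • π • (u * t * π ^ n) • c := by simp only [smul_smul]; congr 1; ring
    obtain ⟨t', ht', d, hd⟩ := ih c s (u * t) hs h3
    refine ⟨t' * t, fun h => (Ideal.IsPrime.mem_or_mem ‹Q.IsPrime› h).elim ht' ht, d, ?_⟩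
    rw [mul_smul, hc, smul_comm, hd, smul_smul, pow_succ']

/-- Over a normal domain, flat algebras with reduced fibres contain all idempotent fractions. -/
theorem exists_eq_smul_of_sq [IsIntegrallyClosed R]
    (hred : ∀ (P : Ideal R) [P.IsPrime], IsReduced (P.ResidueField ⊗[R] M)) {a : R} (ha : a ≠ 0) {b : M}
    (hb : b * b = a • b) : ∃ c, b = a • c := by
  by_contra hne
  let N := R ⧸ Ideal.span {a}
  have hJ : ∀ r : R, (∃ c, r • b = a • c) → r ∈ ⋃ p ∈ associatedPrimes R N, (p : Set R) := fun r hr => by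
    rw [biUnion_associatedPrimes_eq_zero_divisors]
    by_contra hr0
    simp only [Set.mem_ofPred_eq, not_exists, not_and] at hr0
    have hinj : Function.Injective (LinearMap.lsmul R N r) := by
      rw [← LinearMap.ker_eq_bot, LinearMap.ker_eq_bot']
      exact fun x hx => by_contra fun h => hr0 x h hx
    obtain ⟨c, hc⟩ := hr
    apply hne
    have h1 : ((1 : N) ⊗ₜ[R] b) = 0 := by
      refine Module.Flat.rTensor_preserves_injective_linearMap (M := M) _ hinj ?_
      rw [LinearMap.rTensor_tmul, map_zero, LinearMap.lsmul_apply, TensorProduct.smul_tmul, hc,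
        ← TensorProduct.smul_tmul, show a • (1 : N) = 0 from by
          rw [Algebra.smul_def, mul_one]; exact Ideal.Quotient.eq_zero_iff_mem.mpr (Ideal.mem_span_singleton_self a),
        TensorProduct.zero_tmul]
    have h2 := congrArg (TensorProduct.quotTensorEquivQuotSMul M (Ideal.span {a})) h1
    rw [map_zero, show ((1 : N) ⊗ₜ[R] b) = Ideal.Quotient.mk _ 1 ⊗ₜ b from rfl,
      TensorProduct.quotTensorEquivQuotSMul_mk_tmul, one_smul, Submodule.Quotient.mk_eq_zero,
      Submodule.ideal_span_singleton_smul] at h2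
    obtain ⟨c, -, hc⟩ := Submodule.mem_smul_pointwise_iff_exists _ _ _ |>.mp h2
    exact ⟨c, hc.symm⟩
  let J : Ideal R :=
    { carrier := {r | ∃ c, r • b = a • c}
      add_mem' := fun {x y} ⟨c, hc⟩ ⟨d, hd⟩ => ⟨c + d, by rw [add_smul, hc, hd, smul_add]⟩
      zero_mem' := ⟨0, by simp⟩
      smul_mem' := fun r x ⟨c, hc⟩ => ⟨r • c, by rw [smul_eq_mul, mul_smul, hc, smul_comm]⟩ }
  have hfin : (associatedPrimes R N).Finite := associatedPrimes.finite R N
  obtain ⟨Q, hQ, hJQ⟩ : ∃ Q ∈ associatedPrimes R N, J ≤ Q := by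
    have h := hJ
    exact (Ideal.subset_union_prime_finite hfin ⊥ ⊥ (fun p hp _ _ => hp.isPrime)).mp fun r hr => h r hr
  haveI := hQ.isPrime
  have hh : Q.height = 1 := S14359.result R a ha Q hQ
  let L := Localization.AtPrime Q
  haveI : IsDomain L := IsLocalization.isDomain_localization Q.primeCompl_le_nonZeroDivisors
  haveI : IsIntegrallyClosed L := isIntegrallyClosed_of_isLocalization L Q.primeCompl Q.primeCompl_le_nonZeroDivisors
  haveI : IsNoetherianRing L := IsLocalization.isNoetherianRing Q.primeCompl L inferInstance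
  haveI : Ring.KrullDimLE 1 L := by
    rw [Ring.krullDimLE_iff, IsLocalization.AtPrime.ringKrullDim_eq_height Q L, hh]
    exact le_rfl
  have hnf : ¬ IsField L := fun hf => by
    have h0 := ringKrullDim_eq_zero_of_isField hf
    rw [IsLocalization.AtPrime.ringKrullDim_eq_height Q L, hh] at h0
    exact absurd h0 (by norm_num)
  haveI : Ring.DimensionLEOne L := ⟨fun {P} hP0 hP => (Ring.krullDimLE_one_iff.mp inferInstance P hP).resolve_left
    fun hmin => hP0 (by simpa [IsDomain.minimalPrimes_eq_singleton_bot] using hmin)⟩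
  haveI : IsDedekindDomain L := { }
  haveI : IsDiscreteValuationRing L := ((IsDiscreteValuationRing.TFAE L hnf).out 0 2).mpr (inferInstance : IsDedekindDomain L)
  obtain ⟨ϖ, hϖ⟩ := IsDiscreteValuationRing.exists_irreducible L
  obtain ⟨π, s₀, hs₀⟩ := IsLocalization.exists_mk'_eq Q.primeCompl ϖ
  have hπ : Associated ϖ (algebraMap R L π) := by
    refine ⟨(IsLocalization.map_units L s₀).unit, ?_⟩
    rw [IsUnit.unit_spec, ← hs₀, IsLocalization.mk'_spec]
  have hπi : Irreducible (algebraMap R L π) := hπ.irreducible hϖ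
  have hπQ : π ∈ Q := (IsLocalization.AtPrime.to_map_mem_maximal_iff L Q π).mp hπi.not_isUnit
  have hπ0 : π ≠ 0 := fun h => hπi.ne_zero (by rw [h, map_zero])
  have hdvd : ∀ (x : L) (q : R), algebraMap R L π ^ 1 * x = algebraMap R L q → ∃ s ∉ Q, π ∣ s * q := fun x q hx => by
    obtain ⟨r, t, rfl⟩ := IsLocalization.exists_mk'_eq Q.primeCompl x
    refine ⟨t, t.2, r, IsLocalization.injective L Q.primeCompl_le_nonZeroDivisors ?_⟩
    rw [map_mul, map_mul, ← hx, ← mul_assoc, mul_comm (algebraMap R L (t : R)), mul_assoc, pow_one,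
      IsLocalization.mk'_spec']
  have hgen : ∀ q ∈ Q, ∃ s ∉ Q, π ∣ s * q := fun q hq => by
    have h : algebraMap R L q ∈ maximalIdeal L := (IsLocalization.AtPrime.to_map_mem_maximal_iff L Q q).mpr hq
    rw [hπi.maximalIdeal_eq, Ideal.mem_span_singleton'] at h
    obtain ⟨x, hx⟩ := h
    exact hdvd x q (by rw [pow_one, mul_comm, hx])
  obtain ⟨n, hn⟩ := IsDiscreteValuationRing.associated_pow_irreducible
    (show algebraMap R L a ≠ 0 from fun h => ha (IsLocalization.injective L Q.primeCompl_le_nonZeroDivisors (h.trans (map_zero _).symm))) hπi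
  obtain ⟨v, hv⟩ := hn.symm
  obtain ⟨u, s, hu⟩ := IsLocalization.exists_mk'_eq Q.primeCompl (v : L)
  have huQ : u ∉ Q := by
    have := v.isUnit
    rw [← hu] at this
    exact (IsLocalization.AtPrime.isUnit_mk'_iff L Q u s).mp this
  have hsa : (s : R) * a = u * π ^ n := IsLocalization.injective L Q.primeCompl_le_nonZeroDivisors (by
    rw [map_mul, map_mul, map_pow, ← hv, ← hu, mul_comm, mul_assoc, IsLocalization.mk'_spec, mul_comm])
  haveI := hred Q
  obtain ⟨t, ht, c, hc⟩ := exists_smul_mem_of_sq hπQ hπ0 hgen n b s u s.2 (by rw [hb, smul_smul, hsa])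
  have : u * t ∈ J := ⟨(s : R) • c, by rw [mul_smul, hc, smul_smul, ← hsa, smul_smul, mul_comm a]⟩
  exact (Ideal.IsPrime.mem_or_mem ‹Q.IsPrime› (hJQ this)).elim huQ ht

end idem

/-- A nonzero ring with trivial idempotents has connected spectrum. -/
theorem connectedSpace_of_idem {R : Type u} [CommRing R] [Nontrivial R]
    (h : ∀ e : R, IsIdempotentElem e → e = 0 ∨ e = 1) : ConnectedSpace (PrimeSpectrum R) := by
  refine connectedSpace_iff_clopen.mpr ⟨inferInstance, fun s hs => ?_⟩
  obtain ⟨e, he, rfl⟩ := PrimeSpectrum.exists_idempotent_basicOpen_eq_of_isClopen hs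
  rcases h e he with rfl | rfl <;> simp

/-- Idempotents over a finite extension of a residue field are trivial. -/
theorem eq_zero_or_one_of_finite (A : Type u) [CommRing A] [IsNoetherianRing A] [HenselianLocalRing A]
    (hA : EGA4.HasGeomReducedFormalFibres A) (p : Ideal A) [p.IsPrime] (L : Type u) [Field L] [Algebra A L]
    [Algebra p.ResidueField L] [IsScalarTower A p.ResidueField L] [Module.Finite p.ResidueField L]
    (A' : Type u) [CommRing A'] [IsDomain A'] [IsIntegrallyClosed A'] [Algebra A A'] [Algebra (A ⧸ p) A']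
    [IsScalarTower A (A ⧸ p) A'] [Module.Finite (A ⧸ p) A'] [FaithfulSMul (A ⧸ p) A']
    (i : A' →ₐ[A] L) (hi : Function.Injective i)
    (hfr : ∀ x : L, ∃ a : A, IsUnit (algebraMap A L a) ∧ ∃ w, i w = a • x)
    (e : L ⊗[A] EGA4.Cpl A) (he : IsIdempotentElem e) : e = 0 ∨ e = 1 := by
  haveI : Nontrivial (A ⧸ p) := Ideal.Quotient.nontrivial_iff.mpr (Ideal.IsPrime.ne_top inferInstance)
  haveI : IsLocalRing (A ⧸ p) := IsLocalRing.of_surjective' (Ideal.Quotient.mk p) Ideal.Quotient.mk_surjective
  haveI : HenselianLocalRing (A ⧸ p) := Hensel.henselianLocalRing_finite A (A ⧸ p)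
  haveI : Algebra.IsIntegral (A ⧸ p) A' := Algebra.IsIntegral.of_finite _ _
  haveI : IsLocalRing A' := Hensel.isLocalRing_of_integral_domain (A ⧸ p) A'
  haveI : IsNoetherianRing A' := IsNoetherianRing.of_finite (A ⧸ p) A'
  haveI : Module.Flat A (EGA4.Cpl A) := AdicCompletion.flat_of_isNoetherian _
  haveI : Module.Finite A A' := Module.Finite.trans (A ⧸ p) A'
  obtain ⟨e'⟩ := FlatDepth.tensor_quot_equiv A p A'
  haveI hloc : IsLocalRing (A' ⊗[A] EGA4.Cpl A) := by
    haveI : IsLocalRing (A' ⊗[A ⧸ p] EGA4.Cpl (A ⧸ p)) := isLocalRing_normalization_cpl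
    exact RingEquiv.isLocalRing (A := A' ⊗[A ⧸ p] EGA4.Cpl (A ⧸ p)) e'
  let m : A' ⊗[A] EGA4.Cpl A →ₐ[A] L ⊗[A] EGA4.Cpl A := Algebra.TensorProduct.map i (AlgHom.id A (EGA4.Cpl A))
  have hm : Function.Injective m := Module.Flat.rTensor_preserves_injective_linearMap i.toLinearMap hi
  have hfr' : ∀ z : L ⊗[A] EGA4.Cpl A, ∃ a : A, IsUnit (algebraMap A L a) ∧ ∃ w, m w = a • z := fun z => by
    induction z using TensorProduct.induction_on with
    | zero => exact ⟨1, by simp, 0, by simp⟩
    | add x y hx hy =>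
      obtain ⟨a, ha, u, hu⟩ := hx
      obtain ⟨b, hb, v, hv⟩ := hy
      refine ⟨a * b, by rw [map_mul]; exact ha.mul hb, b • u + a • v, ?_⟩
      rw [map_add, map_smul, map_smul, hu, hv, smul_add, smul_smul, smul_smul, mul_comm b a]
    | tmul x c =>
      obtain ⟨a, ha, w, hw⟩ := hfr x
      refine ⟨a, ha, w ⊗ₜ c, ?_⟩
      rw [TensorProduct.smul_tmul', ← hw]
      rfl
  obtain ⟨a, hau, b, hb⟩ := hfr' e
  have ha0 : algebraMap A A' a ≠ 0 := fun h => hau.ne_zero (by rw [← i.commutes, h, map_zero])
  have hsm : ∀ (r : A) (x : A' ⊗[A] EGA4.Cpl A), algebraMap A A' r • x = r • x := fun r x => algebraMap_smul A' r x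
  have hbb : b * b = algebraMap A A' a • b := by
    refine hm ?_
    rw [hsm, map_mul, map_smul, hb, smul_mul_smul_comm, he.eq, smul_smul]
  have hred : ∀ (P : Ideal A') [P.IsPrime], IsReduced (P.ResidueField ⊗[A'] (A' ⊗[A] EGA4.Cpl A)) := by
    intro P _
    let q := P.under A
    letI : Algebra q.ResidueField P.ResidueField := (Ideal.ResidueField.map q P (algebraMap A A') rfl).toAlgebra
    haveI : IsScalarTower A q.ResidueField P.ResidueField := IsScalarTower.of_algebraMap_eq fun r => by
      rw [IsScalarTower.algebraMap_apply A A' P.ResidueField]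
      exact (Ideal.ResidueField.map_algebraMap _ _ _ _ r).symm
    haveI : Algebra.QuasiFinite A P.ResidueField := Algebra.QuasiFinite.trans A A' _
    haveI : Algebra.QuasiFinite q.ResidueField P.ResidueField := .of_restrictScalars A _ _
    haveI : Module.Finite q.ResidueField P.ResidueField := .of_quasiFinite
    haveI := Nagata.isReduced_completion_tensor hA q P.ResidueField
    haveI : IsReduced (P.ResidueField ⊗[A] EGA4.Cpl A) := isReduced_of_injective
      (Algebra.TensorProduct.comm A P.ResidueField (EGA4.Cpl A)) (AlgEquiv.injective _)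
    exact isReduced_of_injective (Algebra.TensorProduct.cancelBaseChange A A' P.ResidueField P.ResidueField (EGA4.Cpl A))
      (AlgEquiv.injective _)
  obtain ⟨c, hc⟩ := exists_eq_smul_of_sq hred ha0 hbb
  have hu : ∀ z : L ⊗[A] EGA4.Cpl A, a • z = 0 → z = 0 := fun z h => by
    have h' : algebraMap A (L ⊗[A] EGA4.Cpl A) a * z = 0 := (Algebra.smul_def a z).symm.trans h
    rw [Algebra.TensorProduct.algebraMap_apply] at h'
    exact ((hau.map (Algebra.TensorProduct.includeLeftRingHom : L →+* L ⊗[A] EGA4.Cpl A)).mul_right_eq_zero).mp h'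
  have hec : e = m c := sub_eq_zero.mp (hu _ (by rw [smul_sub, ← hb, hc, hsm, map_smul, sub_self]))
  have hcc : IsIdempotentElem c := hm (by rw [map_mul, ← hec, he.eq])
  rcases (IsLocalRing.isUnit_or_isUnit_one_sub_self c) with h | h
  · exact Or.inr (by rw [hec, show c = 1 from h.mul_left_cancel (hcc.eq.trans (mul_one c).symm), map_one])
  · refine Or.inl ?_
    have : 1 - c = 1 := h.mul_left_cancel (hcc.one_sub.eq.trans (mul_one (1 - c)).symm)
    rw [hec, show c = 0 by linear_combination -this, map_zero]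

/-- The same, for the canonical integral closure. -/
theorem eq_zero_or_one_of_finite' (A : Type u) [CommRing A] [IsNoetherianRing A] [HenselianLocalRing A]
    (hA : EGA4.HasGeomReducedFormalFibres A) (p : Ideal A) [p.IsPrime] (L : Type u) [Field L] [Algebra A L]
    [Algebra p.ResidueField L] [IsScalarTower A p.ResidueField L] [Module.Finite p.ResidueField L]
    (e : L ⊗[A] EGA4.Cpl A) (he : IsIdempotentElem e) : e = 0 ∨ e = 1 := by
  letI : Algebra (A ⧸ p) L := ((algebraMap p.ResidueField L).comp (algebraMap (A ⧸ p) p.ResidueField)).toAlgebra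
  haveI : IsScalarTower (A ⧸ p) p.ResidueField L := IsScalarTower.of_algebraMap_eq fun _ => rfl
  haveI : IsScalarTower A (A ⧸ p) L := IsScalarTower.of_algebraMap_eq fun a => by
    rw [IsScalarTower.algebraMap_apply A p.ResidueField L, IsScalarTower.algebraMap_apply (A ⧸ p) p.ResidueField L,
      ← IsScalarTower.algebraMap_apply A (A ⧸ p) p.ResidueField]
  haveI : FaithfulSMul (A ⧸ p) L := (faithfulSMul_iff_algebraMap_injective _ _).mpr (by
    rw [IsScalarTower.algebraMap_eq (A ⧸ p) p.ResidueField L]
    exact (algebraMap p.ResidueField L).injective.comp (IsFractionRing.injective (A ⧸ p) p.ResidueField))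
  haveI : Algebra.EssFiniteType A L := Algebra.EssFiniteType.comp A p.ResidueField L
  haveI : Module.Finite A (integralClosure A L) := Nagata.finite_closure_of_isReduced_tensor L
    (Nagata.isReduced_completion_tensor hA p L)
  haveI : Algebra.IsIntegral A (A ⧸ p) := Algebra.IsIntegral.of_finite A (A ⧸ p)
  let A' := integralClosure (A ⧸ p) L
  let f : integralClosure A L →ₗ[A] A' :=
    { toFun := fun z => ⟨z, (z.2 : IsIntegral A (z : L)).tower_top⟩
      map_add' := fun _ _ => rfl
      map_smul' := fun _ _ => rfl }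
  haveI : Module.Finite A A' :=
    Module.Finite.of_surjective f fun z => ⟨⟨z, isIntegral_trans (A := A ⧸ p) (z : L) z.2⟩, rfl⟩
  haveI : Module.Finite (A ⧸ p) A' := Module.Finite.of_restrictScalars_finite A (A ⧸ p) _
  haveI : IsIntegrallyClosed A' := integralClosure.isIntegrallyClosedOfFiniteExtension p.ResidueField
  haveI : FaithfulSMul (A ⧸ p) A' := (faithfulSMul_iff_algebraMap_injective _ _).mpr fun x y h =>
    FaithfulSMul.algebraMap_injective (A ⧸ p) L (congrArg Subtype.val h)
  refine eq_zero_or_one_of_finite A hA p L A' ((integralClosure (A ⧸ p) L).val.restrictScalars A)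
    Subtype.val_injective (fun x => ?_) e he
  haveI : Algebra.IsAlgebraic (A ⧸ p) L :=
    ⟨fun z => (IsFractionRing.isAlgebraic_iff (A ⧸ p) p.ResidueField L).mpr (Algebra.IsAlgebraic.isAlgebraic z)⟩
  obtain ⟨y, hy, hint⟩ := (Algebra.IsAlgebraic.isAlgebraic (R := A ⧸ p) x).exists_integral_multiple
  obtain ⟨a, rfl⟩ := Ideal.Quotient.mk_surjective y
  have hu : IsUnit (algebraMap A L a) := by
    refine IsUnit.mk0 _ fun h => hy (FaithfulSMul.algebraMap_injective (A ⧸ p) L ?_)
    rw [map_zero, ← h]
    exact (IsScalarTower.algebraMap_apply A (A ⧸ p) L a).symm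
  refine ⟨a, hu, ⟨_, hint⟩, ?_⟩
  show (Ideal.Quotient.mk p a) • x = a • x
  rw [Algebra.smul_def, Algebra.smul_def, IsScalarTower.algebraMap_apply A (A ⧸ p) L]
  rfl

/-- Idempotents of the base change to an algebraic closure are trivial. -/
theorem idem_trivial_algClosure {k F : Type u} [Field k] [CommRing F] [Algebra k F]
    (h : ∀ (L : Type u) [Field L] [Algebra k L], Module.Finite k L →
      ∀ e : L ⊗[k] F, IsIdempotentElem e → e = 0 ∨ e = 1)
    (e : AlgebraicClosure k ⊗[k] F) (he : IsIdempotentElem e) : e = 0 ∨ e = 1 := by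
  let ε := Algebra.TensorProduct.comm k (AlgebraicClosure k) F
  obtain ⟨D, hD, z, hz⟩ := exists_fg_and_mem_baseChange (ε e)
  haveI : Algebra.FiniteType k D := (Subalgebra.fg_iff_finiteType D).1 hD
  haveI : Algebra.IsIntegral k D := Algebra.IsIntegral.of_injective D.val Subtype.val_injective
  haveI : Module.Finite k D := Algebra.IsIntegral.finite
  letI : Field D := (isField_of_isIntegral_of_isField' (R := k) (S := D) (Field.toIsField k)).toField
  let m := Algebra.TensorProduct.map (AlgHom.id F F) D.val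
  have hm : Function.Injective m :=
    Module.Flat.lTensor_preserves_injective_linearMap _ Subtype.val_injective
  let δ := Algebra.TensorProduct.comm k F ↥D
  replace hz : m z = ε e := hz
  have hz1 : z * z = z := hm (by rw [map_mul, hz, ← map_mul, he.eq])
  rcases h ↥D inferInstance (δ z) (by rw [IsIdempotentElem, ← map_mul, hz1]) with h' | h'
  · rw [δ.injective (h'.trans (map_zero δ).symm), map_zero] at hz
    exact Or.inl (ε.injective (hz.symm.trans (map_zero ε).symm))
  · rw [δ.injective (h'.trans (map_one δ).symm), map_one] at hz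
    exact Or.inr (ε.injective (hz.symm.trans (map_one ε).symm))

/-- Connectedness persists from an algebraically closed field to its extensions. -/
theorem connectedSpace_tensor_of_algClosed {Ω Ω' D : Type u} [Field Ω] [IsAlgClosed Ω] [Field Ω'] [Algebra Ω Ω']
    [CommRing D] [Algebra Ω D] [ConnectedSpace (PrimeSpectrum D)] : ConnectedSpace (PrimeSpectrum (Ω' ⊗[Ω] D)) := by
  haveI : ConnectedSpace ↥(Spec (CommRingCat.of D)) := ‹ConnectedSpace (PrimeSpectrum D)›
  have hgc := S2501.result (Spec.map (CommRingCat.ofHom (algebraMap Ω D)))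
  have hcl := geometrically_iff_of_commRing.1 hgc.geometrically_connectedSpace
    (K := Ω') _ _ (CategoryTheory.IsPullback.of_hasPullback (Spec.map (CommRingCat.ofHom (algebraMap Ω D)))
      (Spec.map (CommRingCat.ofHom (algebraMap Ω Ω'))))
  have h2 : ConnectedSpace (PrimeSpectrum (D ⊗[Ω] Ω')) :=
    (pullbackSpecIso Ω D Ω').hom.homeomorph.connectedSpace_iff.1 hcl
  exact (PrimeSpectrum.homeomorphOfRingEquiv (Algebra.TensorProduct.comm Ω D Ω').toRingEquiv).connectedSpace_iff.mp h2

/-- A connected spectrum allows only trivial idempotents. -/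
theorem idem_trivial_of_connected {R : Type u} [CommRing R] [ConnectedSpace (PrimeSpectrum R)] (e : R)
    (he : IsIdempotentElem e) : e = 0 ∨ e = 1 := by
  have hcl := PrimeSpectrum.isClopen_iff.mpr ⟨e, he, rfl⟩
  rcases (connectedSpace_iff_clopen.mp (inferInstance : ConnectedSpace (PrimeSpectrum R))).2 _ hcl with h | h
  · exact Or.inl (he.eq_zero_of_isNilpotent (PrimeSpectrum.basicOpen_eq_bot_iff e |>.mp (TopologicalSpace.Opens.ext h)))
  · have h1 : PrimeSpectrum.basicOpen (1 - e) = ⊥ := by
      rw [show PrimeSpectrum.basicOpen (1 - e) = PrimeSpectrum.basicOpen e ⊓ PrimeSpectrum.basicOpen (1 - e) by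
        rw [show PrimeSpectrum.basicOpen e = ⊤ from TopologicalSpace.Opens.ext h, top_inf_eq],
        ← PrimeSpectrum.basicOpen_mul, mul_sub, mul_one, he.eq, sub_self, PrimeSpectrum.basicOpen_zero]
    exact Or.inr (sub_eq_zero.mp (he.one_sub.eq_zero_of_isNilpotent ((PrimeSpectrum.basicOpen_eq_bot_iff _).mp h1))).symm

/-- Trivial idempotents over all finite extensions give connectedness over every extension. -/
theorem connectedSpace_tensor_field {k F : Type u} [Field k] [CommRing F] [Nontrivial F] [Algebra k F]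
    (hfin : ∀ (L : Type u) [Field L] [Algebra k L], Module.Finite k L →
      ∀ e : L ⊗[k] F, IsIdempotentElem e → e = 0 ∨ e = 1)
    (K : Type u) [Field K] [Algebra k K] : ConnectedSpace (PrimeSpectrum (K ⊗[k] F)) := by
  let Ω := AlgebraicClosure k
  let Ω' := AlgebraicClosure K
  letI : Algebra Ω Ω' := (IsAlgClosed.lift : Ω →ₐ[k] Ω').toRingHom.toAlgebra
  haveI : IsScalarTower k Ω Ω' := IsScalarTower.of_algebraMap_eq fun c =>
    ((IsAlgClosed.lift : Ω →ₐ[k] Ω').commutes c).symm
  haveI : Nontrivial (Ω ⊗[k] F) := TensorProduct.nontrivial_of_linearMap_injective_of_flat_right k Ω F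
    (Algebra.linearMap k Ω) (algebraMap k Ω).injective
  haveI : ConnectedSpace (PrimeSpectrum (Ω ⊗[k] F)) := connectedSpace_of_idem (idem_trivial_algClosure hfin)
  haveI := connectedSpace_tensor_of_algClosed (Ω := Ω) (Ω' := Ω') (D := Ω ⊗[k] F)
  haveI h3 : ConnectedSpace (PrimeSpectrum (Ω' ⊗[k] F)) :=
    (PrimeSpectrum.homeomorphOfRingEquiv (Algebra.TensorProduct.cancelBaseChange k Ω Ω' Ω' F).toRingEquiv).connectedSpace_iff.mp inferInstance
  let g : K ⊗[k] F →ₐ[k] Ω' ⊗[k] F :=
    Algebra.TensorProduct.map (IsScalarTower.toAlgHom k K Ω') (AlgHom.id k F)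
  have hg : Function.Injective g :=
    Module.Flat.rTensor_preserves_injective_linearMap (IsScalarTower.toAlgHom k K Ω').toLinearMap (algebraMap K Ω').injective
  haveI : Nontrivial (K ⊗[k] F) := TensorProduct.nontrivial_of_linearMap_injective_of_flat_right k K F
    (Algebra.linearMap k K) (algebraMap k K).injective
  refine connectedSpace_of_idem fun x hx => ?_
  rcases idem_trivial_of_connected (g x) (hx.map g) with h | h
  · exact Or.inl (hg (h.trans (map_zero g).symm))
  · exact Or.inr (hg (h.trans (map_one g).symm))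

/-- The spectrum of any field base change of the completion is connected. -/
theorem connectedSpace_tensor_cpl (A : Type u) [CommRing A] [IsNoetherianRing A] [HenselianLocalRing A]
    (hA : EGA4.HasGeomReducedFormalFibres A) (K : Type u) [Field K] [Algebra A K] :
    ConnectedSpace (PrimeSpectrum (K ⊗[A] EGA4.Cpl A)) := by
  haveI : Module.FaithfullyFlat A (EGA4.Cpl A) := Module.FaithfullyFlat.of_flat_of_isLocalHom
  let p := RingHom.ker (algebraMap A K)
  haveI : p.IsPrime := RingHom.ker_isPrime _
  let φ : p.ResidueField →ₐ[A] K := Ideal.ResidueField.liftₐ p (Algebra.ofId A K) le_rfl fun x hx => IsUnit.mk0 _ hx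
  letI : Algebra p.ResidueField K := φ.toRingHom.toAlgebra
  haveI : IsScalarTower A p.ResidueField K := IsScalarTower.of_algebraMap_eq fun a => (φ.commutes a).symm
  let k := p.ResidueField
  let F := k ⊗[A] EGA4.Cpl A
  have hfin : ∀ (L : Type u) [Field L] [Algebra k L], Module.Finite k L →
      ∀ e : L ⊗[k] F, IsIdempotentElem e → e = 0 ∨ e = 1 := fun L _ _ hL e he => by
    haveI := hL
    letI : Algebra A L := ((algebraMap k L).comp (algebraMap A k)).toAlgebra
    haveI : IsScalarTower A k L := IsScalarTower.of_algebraMap_eq fun _ => rfl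
    let c := Algebra.TensorProduct.cancelBaseChange A k L L (EGA4.Cpl A)
    rcases eq_zero_or_one_of_finite' A hA p L (c e) (by rw [IsIdempotentElem, ← map_mul, he.eq]) with h | h
    · exact Or.inl (c.injective (h.trans (map_zero c).symm))
    · exact Or.inr (c.injective (h.trans (map_one c).symm))
  haveI : Nontrivial F := inferInstance
  haveI := connectedSpace_tensor_field hfin K
  exact (PrimeSpectrum.homeomorphOfRingEquiv
    (Algebra.TensorProduct.cancelBaseChange A k K K (EGA4.Cpl A)).toRingEquiv).connectedSpace_iff.mp inferInstance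

end Groth.Agent.GRingCpl
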