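/-
Primes maximal off the closed fibre, over a complete local base.
-/
import Mathlib
import Groth.Agent.GRingCpl.PFibreProp
import Groth.Agent.EGA418Dim.FrobFinite

set_option autoImplicit false
set_option linter.style.haveILetI false
universe u

open IsLocalRing TensorProduct

namespace Groth.Agent.GRingCpl

/-- A local domain all of whose nonzero primes contain a nonzero `a` has `√(a) = m`. -/
theorem radical_span_eq_maximalIdeal {D : Type u} [CommRing D] [IsDomain D] [IsLocalRing D] [IsNoetherianRing D]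
    {a : D} (ha : a ≠ 0) (ham : a ∈ maximalIdeal D) (h : ∀ q : Ideal D, q.IsPrime → q ≠ ⊥ → a ∈ q) :
    (Ideal.span {a}).radical = maximalIdeal D ∧ ∀ q : Ideal D, q.IsPrime → q ≠ ⊥ → q = maximalIdeal D := by
  classical
  have hle : Ideal.span {a} ≤ maximalIdeal D := (Ideal.span_singleton_le_iff_mem _).mpr ham
  have hfin := Ideal.finite_minimalPrimes_of_isNoetherianRing D (Ideal.span {a})
  have hcover : ((maximalIdeal D : Ideal D) : Set D) ⊆ ⋃ q ∈ (hfin.toFinset : Set (Ideal D)), (q : Set D) := by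
    intro x hx
    obtain ⟨y, hy0, hy⟩ : ∃ y ∈ maximalIdeal D, y ≠ 0 ∧ (x = y ∨ x = 0) :=
      if hx0 : x = 0 then ⟨a, ham, ha, Or.inr hx0⟩ else ⟨x, hx, hx0, Or.inl rfl⟩
    obtain ⟨hy1, hy2⟩ := hy
    obtain ⟨q, hq, -⟩ := Ideal.exists_minimalPrimes_le ((Ideal.span_singleton_le_iff_mem _).mpr hy0)
    have hqp : q.IsPrime := hq.1.1
    have hyq : y ∈ q := hq.1.2 (Ideal.mem_span_singleton_self y)
    have hq0 : q ≠ ⊥ := fun h0 => hy1 (by rw [h0] at hyq; exact hyq)
    refine Set.mem_iUnion₂.mpr ⟨q, hfin.mem_toFinset.mpr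
      ⟨⟨hqp, (Ideal.span_singleton_le_iff_mem _).mpr (h q hqp hq0)⟩, fun r hr hrq => ?_⟩, ?_⟩
    · haveI := hqp
      haveI := hr.1
      have hr0 : r ≠ ⊥ := fun h0 => ha (by simpa [h0] using hr.2 (Ideal.mem_span_singleton_self a))
      by_contra hne
      have h1 : q.height ≤ 1 := Ideal.height_le_one_of_isPrincipal_of_mem_minimalPrimes _ q hq
      have h2 : r.height < q.height := Ideal.height_strict_mono_of_isPrime (lt_of_le_not_ge hrq hne)
      have h3 : r.height = 0 := by
        rw [← Order.lt_one_iff]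
        exact h2.trans_le h1
      rw [Ideal.height_eq_zero_iff, IsDomain.minimalPrimes_eq_singleton_bot, Set.mem_singleton_iff] at h3
      exact hr0 h3
    · rcases hy2 with rfl | rfl
      · exact hyq
      · exact q.zero_mem
  obtain ⟨q, hq, hmq⟩ := (Ideal.subset_union_prime ⊥ ⊥
    (fun q hq _ _ => (hfin.mem_toFinset.mp hq).1.1)).mp hcover
  have hqmin := hfin.mem_toFinset.mp hq
  haveI := hqmin.1.1
  have hqm : q = maximalIdeal D := le_antisymm (le_maximalIdeal (Ideal.IsPrime.ne_top inferInstance)) hmq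
  have key : ∀ q' : Ideal D, q'.IsPrime → q' ≠ ⊥ → q' = maximalIdeal D := fun q' hq' h0 => by
    refine le_antisymm (le_maximalIdeal hq'.ne_top) ?_
    rw [← hqm]
    exact hqmin.2 ⟨hq', (Ideal.span_singleton_le_iff_mem _).mpr (h q' hq' h0)⟩
      (hqm ▸ le_maximalIdeal hq'.ne_top)
  refine ⟨le_antisymm (Ideal.IsPrime.radical_le_iff inferInstance |>.mpr hle) ?_, key⟩
  rw [Ideal.radical_eq_sInf]
  refine le_sInf fun q' ⟨hq', hp⟩ => ?_
  rw [key q' hp fun h0 => ha (by simpa [h0] using hq' (Ideal.mem_span_singleton_self a))]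

/-- Quotients by powers of an ideal with finite quotient are finite. -/
theorem finite_quotient_pow {A D : Type u} [CommRing A] [CommRing D] [IsNoetherianRing D] [Algebra A D] (I : Ideal D)
    [Module.Finite A (D ⧸ I)] : ∀ n : ℕ, Module.Finite A (D ⧸ I ^ n) := by
  intro n
  induction n with
  | zero =>
    rw [pow_zero, Ideal.one_eq_top]
    haveI : Subsingleton (D ⧸ (⊤ : Ideal D)) := Ideal.Quotient.subsingleton_iff.mpr rfl
    infer_instance
  | succ n ih =>
    let f : D ⧸ I ^ (n + 1) →ₗ[A] D ⧸ I ^ n :=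
      (Ideal.Quotient.factorₐ A (Ideal.pow_le_pow_right (Nat.le_succ n))).toLinearMap
    obtain ⟨s, hs⟩ := IsNoetherian.noetherian (I ^ n)
    haveI := ih
    let g : (s → D ⧸ I) →ₗ[A] D ⧸ I ^ (n + 1) :=
      ∑ x : s, (Submodule.liftQ (I.restrictScalars A)
        (((Ideal.Quotient.mkₐ A (I ^ (n + 1))).toLinearMap).comp (LinearMap.mulLeft A (x : D))) (fun c hc => by
          rw [LinearMap.mem_ker, LinearMap.comp_apply, LinearMap.mulLeft_apply, AlgHom.toLinearMap_apply,
            Ideal.Quotient.mkₐ_eq_mk, Ideal.Quotient.eq_zero_iff_mem, pow_succ]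
          exact Ideal.mul_mem_mul (hs ▸ Submodule.subset_span x.2) hc)).comp (LinearMap.proj x)
    refine Module.Finite.of_exact (f := g) (g := f) (fun z => ⟨fun hz => ?_, ?_⟩)
      (Ideal.Quotient.factor_surjective (Ideal.pow_le_pow_right (Nat.le_succ n)))
    · obtain ⟨d, rfl⟩ := Ideal.Quotient.mk_surjective z
      have hd : d ∈ I ^ n := by
        have h1 : Ideal.Quotient.mk (I ^ n) d = 0 := hz
        exact Ideal.Quotient.eq_zero_iff_mem.mp h1
      rw [← hs, Submodule.mem_span_finset'] at hd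
      obtain ⟨c, rfl⟩ := hd
      refine ⟨fun x => Ideal.Quotient.mk I (c x), ?_⟩
      simp only [g, LinearMap.sum_apply, LinearMap.comp_apply, LinearMap.proj_apply, map_sum]
      refine Finset.sum_congr rfl fun x _ => ?_
      show Ideal.Quotient.mk (I ^ (n + 1)) ((x : D) * c x) = Ideal.Quotient.mk (I ^ (n + 1)) (c x • (x : D))
      rw [smul_eq_mul, mul_comm]
    · rintro ⟨v, rfl⟩
      simp only [g, LinearMap.sum_apply, LinearMap.comp_apply, LinearMap.proj_apply, map_sum]
      refine Finset.sum_eq_zero fun x _ => ?_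
      obtain ⟨c, hc⟩ := Ideal.Quotient.mk_surjective (v x)
      show f ((I.restrictScalars A).liftQ _ _ (v x)) = 0
      rw [← hc]
      show Ideal.Quotient.mk (I ^ n) ((x : D) * c) = 0
      rw [Ideal.Quotient.eq_zero_iff_mem]
      exact Ideal.mul_mem_right _ _ (hs ▸ Submodule.subset_span x.2)

/-- A prime maximal off the closed fibre cuts out a finite algebra of dimension one. -/
theorem exists_offClosed {A B : Type u} [CommRing A] [IsLocalRing A] [IsNoetherianRing A]
    [IsAdicComplete (maximalIdeal A) A] [CommRing B] [IsLocalRing B] [IsNoetherianRing B] [Algebra A B]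
    [IsLocalHom (algebraMap A B)] (hres : ResFin A B) (Pr : Ideal B) [Pr.IsPrime]
    (hPr : Pr.comap (algebraMap A B) ≠ maximalIdeal A) :
    ∃ (Q : Ideal B) (_ : Q.IsPrime), Pr ≤ Q ∧ Q.comap (algebraMap A B) ≠ maximalIdeal A ∧
      Module.Finite A (B ⧸ Q) ∧
        ∀ q : Ideal A, q.IsPrime → Q.comap (algebraMap A B) < q → q = maximalIdeal A := by
  classical
  obtain ⟨Q, ⟨hQp, hPQ, hQm⟩, hmax⟩ := (inferInstance : WellFoundedGT (Ideal B)).wf.has_min
    {Q : Ideal B | Q.IsPrime ∧ Pr ≤ Q ∧ Q.comap (algebraMap A B) ≠ maximalIdeal A} ⟨Pr, inferInstance, le_rfl, hPr⟩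
  haveI := hQp
  let D := B ⧸ Q
  haveI : Nontrivial D := Ideal.Quotient.nontrivial_iff.mpr hQp.ne_top
  haveI : IsLocalRing D := IsLocalRing.of_surjective' (Ideal.Quotient.mk Q) Ideal.Quotient.mk_surjective
  have hle : Q.comap (algebraMap A B) ≤ maximalIdeal A := le_maximalIdeal (Ideal.IsPrime.ne_top inferInstance)
  obtain ⟨a, ham, haQ⟩ : ∃ a ∈ maximalIdeal A, a ∉ Q.comap (algebraMap A B) :=
    SetLike.not_le_iff_exists.mp fun h => hQm (le_antisymm hle h)
  have hD : ∀ q : Ideal D, q.IsPrime → q ≠ ⊥ → q.comap (algebraMap A D) = maximalIdeal A := by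
    intro q hq hq0
    by_contra hne
    have hlt : Q < q.comap (Ideal.Quotient.mk Q) := by
      refine lt_of_le_of_ne (fun x hx => by
        rw [Ideal.mem_comap, Ideal.Quotient.eq_zero_iff_mem.mpr hx]
        exact zero_mem _) fun he => hq0 ?_
      rw [← Ideal.map_comap_of_surjective _ Ideal.Quotient.mk_surjective q, ← he, Ideal.map_quotient_self]
    exact hmax _ ⟨Ideal.comap_isPrime _ _, hPQ.trans hlt.le, by rw [Ideal.comap_comap]; exact hne⟩ hlt
  have hloc : IsLocalHom (algebraMap A D) := ⟨fun x hx => by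
    by_contra h
    have h1 : algebraMap A B x ∈ maximalIdeal B := map_nonunit _ x ((IsLocalRing.mem_maximalIdeal _).mpr h)
    have h2 : algebraMap A D x ∈ maximalIdeal D := by
      rw [← IsLocalRing.map_maximalIdeal_of_surjective _ (Ideal.Quotient.mk_surjective (I := Q))]
      exact Ideal.mem_map_of_mem _ h1
    exact (IsLocalRing.mem_maximalIdeal _).mp h2 hx⟩
  haveI := hloc
  have ha0 : algebraMap A D a ≠ 0 := fun h => haQ (Ideal.mem_comap.mpr ((Ideal.Quotient.eq_zero_iff_mem (I := Q)).mp h))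
  obtain ⟨hrad, hdim⟩ := radical_span_eq_maximalIdeal ha0 (map_nonunit _ a ham)
    fun q hq hq0 => by
      rw [← Ideal.mem_comap, hD q hq hq0]
      exact ham
  haveI : Module.Finite A (D ⧸ maximalIdeal D) := by
    let f : ResidueField B →+* D ⧸ maximalIdeal D := Ideal.quotientMap (maximalIdeal D) (Ideal.Quotient.mk Q)
      (Ideal.map_le_iff_le_comap.mp (IsLocalRing.map_maximalIdeal_of_surjective _ Ideal.Quotient.mk_surjective).le)
    have hf : Function.Surjective f := fun z => by
      obtain ⟨d, rfl⟩ := Ideal.Quotient.mk_surjective z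
      obtain ⟨b, rfl⟩ := Ideal.Quotient.mk_surjective d
      exact ⟨residue B b, rfl⟩
    rw [← RingHom.finite_algebraMap, show algebraMap A (D ⧸ maximalIdeal D) = f.comp ((residue B).comp (algebraMap A B))
      from RingHom.ext fun _ => rfl]
    exact (RingHom.Finite.of_surjective f hf).comp hres
  obtain ⟨N, hN⟩ := Ideal.exists_pow_le_of_le_radical_of_fg (I := maximalIdeal D)
    (J := (maximalIdeal A).map (algebraMap A D)) (by
      rw [← hrad]
      exact Ideal.radical_mono ((Ideal.span_singleton_le_iff_mem _).mpr (Ideal.mem_map_of_mem _ ham)))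
    (IsNoetherian.noetherian _)
  haveI := finite_quotient_pow (A := A) (maximalIdeal D) N
  have hfin : Module.Finite A D := by
    rw [← RingHom.finite_algebraMap]
    refine EGA418Dim.finite_of_quotient_map_maximal (algebraMap A D) ?_
    rw [show (Ideal.Quotient.mk ((maximalIdeal A).map (algebraMap A D))).comp (algebraMap A D) =
      (Ideal.Quotient.factor hN).comp (algebraMap A (D ⧸ maximalIdeal D ^ N)) from RingHom.ext fun _ => rfl]
    exact (RingHom.Finite.of_surjective _ (Ideal.Quotient.factor_surjective hN)).comp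
      (RingHom.finite_algebraMap.mpr inferInstance)
  refine ⟨Q, hQp, hPQ, hQm, hfin, fun q hq hlt => ?_⟩
  haveI := hq
  haveI : Algebra.IsIntegral A D := Algebra.IsIntegral.of_finite A D
  obtain ⟨q', -, hq', rfl⟩ := Ideal.exists_ideal_over_prime_of_isIntegral q (⊥ : Ideal D) (by
    rw [← RingHom.ker_eq_comap_bot, show RingHom.ker (algebraMap A D) = Q.comap (algebraMap A B) from
      Ideal.ext fun x => Ideal.Quotient.eq_zero_iff_mem]
    exact hlt.le)
  refine hD q' hq' fun h0 => hlt.ne ?_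
  rw [h0, ← RingHom.ker_eq_comap_bot]
  exact Ideal.ext fun x => (Ideal.Quotient.eq_zero_iff_mem (I := Q)).symm

end Groth.Agent.GRingCpl
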