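/-
Localization of geometric properties of fibres: reduction to a normal complete base.
-/
import Mathlib
import Groth.Agent.GRingCpl.PFibreLemmas
import Groth.Agent.Nagata.PowerSeries
import Groth.Agent.FinComplete.Basic

set_option autoImplicit false
set_option linter.style.haveILetI false
universe u

open IsLocalRing TensorProduct

namespace Groth.Agent.GRingCpl

/-- The generic fibre over a normal complete local domain. -/
def CClaim (P : ∀ (R : Type u) [CommRing R], Prop) (n : ℕ) : Prop :=
  ∀ (A B : Type u) [CommRing A] [IsDomain A] [IsLocalRing A] [IsNoetherianRing A] [IsIntegrallyClosed A]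
    [IsAdicComplete (maximalIdeal A) A] [CommRing B] [IsLocalRing B] [IsNoetherianRing B] [Algebra A B]
    [IsLocalHom (algebraMap A B)] [Module.Flat A B],
    ringKrullDim A ≤ n → Nice B → ResFin A B → FibP P A B (maximalIdeal A) →
      ∀ (Pr : Ideal B) [Pr.IsPrime], Pr.comap (algebraMap A B) = ⊥ → P (Localization.AtPrime Pr)

/-- All fibres over a complete local ring. -/
def FClaim (P : ∀ (R : Type u) [CommRing R], Prop) (n : ℕ) : Prop :=
  ∀ (A B : Type u) [CommRing A] [IsLocalRing A] [IsNoetherianRing A] [IsAdicComplete (maximalIdeal A) A]
    [CommRing B] [IsLocalRing B] [IsNoetherianRing B] [Algebra A B] [IsLocalHom (algebraMap A B)] [Module.Flat A B],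
    Nice B → ResFin A B → FibP P A B (maximalIdeal A) →
      ∀ (p : Ideal A) [p.IsPrime], ringKrullDim (A ⧸ p) ≤ n → FibP P A B p

theorem ringKrullDim_le_of_finite_injective {R S : Type u} [CommRing R] [CommRing S] [IsDomain S] [Algebra R S]
    [Module.Finite R S] : ringKrullDim S ≤ ringKrullDim R := by
  haveI : Algebra.IsIntegral R S := Algebra.IsIntegral.of_finite R S
  refine Order.krullDim_le_of_strictMono (PrimeSpectrum.comap (algebraMap R S)) fun x y hxy => ?_
  obtain ⟨hle, z, hzy, hzx⟩ := SetLike.lt_iff_le_and_exists.mp (show x.asIdeal < y.asIdeal from hxy)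
  exact Ideal.comap_lt_comap_of_integral_mem_sdiff hle ⟨hzy, hzx⟩ (Algebra.IsIntegral.isIntegral z)

/-- The normalization of a quotient in a finite extension. -/
theorem exists_normal_finite {A : Type u} [CommRing A] [IsLocalRing A] [IsNoetherianRing A]
    [IsAdicComplete (maximalIdeal A) A] (p : Ideal A) [p.IsPrime] (L : Type u) [Field L] [Algebra A L]
    [Algebra p.ResidueField L] [IsScalarTower A p.ResidueField L] [Module.Finite p.ResidueField L] :
    ∃ (D : Type u) (_ : CommRing D) (_ : IsDomain D) (_ : IsLocalRing D) (_ : IsNoetherianRing D)
      (_ : Algebra A D) (_ : Algebra D L),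
      IsScalarTower A D L ∧ IsFractionRing D L ∧ IsIntegrallyClosed D ∧ Module.Finite A D ∧
        IsAdicComplete (maximalIdeal D) D ∧ IsLocalHom (algebraMap A D) ∧ ringKrullDim D ≤ ringKrullDim (A ⧸ p) := by
  let R := A ⧸ p
  let F := FractionRing R
  letI : Algebra R L := ((algebraMap p.ResidueField L).comp (algebraMap R p.ResidueField)).toAlgebra
  haveI : IsScalarTower R p.ResidueField L := IsScalarTower.of_algebraMap_eq fun _ => rfl
  have hinj : Function.Injective (algebraMap R L) :=
    (algebraMap p.ResidueField L).injective.comp (IsFractionRing.injective R p.ResidueField)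
  letI : Algebra F L := (IsFractionRing.lift hinj).toAlgebra
  haveI : IsScalarTower R F L := IsScalarTower.of_algebraMap_eq fun r => (IsFractionRing.lift_algebraMap hinj r).symm
  let e : p.ResidueField ≃ₐ[R] F := (FractionRing.algEquiv R p.ResidueField).symm
  haveI : FiniteDimensional F L := by
    have hcomp : (algebraMap F L).comp e.toAlgHom.toRingHom = algebraMap p.ResidueField L :=
      IsLocalization.ringHom_ext (nonZeroDivisors R) (RingHom.ext fun r => by
        show algebraMap F L (e (algebraMap R p.ResidueField r)) = algebraMap p.ResidueField L (algebraMap R p.ResidueField r)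
        rw [e.commutes, ← IsScalarTower.algebraMap_apply, ← IsScalarTower.algebraMap_apply])
    have h : (algebraMap p.ResidueField L).Finite := RingHom.finite_algebraMap.mpr inferInstance
    rw [← hcomp] at h
    exact RingHom.finite_algebraMap.mp (RingHom.Finite.of_comp_finite h)
  haveI : Module.Finite R (integralClosure R L) :=
    (Nagata.isNagata_of_complete A).2 p L inferInstance
  let D := integralClosure R L
  haveI : IsFractionRing D L := integralClosure.isFractionRing_of_finite_extension F L
  haveI : IsIntegrallyClosed D := integralClosure.isIntegrallyClosedOfFiniteExtension F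
  haveI : IsScalarTower A R L := IsScalarTower.of_algebraMap_eq fun a => by
    show algebraMap A L a = algebraMap p.ResidueField L (algebraMap R p.ResidueField (algebraMap A R a))
    rw [← IsScalarTower.algebraMap_apply A R p.ResidueField, ← IsScalarTower.algebraMap_apply]
  haveI : Module.Finite A R := Module.Finite.of_surjective (Algebra.linearMap A R) Ideal.Quotient.mk_surjective
  haveI : IsScalarTower A R D := IsScalarTower.of_algebraMap_eq fun a => Subtype.ext (IsScalarTower.algebraMap_apply A R L a)
  haveI : Module.Finite A D := Module.Finite.trans R D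
  haveI : IsNoetherianRing D := IsNoetherianRing.of_finite A D
  haveI : IsLocalRing D := FinComplete.isLocalRing_of_isDomain A D
  haveI : IsLocalHom (algebraMap A D) := by
    haveI : Algebra.IsIntegral A D := Algebra.IsIntegral.of_finite A D
    exact ((IsLocalRing.local_hom_TFAE (algebraMap A D)).out 4 0).mp
      (IsLocalRing.eq_maximalIdeal (Ideal.isMaximal_comap_of_isIntegral_of_isMaximal _))
  exact ⟨D, inferInstance, inferInstance, inferInstance, inferInstance, inferInstance, inferInstance, inferInstance,
    inferInstance, inferInstance, inferInstance, FinComplete.isAdicComplete_of_isLocalRing A D, inferInstance,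
    ringKrullDim_le_of_finite_injective (R := R)⟩

/-- **Reduction of all fibres to generic fibres over normal bases.** -/
theorem fClaim_of_cClaim {P : ∀ (R : Type u) [CommRing R], Prop} (hP : LocProp P) {n : ℕ} (hC : CClaim P n) :
    FClaim P n := by
  intro A B _ _ _ _ _ _ _ _ _ _ hB hres h0 p _ hdim L _ _ _ _ _
  obtain ⟨D, _, _, _, _, _, _, hT, hfr, hnorm, hfin, hcpl, hloc, hdimD⟩ := exists_normal_finite p L
  let T := D ⊗[A] B
  letI : Algebra B T := Algebra.TensorProduct.rightAlgebra
  haveI : Module.Finite B T := Module.Finite.equiv ({ (Algebra.TensorProduct.comm A B D).toLinearEquiv.toAddEquiv with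
    map_smul' := fun s x => by
      show (Algebra.TensorProduct.comm A B D) (s • x) = s • (Algebra.TensorProduct.comm A B D) x
      rw [Algebra.smul_def, Algebra.smul_def, map_mul]
      rfl } : (B ⊗[A] D) ≃ₗ[B] T)
  haveI : IsNoetherianRing T := IsNoetherianRing.of_finite B T
  have hT' : Nice T := hB.of_finiteType
  haveI : Algebra.EssFiniteType A L := Algebra.EssFiniteType.comp A p.ResidueField L
  haveI : IsNoetherianRing (L ⊗[A] B) := FlatDepth.isNoetherianRing_tensor_essFinite A B L
  refine hP.of_localization _ fun Q _ => ?_
  obtain ⟨q, _, hq, ⟨eQ⟩⟩ := (FlatDepth.generic_fibre_primes A B D L).1 Q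
  refine hP.equiv _ _ eQ ?_
  obtain ⟨M, hM, hqM⟩ := q.exists_le_maximal (Ideal.IsPrime.ne_top inferInstance)
  let S := Localization.AtPrime M
  haveI : IsNoetherianRing S := IsLocalization.isNoetherianRing M.primeCompl S inferInstance
  haveI : Algebra.IsIntegral B T := Algebra.IsIntegral.of_finite B T
  haveI : Algebra.IsIntegral A D := Algebra.IsIntegral.of_finite A D
  have hMB : M.comap (algebraMap B T) = maximalIdeal B :=
    IsLocalRing.eq_maximalIdeal (Ideal.isMaximal_comap_of_isIntegral_of_isMaximal M)
  have hMA : (M.comap (algebraMap D T)).comap (algebraMap A D) = maximalIdeal A := by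
    rw [Ideal.comap_comap, show (algebraMap D T).comp (algebraMap A D) = (algebraMap B T).comp (algebraMap A B) from
      RingHom.ext fun a => by
        show algebraMap A D a ⊗ₜ[A] (1 : B) = (1 : D) ⊗ₜ[A] algebraMap A B a
        rw [Algebra.algebraMap_eq_smul_one, Algebra.algebraMap_eq_smul_one, TensorProduct.smul_tmul],
      ← Ideal.comap_comap, hMB]
    exact ((IsLocalRing.local_hom_TFAE (algebraMap A B)).out 0 4).mp (inferInstance : IsLocalHom (algebraMap A B))
  have hMD : M.comap (algebraMap D T) = maximalIdeal D := by
    haveI : ((M.comap (algebraMap D T)).comap (algebraMap A D)).IsMaximal := hMA ▸ maximalIdeal.isMaximal A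
    exact IsLocalRing.eq_maximalIdeal (Ideal.isMaximal_of_isIntegral_of_isMaximal_comap (R := A) _ inferInstance)
  haveI : IsLocalHom (algebraMap D S) := by
    refine ((IsLocalRing.local_hom_TFAE (algebraMap D S)).out 4 0).mp ?_
    have hcm : (maximalIdeal S).comap (algebraMap T S) = M := IsLocalization.AtPrime.comap_maximalIdeal S M
    rw [IsScalarTower.algebraMap_eq D T S, ← Ideal.comap_comap, hcm, hMD]
  haveI : Module.Flat T S := IsLocalization.flat S M.primeCompl
  haveI : Module.Flat D S := Module.Flat.trans D T S
  have hresS : ResFin D S := by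
    have h1 : ((residue S).comp (algebraMap B S)).Finite := by
      let g : T ⧸ M →+* ResidueField S := Ideal.quotientMap (maximalIdeal S) (algebraMap T S)
        (IsLocalization.AtPrime.comap_maximalIdeal S M).ge
      have hg : Function.Surjective g := fun z => by
        obtain ⟨w, rfl⟩ := Ideal.Quotient.mk_surjective z
        obtain ⟨a, s, rfl⟩ := IsLocalization.exists_mk'_eq M.primeCompl w
        letI : Field (T ⧸ M) := Ideal.Quotient.field M
        have hs : g (Ideal.Quotient.mk M (s : T)) ≠ 0 := by
          rw [ne_eq, map_eq_zero, Ideal.Quotient.eq_zero_iff_mem]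
          exact s.2
        refine ⟨Ideal.Quotient.mk M a / Ideal.Quotient.mk M (s : T), ?_⟩
        rw [map_div₀, div_eq_iff hs]
        show residue S (algebraMap T S a) = residue S (IsLocalization.mk' S a s) * residue S (algebraMap T S (s : T))
        rw [← map_mul, IsLocalization.mk'_spec]
      rw [show (residue S).comp (algebraMap B S) = g.comp ((Ideal.Quotient.mk M).comp (algebraMap B T)) from
        RingHom.ext fun b => by
          show residue S (algebraMap B S b) = residue S (algebraMap T S (algebraMap B T b))
          rw [← IsScalarTower.algebraMap_apply]]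
      exact (RingHom.Finite.of_surjective g hg).comp
        ((RingHom.Finite.of_surjective _ Ideal.Quotient.mk_surjective).comp (RingHom.finite_algebraMap.mpr inferInstance))
    have hle : maximalIdeal B ≤ RingHom.ker ((residue S).comp (algebraMap B S)) := fun b hb => by
      rw [RingHom.mem_ker]
      show residue S (algebraMap B S b) = 0
      rw [residue_eq_zero_iff, IsScalarTower.algebraMap_apply B T S, IsLocalization.AtPrime.to_map_mem_maximal_iff S M,
        ← Ideal.mem_comap, hMB]
      exact hb
    let gB : ResidueField B →+* ResidueField S := Ideal.Quotient.lift _ _ fun b hb => hle hb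
    have h2 : gB.Finite := RingHom.Finite.of_comp_finite (f := residue B) h1
    have h3 : ((residue S).comp (algebraMap A S)).Finite := by
      rw [show (residue S).comp (algebraMap A S) = gB.comp ((residue B).comp (algebraMap A B)) from
        RingHom.ext fun a => congrArg (residue S) (IsScalarTower.algebraMap_apply A B S a)]
      exact h2.comp hres
    rw [show (residue S).comp (algebraMap A S) = ((residue S).comp (algebraMap D S)).comp (algebraMap A D) from
      RingHom.ext fun a => congrArg (residue S) (IsScalarTower.algebraMap_apply A D S a)] at h3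
    exact RingHom.Finite.of_comp_finite h3
  have hfib : FibP P D S (maximalIdeal D) := by
    intro L' _ _ _ _ _
    letI : Algebra A L' := ((algebraMap D L').comp (algebraMap A D)).toAlgebra
    haveI : IsScalarTower A D L' := IsScalarTower.of_algebraMap_eq fun _ => rfl
    haveI : Module.Finite D (maximalIdeal D).ResidueField := Module.Finite.of_surjective
      (Algebra.linearMap D (maximalIdeal D).ResidueField) (Ideal.algebraMap_residueField_surjective (maximalIdeal D))
    haveI : Module.Finite D L' := Module.Finite.trans (maximalIdeal D).ResidueField L'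
    haveI : Module.Finite A L' := Module.Finite.trans D L'
    have hL : P (L' ⊗[A] B) := h0.apply_finite L' (by
      have hk : RingHom.ker (algebraMap D L') = maximalIdeal D := by
        ext d
        rw [RingHom.mem_ker, IsScalarTower.algebraMap_apply D (maximalIdeal D).ResidueField L', map_eq_zero,
          Ideal.algebraMap_residueField_eq_zero]
      rw [RingHom.algebraMap_toAlgebra, ← RingHom.comap_ker, hk]
      exact ((IsLocalRing.local_hom_TFAE (algebraMap A D)).out 0 4).mp (inferInstance : IsLocalHom (algebraMap A D)))
    haveI : IsNoetherianRing (L' ⊗[A] B) := FlatDepth.isNoetherianRing_tensor_essFinite A B L'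
    let e := (Algebra.TensorProduct.cancelBaseChange A D D L' B).toRingEquiv
    haveI : IsNoetherianRing (L' ⊗[D] T) := isNoetherianRing_of_ringEquiv _ e.symm
    exact tensor_localization hP M.primeCompl L' (hP.equiv _ _ e.symm hL)
  have hdisj : Disjoint (M.primeCompl : Set T) q := Set.disjoint_left.mpr fun x hx hxq => hx (hqM hxq)
  haveI : (q.map (algebraMap T S)).IsPrime :=
    IsLocalization.isPrime_of_isPrime_disjoint M.primeCompl S q inferInstance hdisj
  have h2 : (q.map (algebraMap T S)).comap (algebraMap T S) = q :=
    IsLocalization.comap_map_of_isPrime_disjoint M.primeCompl S inferInstance hdisj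
  have hCS := hC D S (hdimD.trans hdim) (hT'.of_isLocalization M.primeCompl S) hresS hfib (q.map (algebraMap T S)) (by
    rw [IsScalarTower.algebraMap_eq D T S, ← Ideal.comap_comap, h2, hq])
  haveI := IsLocalization.isLocalization_isLocalization_atPrime_isLocalization M.primeCompl
    (Localization.AtPrime (q.map (algebraMap T S))) (q.map (algebraMap T S))
  haveI : IsLocalization.AtPrime (Localization.AtPrime (q.map (algebraMap T S))) q := by
    have := ‹IsLocalization.AtPrime (Localization.AtPrime (q.map (algebraMap T S))) ((q.map (algebraMap T S)).comap (algebraMap T S))›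
    simpa only [h2] using this
  exact hP.equiv _ _ (IsLocalization.algEquiv q.primeCompl
    (Localization.AtPrime (q.map (algebraMap T S))) (Localization.AtPrime q)).toRingEquiv hCS

end Groth.Agent.GRingCpl
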