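/-
Grothendieck's localization theorem for local properties, finite residue extensions.
-/
import Mathlib
import Groth.Agent.GRingCpl.PFibreCore
import Groth.Agent.GRingCpl.PFibreAux
import Groth.Agent.GRingCpl.QuasiFinite
import Groth.Agent.GRingCpl.Dedekind
import Groth.Agent.FlatDepth.RegHom
import Groth.Agent.Cohen.Completion
import Groth.Agent.AdicBasics.Dimension

set_option autoImplicit false
set_option linter.style.haveILetI false
universe u

open IsLocalRing TensorProduct

namespace Groth.Agent.GRingCpl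

variable {P : ∀ (R : Type u) [CommRing R], Prop}

/-- The localization theorem in bounded dimension. -/
def GClaim (P : ∀ (R : Type u) [CommRing R], Prop) (n : ℕ) : Prop :=
  ∀ (A B : Type u) [CommRing A] [IsLocalRing A] [IsNoetherianRing A] [CommRing B] [IsLocalRing B] [IsNoetherianRing B]
    [Algebra A B] [IsLocalHom (algebraMap A B)] [Module.Flat A B],
    ringKrullDim A ≤ n → (∀ (p : Ideal A) [p.IsPrime], FibP P A (EGA4.Cpl A) p) → ResFin A B →
      FibP P A (EGA4.Cpl B) (maximalIdeal A) → ∀ (p : Ideal A) [p.IsPrime], FibP P A B p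

theorem gClaim_of_fClaim (hP : LocProp P) {n : ℕ} (hF : FClaim P n) : GClaim P n := by
  intro A B _ _ _ _ _ _ _ _ _ hdim hA hres h0 p _ L _ _ _ _ _
  obtain ⟨_, h1, h2, h3⟩ := FlatDepth.formal_setup A B
  haveI : IsNoetherianRing (EGA4.Cpl A) := AdicBasics.isNoetherianRing_completion A
  haveI : IsNoetherianRing (EGA4.Cpl B) := AdicBasics.isNoetherianRing_completion B
  haveI : IsAdicComplete (maximalIdeal (EGA4.Cpl A)) (EGA4.Cpl A) :=
    (inferInstance : IsAdicComplete (maximalIdeal (AdicCompletion (maximalIdeal A) A)) (AdicCompletion (maximalIdeal A) A))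
  haveI : IsAdicComplete (maximalIdeal (EGA4.Cpl B)) (EGA4.Cpl B) :=
    (inferInstance : IsAdicComplete (maximalIdeal (AdicCompletion (maximalIdeal B) B)) (AdicCompletion (maximalIdeal B) B))
  haveI : IsLocalHom (algebraMap (EGA4.Cpl A) (EGA4.Cpl B)) := inferInstance
  let m' := maximalIdeal (EGA4.Cpl A)
  have hm : (maximalIdeal A).map (algebraMap A (EGA4.Cpl A)) = m' := (AdicCompletion.maximalIdeal_eq_map).symm
  have hd : ∀ r : EGA4.Cpl A, ∃ a : A, r - algebraMap A (EGA4.Cpl A) a ∈ (maximalIdeal A).map (algebraMap A (EGA4.Cpl A)) :=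
    fun r => by
      obtain ⟨a, ha⟩ := Cohen.exists_sub_mem_pow r 1
      rw [pow_one] at ha
      exact ⟨a, hm.ge ha⟩
  have hres' : ResFin (EGA4.Cpl A) (EGA4.Cpl B) := by
    let g : ResidueField B →+* ResidueField (EGA4.Cpl B) := IsLocalRing.ResidueField.map (algebraMap B (EGA4.Cpl B))
    have hg : Function.Surjective g := fun z => by
      obtain ⟨w, rfl⟩ := IsLocalRing.residue_surjective z
      obtain ⟨b, hb⟩ := Cohen.exists_sub_mem_pow w 1
      rw [pow_one] at hb
      exact ⟨residue B b, (Ideal.Quotient.eq.mpr hb).symm⟩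
    have h4 : ((residue (EGA4.Cpl B)).comp (algebraMap A (EGA4.Cpl B))).Finite := by
      rw [show (residue (EGA4.Cpl B)).comp (algebraMap A (EGA4.Cpl B)) = g.comp ((residue B).comp (algebraMap A B)) from
        RingHom.ext fun a => congrArg (residue (EGA4.Cpl B)) (IsScalarTower.algebraMap_apply A B (EGA4.Cpl B) a)]
      exact (RingHom.Finite.of_surjective g hg).comp hres
    rw [show (residue (EGA4.Cpl B)).comp (algebraMap A (EGA4.Cpl B)) =
      ((residue (EGA4.Cpl B)).comp (algebraMap (EGA4.Cpl A) (EGA4.Cpl B))).comp (algebraMap A (EGA4.Cpl A)) from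
      RingHom.ext fun a => congrArg (residue (EGA4.Cpl B)) (IsScalarTower.algebraMap_apply A (EGA4.Cpl A) (EGA4.Cpl B) a)] at h4
    exact RingHom.Finite.of_comp_finite h4
  have hfib : FibP P (EGA4.Cpl A) (EGA4.Cpl B) m' := by
    intro L' _ _ _ _ _
    letI : Algebra A L' := ((algebraMap (EGA4.Cpl A) L').comp (algebraMap A (EGA4.Cpl A))).toAlgebra
    haveI : IsScalarTower A (EGA4.Cpl A) L' := IsScalarTower.of_algebraMap_eq fun _ => rfl
    haveI : Module.Finite A m'.ResidueField := Module.Finite.of_surjective (Algebra.linearMap A m'.ResidueField)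
      fun z => by
        obtain ⟨r, rfl⟩ := Ideal.algebraMap_residueField_surjective m' z
        obtain ⟨a, ha⟩ := hd r
        refine ⟨a, ?_⟩
        rw [Algebra.linearMap_apply, IsScalarTower.algebraMap_apply A (EGA4.Cpl A) m'.ResidueField, eq_comm,
          ← sub_eq_zero, ← map_sub, Ideal.algebraMap_residueField_eq_zero]
        exact hm.le ha
    haveI : IsScalarTower A m'.ResidueField L' := IsScalarTower.of_algebraMap_eq fun a => by
      show algebraMap (EGA4.Cpl A) L' (algebraMap A (EGA4.Cpl A) a) = _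
      rw [IsScalarTower.algebraMap_apply (EGA4.Cpl A) m'.ResidueField L', ← IsScalarTower.algebraMap_apply A (EGA4.Cpl A) m'.ResidueField]
    haveI : Module.Finite A L' := Module.Finite.trans m'.ResidueField L'
    have hker : RingHom.ker (algebraMap A L') = maximalIdeal A := by
      have hk : RingHom.ker (algebraMap (EGA4.Cpl A) L') = m' := by
        ext d
        rw [RingHom.mem_ker, IsScalarTower.algebraMap_apply (EGA4.Cpl A) m'.ResidueField L', map_eq_zero,
          Ideal.algebraMap_residueField_eq_zero]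
      rw [RingHom.algebraMap_toAlgebra, ← RingHom.comap_ker, hk]
      exact IsLocalRing.maximalIdeal_comap (algebraMap A (EGA4.Cpl A))
    exact tensor_of_dense hP (maximalIdeal A) (fun b hb => RingHom.mem_ker.mp (hker.ge hb)) hd (h0.apply_finite L' hker)
  have hfibres : ∀ (q : Ideal (EGA4.Cpl A)) [q.IsPrime], FibP P (EGA4.Cpl A) (EGA4.Cpl B) q := fun q _ =>
    hF (EGA4.Cpl A) (EGA4.Cpl B) (Nice.of_complete _) hres' hfib q
      ((ringKrullDim_quotient_le q).trans ((AdicBasics.ringKrullDim_completion A).le.trans hdim))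
  haveI : Module.FaithfullyFlat B (EGA4.Cpl B) := Module.FaithfullyFlat.of_flat_of_isLocalHom
  haveI : Algebra.EssFiniteType A L := Algebra.EssFiniteType.comp A p.ResidueField L
  have hAC : P (L ⊗[A] EGA4.Cpl B) := FlatDepth.comp_ascent (A := A) (B := EGA4.Cpl A) (C := EGA4.Cpl B) p L P hP.equiv
    (fun R S _ _ _ _ _ _ => hP.ascent R S) (hA p L)
    fun q _ κ _ _ hκ => (fibP_iff hP.equiv _ _ q).mp (hfibres q) κ hκ
  exact FlatDepth.comp_descent (A := A) (B := B) (C := EGA4.Cpl B) L P hP.equiv
    (fun R S _ _ _ _ _ _ => hP.descent R S) hAC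

/-- The generic fibre over a discrete valuation ring. -/
theorem lift_of_dvr (hP : LocProp P) {A B : Type u} [CommRing A] [IsDomain A] [IsLocalRing A] [IsNoetherianRing A]
    [IsIntegrallyClosed A] (hone : ∀ q : Ideal A, q.IsPrime → q ≠ ⊥ → q = maximalIdeal A)
    (hm : maximalIdeal A ≠ ⊥)
    [CommRing B] [IsLocalRing B] [IsNoetherianRing B] [Algebra A B] [IsLocalHom (algebraMap A B)] [Module.Flat A B]
    (hB : Nice B) (h0 : FibP P A B (maximalIdeal A)) : P B := by
  obtain ⟨t, ht⟩ : (maximalIdeal A).IsPrincipal :=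
    have hh : IsIntegrallyClosed A ∧ ∀ q : Ideal A, q ≠ ⊥ → q.IsPrime → q = maximalIdeal A :=
      ⟨inferInstance, fun q h1 h2 => hone q h2 h1⟩
    ((tfae_of_isNoetherianRing_of_isLocalRing_of_isDomain A).out 3 4).mp hh
  have ht0 : t ≠ 0 := fun h => hm (by rw [ht, h, Submodule.span_zero_singleton])
  have hts : maximalIdeal A = Ideal.span {t} := ht
  have htreg : algebraMap A B t ∈ nonZeroDivisors B := by
    have h1 : IsSMulRegular B (algebraMap A B t) := IsSMulRegular.of_flat (IsRegular.of_ne_zero ht0).left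
    refine mem_nonZeroDivisors_iff_right.mpr fun x hx => h1 ?_
    show algebraMap A B t • x = algebraMap A B t • (0 : B)
    rw [smul_zero, smul_eq_mul, mul_comm, hx]
  refine hP.lift B (hB.2.2 B inferInstance) (algebraMap A B t)
    (map_nonunit _ t (hts.ge (Ideal.mem_span_singleton_self t))) htreg ?_
  let κ := (maximalIdeal A).ResidueField
  have hκ : P (κ ⊗[A] B) := h0 κ
  let e1 : (A ⧸ maximalIdeal A) ≃ₐ[A] κ :=
    AlgEquiv.ofBijective (IsScalarTower.toAlgHom A _ _) (maximalIdeal A).bijective_algebraMap_quotient_residueField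
  refine hP.equiv _ _ ?_ hκ
  exact ((Algebra.TensorProduct.congr e1.symm AlgEquiv.refl).trans ((Algebra.TensorProduct.comm A _ B).trans
    ((Algebra.TensorProduct.quotIdealMapEquivTensorQuot B (maximalIdeal A)).restrictScalars A).symm)).toRingEquiv.trans
    (Ideal.quotEquivOfEq (by rw [hts, Ideal.map_span, Set.image_singleton]))

/-- The inductive step on the dimension of the base. -/
theorem cClaim_step (hP : LocProp P) (n : ℕ) (ih : ∀ k < n, CClaim P k) : CClaim P n := by
  intro A B _ _ _ _ _ _ _ _ _ _ _ _ hdim hB hres h0 Pr _ hPr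
  by_cases hm : maximalIdeal A = ⊥
  · let κ := (maximalIdeal A).ResidueField
    have hbij : Function.Bijective (algebraMap A κ) := ⟨(injective_iff_map_eq_zero _).mpr fun a ha => by
      rwa [Ideal.algebraMap_residueField_eq_zero, hm, Ideal.mem_bot] at ha,
      Ideal.algebraMap_residueField_surjective (maximalIdeal A)⟩
    let e : κ ≃ₐ[A] A := (AlgEquiv.ofBijective (Algebra.ofId A κ) hbij).symm
    exact hP.localization B Pr (hP.equiv _ _
      ((Algebra.TensorProduct.congr e AlgEquiv.refl).trans (Algebra.TensorProduct.lid A B)).toRingEquiv (h0 κ))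
  have hne : Pr.comap (algebraMap A B) ≠ maximalIdeal A := by rw [hPr]; exact fun h => hm h.symm
  obtain ⟨Q, _, hPQ, hQm, hfinQ, hone⟩ := exists_offClosed hres Pr hne
  let q := Q.comap (algebraMap A B)
  let BQ := Localization.AtPrime Q
  haveI : IsNoetherianRing BQ := IsLocalization.isNoetherianRing Q.primeCompl BQ inferInstance
  suffices hgoal : ∀ (Pr' : Ideal BQ) [Pr'.IsPrime], Pr'.comap (algebraMap A BQ) = ⊥ → P (Localization.AtPrime Pr') by
    have hdisj : Disjoint (Q.primeCompl : Set B) Pr := Set.disjoint_left.mpr fun x hx hxq => hx (hPQ hxq)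
    haveI : (Pr.map (algebraMap B BQ)).IsPrime :=
      IsLocalization.isPrime_of_isPrime_disjoint Q.primeCompl BQ Pr inferInstance hdisj
    have h2 : (Pr.map (algebraMap B BQ)).comap (algebraMap B BQ) = Pr :=
      IsLocalization.comap_map_of_isPrime_disjoint Q.primeCompl BQ inferInstance hdisj
    have h3 := hgoal (Pr.map (algebraMap B BQ)) (by
      rw [IsScalarTower.algebraMap_eq A B BQ, ← Ideal.comap_comap, h2, hPr])
    haveI := IsLocalization.isLocalization_isLocalization_atPrime_isLocalization Q.primeCompl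
      (Localization.AtPrime (Pr.map (algebraMap B BQ))) (Pr.map (algebraMap B BQ))
    haveI : IsLocalization.AtPrime (Localization.AtPrime (Pr.map (algebraMap B BQ))) Pr := by
      have := ‹IsLocalization.AtPrime (Localization.AtPrime (Pr.map (algebraMap B BQ))) ((Pr.map (algebraMap B BQ)).comap (algebraMap B BQ))›
      simpa only [h2] using this
    exact hP.equiv _ _ (IsLocalization.algEquiv Pr.primeCompl
      (Localization.AtPrime (Pr.map (algebraMap B BQ))) (Localization.AtPrime Pr)).toRingEquiv h3
  intro Pr' _ hPr'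
  by_cases hq : q = ⊥
  · have hone' : ∀ q' : Ideal A, q'.IsPrime → q' ≠ ⊥ → q' = maximalIdeal A := fun q' h1 h2 =>
      hone q' h1 (by show q < q'; rw [hq]; exact bot_lt_iff_ne_bot.mpr h2)
    exact hP.localization BQ Pr' (hP.of_isLocalization Q.primeCompl BQ (lift_of_dvr hP hone' hm hB h0))
  -- the inductive case
  have hqm : q < maximalIdeal A := lt_of_le_of_ne (le_maximalIdeal (Ideal.IsPrime.ne_top inferInstance)) hQm
  have hqpos : (1 : ℕ∞) ≤ q.height := by
    rw [Order.one_le_iff_ne_zero, ne_eq, Ideal.height_eq_zero_iff, IsDomain.minimalPrimes_eq_singleton_bot]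
    exact hq
  have hqlt : q.height < (n : ℕ∞) := by
    refine (Ideal.height_strict_mono_of_isPrime hqm).trans_le ?_
    have := hdim
    rw [← IsLocalRing.maximalIdeal_height_eq_ringKrullDim] at this
    exact_mod_cast this
  have hn : 2 ≤ n := by
    have h : (1 : ℕ∞) < (n : ℕ∞) := hqpos.trans_lt hqlt
    exact_mod_cast h
  have hFk : FClaim P (n - 1) := fClaim_of_cClaim hP (ih (n - 1) (by omega))
  have hGk : GClaim P (n - 1) := gClaim_of_fClaim hP hFk
  have hfibq : FibP P A B q := hFk A B hB hres h0 q (by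
    haveI : Ring.KrullDimLE 1 (A ⧸ q) := Ring.krullDimLE_one_iff_of_noZeroDivisors.mpr fun I hI0 hI => by
      have hI' : q < I.comap (Ideal.Quotient.mk q) := lt_of_le_of_ne (fun x hx => by
        rw [Ideal.mem_comap, Ideal.Quotient.eq_zero_iff_mem.mpr hx]
        exact zero_mem _) fun he => hI0 (by
          rw [← Ideal.map_comap_of_surjective _ Ideal.Quotient.mk_surjective I, ← he, Ideal.map_quotient_self])
      have h1 := hone _ (Ideal.comap_isPrime _ _) hI'
      haveI : (I.comap (Ideal.Quotient.mk q)).IsMaximal := h1 ▸ maximalIdeal.isMaximal A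
      rw [← Ideal.map_comap_of_surjective _ Ideal.Quotient.mk_surjective I]
      exact (Ideal.map_eq_top_or_isMaximal_of_surjective _ Ideal.Quotient.mk_surjective inferInstance).resolve_left
        (by rw [Ideal.map_comap_of_surjective _ Ideal.Quotient.mk_surjective]; exact hI.ne_top)
    exact (Ring.krullDimLE_iff.mp (inferInstance : Ring.KrullDimLE 1 (A ⧸ q))).trans (by exact_mod_cast (by omega : 1 ≤ n - 1)))
  let Aq := Localization.AtPrime q
  haveI : IsNoetherianRing Aq := IsLocalization.isNoetherianRing q.primeCompl Aq inferInstance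
  haveI : IsDomain Aq := IsLocalization.isDomain_localization q.primeCompl_le_nonZeroDivisors
  letI : Algebra Aq BQ := (Localization.localRingHom q Q (algebraMap A B) rfl).toAlgebra
  haveI : IsScalarTower A Aq BQ := IsScalarTower.of_algebraMap_eq fun r => by
    rw [RingHom.algebraMap_toAlgebra, Localization.localRingHom_to_map, ← IsScalarTower.algebraMap_apply]
  haveI : IsLocalHom (algebraMap Aq BQ) := Localization.isLocalHom_localRingHom q Q (algebraMap A B) rfl
  haveI : Module.Flat B BQ := IsLocalization.flat BQ Q.primeCompl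
  haveI : Module.Flat A BQ := Module.Flat.trans A B BQ
  haveI : Module.Flat Aq BQ := (Module.flat_iff_of_isLocalization Aq q.primeCompl BQ).2 inferInstance
  have hresQ : ResFin Aq BQ := by
    let κq := q.ResidueField
    let κQ := Q.ResidueField
    letI : Algebra κq κQ := (Ideal.ResidueField.map q Q (algebraMap A B) rfl).toAlgebra
    haveI : IsScalarTower A κq κQ := IsScalarTower.of_algebraMap_eq fun a => by
      rw [RingHom.algebraMap_toAlgebra, Ideal.ResidueField.map_algebraMap, ← IsScalarTower.algebraMap_apply]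
    haveI : IsScalarTower A (B ⧸ Q) κQ := IsScalarTower.of_algebraMap_eq fun a => by
      rw [IsScalarTower.algebraMap_apply A B κQ, IsScalarTower.algebraMap_apply A B (B ⧸ Q),
        ← IsScalarTower.algebraMap_apply B (B ⧸ Q) κQ]
    have hfinκ : (algebraMap κq κQ).Finite :=
      RingHom.finite_algebraMap.mpr (finite_of_fractions (R := A) (B := B ⧸ Q) κq κQ fun z => by
        obtain ⟨a, b, -, rfl⟩ := IsFractionRing.div_surjective (A := B ⧸ Q) z
        exact ⟨a, b, rfl⟩)
    show ((residue BQ).comp (algebraMap Aq BQ)).Finite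
    rw [show (residue BQ).comp (algebraMap Aq BQ) = (algebraMap κq κQ).comp (residue Aq) from
      IsLocalization.ringHom_ext q.primeCompl (RingHom.ext fun a => by
        show residue BQ (algebraMap Aq BQ (algebraMap A Aq a)) = algebraMap κq κQ (algebraMap A κq a)
        rw [← IsScalarTower.algebraMap_apply A Aq BQ, ← IsScalarTower.algebraMap_apply A κq κQ,
          IsScalarTower.algebraMap_apply A B BQ, IsScalarTower.algebraMap_apply A B κQ]
        rfl)]
    exact hfinκ.comp (RingHom.Finite.of_surjective _ IsLocalRing.residue_surjective)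
  haveI : IsNoetherianRing (EGA4.Cpl BQ) := AdicBasics.isNoetherianRing_completion BQ
  have hclosed : FibP P Aq (EGA4.Cpl BQ) (maximalIdeal Aq) := by
    intro L _ _ _ _ _
    letI : Algebra A L := ((algebraMap Aq L).comp (algebraMap A Aq)).toAlgebra
    haveI : IsScalarTower A Aq L := IsScalarTower.of_algebraMap_eq fun _ => rfl
    haveI : Algebra.EssFiniteType A Aq := Algebra.EssFiniteType.of_isLocalization Aq q.primeCompl
    haveI : Algebra.EssFiniteType Aq L := Algebra.EssFiniteType.comp Aq (maximalIdeal Aq).ResidueField L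
    haveI : Algebra.EssFiniteType A L := Algebra.EssFiniteType.comp A Aq L
    haveI : IsNoetherianRing (L ⊗[A] B) := FlatDepth.isNoetherianRing_tensor_essFinite A B L
    have h4 : P (L ⊗[A] BQ) := tensor_localization hP Q.primeCompl L (hfibq.apply_atPrime L)
    haveI : TensorProduct.CompatibleSMul A Aq L BQ := IsLocalization.tensorProduct_compatibleSMul q.primeCompl Aq L BQ
    have h5 : P (L ⊗[Aq] BQ) := hP.equiv _ _
      (Algebra.TensorProduct.equivOfCompatibleSMul A Aq A L BQ).symm.toRingEquiv h4
    exact FlatDepth.comp_ascent (A := Aq) (B := BQ) (C := EGA4.Cpl BQ) (maximalIdeal Aq) L P hP.equiv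
      (fun R S _ _ _ _ _ _ => hP.ascent R S) h5
      fun q' _ κ _ _ hκ => (fibP_iff hP.equiv _ _ q').mp (fibP_of_isRegularHom hP (hB.1.2 Q) q') κ hκ
  have hA' : ∀ (p : Ideal Aq) [p.IsPrime], FibP P Aq (EGA4.Cpl Aq) p :=
    fun p _ => fibP_of_isRegularHom hP ((isGRing_of_finiteType_complete (R0 := A) A).2 q) p
  have hdimq : ringKrullDim Aq ≤ ((n - 1 : ℕ) : WithBot ℕ∞) := by
    rw [IsLocalization.AtPrime.ringKrullDim_eq_height q Aq]
    have h : q.height ≤ ((n - 1 : ℕ) : ℕ∞) := by
      cases hh : q.height with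
      | top => rw [hh] at hqlt; exact absurd hqlt (by simp)
      | coe k =>
        rw [hh] at hqlt
        have : k < n := by exact_mod_cast hqlt
        exact_mod_cast (show k ≤ n - 1 by omega)
    exact WithBot.coe_le_coe.mpr h
  have hgen := hGk Aq BQ hdimq hA' hresQ hclosed (⊥ : Ideal Aq)
  let K := (⊥ : Ideal Aq).ResidueField
  haveI : IsFractionRing Aq K := isFractionRing_residueField_bot Aq
  haveI : IsNoetherianRing (K ⊗[Aq] BQ) := FlatDepth.isNoetherianRing_tensor_essFinite Aq BQ K
  refine atPrime_of_generic hP K (hgen K) Pr' ?_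
  have h6 : (Pr'.comap (algebraMap Aq BQ)).comap (algebraMap A Aq) = ⊥ := by
    rw [Ideal.comap_comap, ← IsScalarTower.algebraMap_eq, hPr']
  have h7 : ((Pr'.comap (algebraMap Aq BQ)).comap (algebraMap A Aq)).map (algebraMap A Aq) = Pr'.comap (algebraMap Aq BQ) :=
    IsLocalization.map_comap q.primeCompl Aq (Pr'.comap (algebraMap Aq BQ))
  rw [← h7, h6, Ideal.map_bot]

theorem cClaim_all (hP : LocProp P) (n : ℕ) : CClaim P n :=
  Nat.strong_induction_on n fun n ih => cClaim_step hP n ih

/-- **Grothendieck's localization theorem for a local property, finite residue extension.** -/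
theorem fibP_of_cpl_closedFibre (hP : LocProp P) {A B : Type u} [CommRing A] [IsLocalRing A] [IsNoetherianRing A]
    [CommRing B] [IsLocalRing B] [IsNoetherianRing B] [Algebra A B] [IsLocalHom (algebraMap A B)] [Module.Flat A B]
    [Module.Finite (ResidueField A) (ResidueField B)] (hA : ∀ (p : Ideal A) [p.IsPrime], FibP P A (EGA4.Cpl A) p)
    (h : FibP P A (EGA4.Cpl B) (maximalIdeal A)) (p : Ideal A) [p.IsPrime] : FibP P A B p := by
  obtain ⟨n, hn⟩ := SerreReg.exists_dim_nat A
  have hres : ResFin A B := by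
    show ((residue B).comp (algebraMap A B)).Finite
    rw [show (residue B).comp (algebraMap A B) = (algebraMap (ResidueField A) (ResidueField B)).comp (residue A) from
      RingHom.ext fun _ => rfl]
    exact (RingHom.finite_algebraMap.mpr inferInstance).comp (RingHom.Finite.of_surjective _ IsLocalRing.residue_surjective)
  exact gClaim_of_fClaim hP (fClaim_of_cClaim hP (cClaim_all hP n)) A B hn.le hA hres h p

end Groth.Agent.GRingCpl
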