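/-
Formal fibres of algebras essentially of finite type.
-/
import Mathlib
import Groth.Agent.GRingCpl.PFibreMain
import Groth.Agent.GRingCpl.PFibreInst
import Groth.Agent.GeomProp.BaseChange
import Groth.Agent.GeomRedPull.Field

set_option autoImplicit false
set_option linter.style.haveILetI false
universe u

open IsLocalRing TensorProduct

namespace Groth.Agent.GRingCpl

variable {P : ∀ (R : Type u) [CommRing R], Prop}

/-- Geometric properties extend to finitely generated extensions of the base field. -/
def FieldStable (P : ∀ (R : Type u) [CommRing R], Prop) : Prop :=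
  ∀ (k S : Type u) [Field k] [CommRing S] [Algebra k S] [IsNoetherianRing S],
    (∀ (k' : Type u) [Field k'] [Algebra k k'], Module.Finite k k' → P (k' ⊗[k] S)) →
      ∀ (K : Type u) [Field K] [Algebra k K] [Algebra.EssFiniteType k K], P (K ⊗[k] S)

theorem fieldStable_cm : FieldStable.{u} (fun R _ => LocCoh.IsCohenMacaulayRing R) := by
  intro k S _ _ _ _ h K _ _ _
  have hS : LocCoh.IsCohenMacaulayRing S := FlatDepth.isCM_of_equiv (Algebra.TensorProduct.lid k S).toRingEquiv
    (h k inferInstance)
  haveI := hS
  haveI : IsNoetherianRing (S ⊗[k] K) := Algebra.EssFiniteType.isNoetherianRing S (S ⊗[k] K)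
  refine FlatDepth.isCM_of_equiv (Algebra.TensorProduct.comm k S K).toRingEquiv
    (locProp_cm.{u}.ascent S (S ⊗[k] K) hS fun Q _ => ?_)
  obtain ⟨hN, hQ⟩ := CMFlat.isCohenMacaulay_tensor_field k K Q.ResidueField
  haveI := hN
  exact FlatDepth.isCM_of_equiv (Algebra.TensorProduct.cancelBaseChange k S Q.ResidueField Q.ResidueField K).symm.toRingEquiv
    { isCohenMacaulayLocalRing_localization := fun p _ => hQ p }

theorem fieldStable_reduced : FieldStable.{u} (fun R _ => IsReduced R) := by
  intro k S _ _ _ _ h K _ _ _
  haveI : Algebra.IsGeometricallyReduced k S := FlatDepth.geomReduced_of_finite fun L _ _ hL => h L hL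
  exact GeomRedPull.isReduced_field_tensor K

theorem fieldStable_normal : FieldStable.{u} (fun R _ => EGA4.IsNormalRing R) := by
  intro k S _ _ _ _ h K _ _ _
  exact GeomProp.good_normal.essFinite k S (fun k' _ _ hfin _ => h k' hfin) K

/-- Fibres of an essentially finite type base change. -/
theorem fibP_baseChange (hequiv : ∀ (R R' : Type u) [CommRing R] [CommRing R'], (R ≃+* R') → P R → P R')
    (hK : FieldStable P) {A C A' : Type u} [CommRing A] [CommRing C] [CommRing A'] [IsNoetherianRing C] [Algebra A C]
    [Algebra A A'] [Algebra.EssFiniteType A A'] (h : ∀ (p : Ideal A) [p.IsPrime], FibP P A C p)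
    (q : Ideal A') [q.IsPrime] : FibP P A' (A' ⊗[A] C) q := by
  intro L _ _ _ _ _
  let p := q.comap (algebraMap A A')
  let φ := Ideal.ResidueField.map p q (algebraMap A A') rfl
  letI : Algebra A L := ((algebraMap A' L).comp (algebraMap A A')).toAlgebra
  haveI : IsScalarTower A A' L := IsScalarTower.of_algebraMap_eq fun _ => rfl
  letI : Algebra p.ResidueField L := ((algebraMap q.ResidueField L).comp φ).toAlgebra
  haveI : IsScalarTower A p.ResidueField L := IsScalarTower.of_algebraMap_eq fun a => by
    show algebraMap A' L (algebraMap A A' a) = algebraMap q.ResidueField L (φ (algebraMap A p.ResidueField a))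
    rw [Ideal.ResidueField.map_algebraMap]
    exact IsScalarTower.algebraMap_apply A' q.ResidueField L _
  haveI : Algebra.EssFiniteType A' L := Algebra.EssFiniteType.comp A' q.ResidueField L
  haveI : Algebra.EssFiniteType A L := Algebra.EssFiniteType.comp A A' L
  haveI : Algebra.EssFiniteType p.ResidueField L := Algebra.EssFiniteType.of_comp A p.ResidueField L
  haveI : IsNoetherianRing (p.Fiber C) := FlatDepth.isNoetherianRing_tensor_essFinite A C p.ResidueField
  exact hequiv _ _ ((Algebra.TensorProduct.cancelBaseChange A p.ResidueField L L C).toRingEquiv.trans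
    (Algebra.TensorProduct.cancelBaseChange A A' L L C).symm.toRingEquiv)
    (hK p.ResidueField (p.Fiber C) ((fibP_iff hequiv A C p).mp (h p)) L)

/-- **Formal fibres of local algebras essentially of finite type.** -/
theorem formalFibres_of_essFiniteType (hP : LocProp P) (hK : FieldStable P) (A B : Type u) [CommRing A]
    [IsNoetherianRing A] [IsLocalRing A] (hA : ∀ (p : Ideal A) [p.IsPrime], FibP P A (EGA4.Cpl A) p)
    [CommRing B] [IsNoetherianRing B] [IsLocalRing B] [Algebra A B] [Algebra.EssFiniteType A B]
    (q : Ideal B) [q.IsPrime] : FibP P B (EGA4.Cpl B) q := by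
  let Ah := EGA4.Cpl A
  haveI : IsNoetherianRing Ah := AdicBasics.isNoetherianRing_completion A
  haveI : IsAdicComplete (maximalIdeal Ah) Ah :=
    (inferInstance : IsAdicComplete (maximalIdeal (AdicCompletion (maximalIdeal A) A)) (AdicCompletion (maximalIdeal A) A))
  haveI : Module.FaithfullyFlat A Ah := Module.FaithfullyFlat.of_flat_of_isLocalHom
  let T := B ⊗[A] Ah
  haveI : IsNoetherianRing T := FlatDepth.isNoetherianRing_tensor_essFinite A Ah B
  obtain ⟨w, hw⟩ := PrimeSpectrum.comap_surjective_of_faithfullyFlat (A := B) (B := T) ⟨maximalIdeal B, inferInstance⟩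
  have hw' : w.asIdeal.comap (algebraMap B T) = maximalIdeal B := congrArg PrimeSpectrum.asIdeal hw
  let Tw := Localization.AtPrime w.asIdeal
  haveI : IsNoetherianRing Tw := IsLocalization.isNoetherianRing w.asIdeal.primeCompl Tw inferInstance
  haveI : Module.Flat T Tw := IsLocalization.flat Tw w.asIdeal.primeCompl
  haveI : Module.Flat B Tw := Module.Flat.trans B T Tw
  haveI : IsLocalHom (algebraMap B Tw) := by
    refine ((IsLocalRing.local_hom_TFAE (algebraMap B Tw)).out 4 0).mp ?_
    have hcm : (maximalIdeal Tw).comap (algebraMap T Tw) = w.asIdeal :=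
      IsLocalization.AtPrime.comap_maximalIdeal Tw w.asIdeal
    rw [IsScalarTower.algebraMap_eq B T Tw, ← Ideal.comap_comap, hcm, hw']
  have hgr : CAlg.IsGRing T := by
    letI : Algebra Ah T := (Algebra.TensorProduct.includeRight (R := A) (A := B) (B := Ah)).toRingHom.toAlgebra
    haveI : Algebra.EssFiniteType Ah T := Algebra.EssFiniteType.of_surjective (R := Ah)
      ({ (Algebra.TensorProduct.comm A Ah B).toRingEquiv.toRingHom with
        commutes' := fun _ => rfl } : Ah ⊗[A] B →ₐ[Ah] T) (Algebra.TensorProduct.comm A Ah B).surjective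
    exact Easy3.isGRing_of_isLocalization (Algebra.EssFiniteType.submonoid Ah T) T
      (isGRing_of_finiteType_complete (R0 := Ah) (Algebra.EssFiniteType.subalgebra Ah T))
  haveI : IsNoetherianRing (EGA4.Cpl Tw) := AdicBasics.isNoetherianRing_completion Tw
  obtain ⟨_, h1, h2, h3⟩ := FlatDepth.formal_setup B Tw
  intro L _ _ _ _ _
  haveI : Algebra.EssFiniteType B L := Algebra.EssFiniteType.comp B q.ResidueField L
  haveI : IsNoetherianRing (L ⊗[B] T) := FlatDepth.isNoetherianRing_tensor_essFinite B T L
  have hBT : P (L ⊗[B] Tw) := tensor_localization hP (T' := Tw) w.asIdeal.primeCompl L (fibP_baseChange hP.equiv hK hA q L)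
  have hcomp : P (L ⊗[B] EGA4.Cpl Tw) := FlatDepth.comp_ascent (A := B) (B := Tw) (C := EGA4.Cpl Tw) q L P hP.equiv
    (fun R S _ _ _ _ _ _ => hP.ascent R S) hBT
    fun q' _ κ _ _ hκ => (fibP_iff hP.equiv _ _ q').mp (fibP_of_isRegularHom hP (hgr.2 w.asIdeal) q') κ hκ
  haveI : IsNoetherianRing (EGA4.Cpl B) := AdicBasics.isNoetherianRing_completion B
  exact FlatDepth.comp_descent (A := B) (B := EGA4.Cpl B) (C := EGA4.Cpl Tw) L P hP.equiv
    (fun R S _ _ _ _ _ _ => hP.descent R S) hcomp

end Groth.Agent.GRingCpl

namespace Groth.Agent.GRingCpl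

/-- All fibres of a flat map of complete local rings with good closed fibre. -/
theorem fibP_of_complete {P : ∀ (R : Type u) [CommRing R], Prop} (hP : LocProp P) {A B : Type u} [CommRing A]
    [IsLocalRing A] [IsNoetherianRing A] [IsAdicComplete (maximalIdeal A) A] [CommRing B] [IsLocalRing B]
    [IsNoetherianRing B] [IsAdicComplete (maximalIdeal B) B] [Algebra A B] [IsLocalHom (algebraMap A B)]
    [Module.Flat A B] [Module.Finite (ResidueField A) (ResidueField B)]
    (h : FibP P A B (maximalIdeal A)) (p : Ideal A) [p.IsPrime] : FibP P A B p := by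
  obtain ⟨n, hn⟩ := SerreReg.exists_dim_nat A
  have hres : ResFin A B := by
    show ((residue B).comp (algebraMap A B)).Finite
    rw [show (residue B).comp (algebraMap A B) = (algebraMap (ResidueField A) (ResidueField B)).comp (residue A) from
      RingHom.ext fun _ => rfl]
    exact (RingHom.finite_algebraMap.mpr inferInstance).comp (RingHom.Finite.of_surjective _ IsLocalRing.residue_surjective)
  exact fClaim_of_cClaim hP (cClaim_all hP n) A B (Nice.of_complete B) hres h p ((ringKrullDim_quotient_le p).trans hn.le)

end Groth.Agent.GRingCpl
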