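/-
G-rings along essentially finite type maps.
-/
import Mathlib
import Groth.Agent.S0599
import Groth.Agent.Easy3.Excellent

set_option autoImplicit false
universe u

namespace Groth.Agent.GRingCpl

/-- Essentially finite type algebras over G-rings are G-rings. -/
theorem isGRing_essFiniteType (A L : Type u) [CommRing A] [CommRing L] [Algebra A L] [Algebra.EssFiniteType A L]
    (hA : CAlg.IsGRing A) : CAlg.IsGRing L :=
  Easy3.isGRing_of_isLocalization (Algebra.EssFiniteType.submonoid A L) L
    (S0599.result A hA (Algebra.EssFiniteType.subalgebra A L))

end Groth.Agent.GRingCpl
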