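/-
Formal smoothness of the local rings of generic formal fibres over the fraction field.
-/
import Mathlib
import Groth.Agent.FlatDepth.Regular
import Groth.Agent.GeomProp.RegLocal
import Groth.Agent.S4578

set_option autoImplicit false
set_option linter.style.haveILetI false
universe u

open IsLocalRing TensorProduct

namespace Groth.Agent.GRingCpl

/-- Finite extensions of the fraction field give regular base changes of a regular map. -/
theorem regular_tensor_of_isRegularHom {R S : Type u} [CommRing R] [IsDomain R] [CommRing S] [Algebra R S]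
    (h : CAlg.IsRegularHom R S) (K : Type u) [Field K] [Algebra R K] [IsFractionRing R K]
    (k' : Type u) [Field k'] [Algebra K k'] [Algebra R k'] [IsScalarTower R K k'] [Module.Finite K k'] :
    IsRegularRing (k' ⊗[R] S) := by
  haveI : IsFractionRing R (⊥ : Ideal R).ResidueField := by
    haveI : FaithfulSMul R (⊥ : Ideal R).ResidueField :=
      (faithfulSMul_iff_algebraMap_injective _ _).mpr fun x y hxy => sub_eq_zero.mp (Ideal.mem_bot.mp
        (Ideal.algebraMap_residueField_eq_zero.mp (by rw [map_sub, hxy, sub_self])))
    refine IsFractionRing.of_field R _ fun w => ?_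
    obtain ⟨u, v, -, rfl⟩ := IsFractionRing.div_surjective (A := R ⧸ (⊥ : Ideal R)) w
    obtain ⟨u, rfl⟩ := Ideal.Quotient.mk_surjective u
    obtain ⟨v, rfl⟩ := Ideal.Quotient.mk_surjective v
    exact ⟨u, v, rfl⟩
  let e : (⊥ : Ideal R).ResidueField ≃ₐ[R] K := IsLocalization.algEquiv (nonZeroDivisors R) _ _
  letI : Algebra (⊥ : Ideal R).ResidueField k' := ((algebraMap K k').comp e.toRingEquiv.toRingHom).toAlgebra
  haveI : IsScalarTower R (⊥ : Ideal R).ResidueField k' := IsScalarTower.of_algebraMap_eq fun a => by
    show algebraMap R k' a = algebraMap K k' (e (algebraMap R _ a))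
    rw [e.commutes, ← IsScalarTower.algebraMap_apply]
  haveI : Module.Finite (⊥ : Ideal R).ResidueField k' :=
    RingHom.finite_algebraMap.mp ((RingHom.finite_algebraMap.mpr (inferInstance : Module.Finite K k')).comp
      (RingHom.Finite.of_surjective e.toRingEquiv.toRingHom e.toRingEquiv.surjective))
  obtain ⟨e'⟩ := FlatDepth.fiberTensor_equiv (A := R) (B := S) (⊥ : Ideal R) k'
  exact FlatDepth.isRegularRing_of_equiv _ _ e' ((h.2 ⊥).2 k' inferInstance)

/-- **Local rings of generic fibres of regular maps are formally smooth over the fraction field.** -/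
theorem isAdicFormallySmooth_fibre {R S : Type u} [CommRing R] [IsDomain R] [CommRing S] [IsNoetherianRing S]
    [Algebra R S] (h : CAlg.IsRegularHom R S) (K : Type u) [Field K] [Algebra R K] [IsFractionRing R K]
    (q : Ideal S) [q.IsPrime] (T : Type u) [CommRing T] [IsLocalRing T] [Algebra S T] [IsLocalization.AtPrime T q]
    [Algebra R T] [IsScalarTower R S T] [Algebra K T] [IsScalarTower R K T] :
    CAlgX.IsAdicFormallySmooth K T (maximalIdeal T) := by
  haveI : IsNoetherianRing T := IsLocalization.isNoetherianRing q.primeCompl T inferInstance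
  refine S4578.adic_iff_geomRegular.mpr fun k' _ _ hfin => ?_
  letI : Algebra R k' := ((algebraMap K k').comp (algebraMap R K)).toAlgebra
  haveI : IsScalarTower R K k' := IsScalarTower.of_algebraMap_eq fun _ => rfl
  haveI := regular_tensor_of_isRegularHom h K k'
  haveI : IsRegularRing (S ⊗[R] k') :=
    FlatDepth.isRegularRing_of_equiv _ _ (Algebra.TensorProduct.comm R k' S).toRingEquiv inferInstance
  obtain ⟨_, _, hloc⟩ := GeomProp.tensor_localization (R := R) (Λ := S) (Λ' := T) q.primeCompl k'
  have hT : IsRegularRing (T ⊗[R] k') :=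
    GeomProp.isRegularRing_of_isLocalization (Algebra.algebraMapSubmonoid (S ⊗[R] k') q.primeCompl) inferInstance
  haveI : TensorProduct.CompatibleSMul R K k' T := IsLocalization.tensorProduct_compatibleSMul (nonZeroDivisors R) K k' T
  haveI : TensorProduct.CompatibleSMul K R k' T := inferInstance
  refine FlatDepth.isRegularRing_of_equiv _ _ ?_ hT
  exact (Algebra.TensorProduct.comm R T k').toRingEquiv.trans
    (Algebra.TensorProduct.equivOfCompatibleSMul R K k' k' T).symm.toRingEquiv

end Groth.Agent.GRingCpl
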