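/-
Unibranch and geometrically unibranch completions.
-/
import Mathlib
import Groth.Agent.GRingCpl.UnibranchCpl

set_option autoImplicit false
set_option linter.style.haveILetI false
universe u

open IsLocalRing TensorProduct

attribute [local instance] Algebra.TensorProduct.rightAlgebra

namespace Groth.Agent.GRingCpl

/-- Elements of the normalisation are fractions. -/
theorem normRed_bir {A : Type u} [CommRing A] [IsDomain A] (x : CAlg2.normRed A) :
    ∃ a : A, a ≠ 0 ∧ a • x ∈ Set.range (algebraMap A (CAlg2.normRed A)) := by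
  haveI : IsDomain (CAlg2.red A) := (RingEquiv.quotientBot A).symm.trans
    (Ideal.quotEquivOfEq (nilradical_eq_zero A).symm) |>.symm.toMulEquiv.isDomain _
  obtain ⟨a, s, hs, has⟩ := IsFractionRing.div_surjective (CAlg2.red A) (x : FractionRing (CAlg2.red A))
  obtain ⟨a, rfl⟩ := Ideal.Quotient.mk_surjective a
  obtain ⟨s, rfl⟩ := Ideal.Quotient.mk_surjective s
  refine ⟨s, fun h => nonZeroDivisors.ne_zero hs (by rw [h, map_zero]), a, Subtype.ext ?_⟩
  show algebraMap (CAlg2.red A) _ (Ideal.Quotient.mk _ a) = ((s • x : CAlg2.normRed A) : FractionRing (CAlg2.red A))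
  rw [Algebra.smul_def]
  show _ = algebraMap (CAlg2.red A) _ (Ideal.Quotient.mk _ s) * (x : FractionRing (CAlg2.red A))
  rw [← has, mul_div_cancel₀]
  exact IsFractionRing.to_map_ne_zero_of_mem_nonZeroDivisors hs

section

variable (A : Type u) [CommRing A] [IsLocalRing A] [IsNoetherianRing A] [IsDomain A]
  (hA : EGA4.HasGeomNormalFormalFibres A)

include hA in
theorem normRed_facts : Module.Finite A (CAlg2.normRed A) ∧ IsIntegrallyClosed (CAlg2.normRed A) ∧
    IsDomain (CAlg2.normRed A) ∧ FaithfulSMul A (CAlg2.normRed A) := by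
  haveI : Nontrivial (CAlg2.red A) := Ideal.Quotient.nontrivial_iff.mpr (by rw [nilradical_eq_zero]; exact bot_ne_top)
  haveI : IsDomain (CAlg2.red A) := (RingEquiv.quotientBot A).symm.trans
    (Ideal.quotEquivOfEq (nilradical_eq_zero A).symm) |>.symm.toMulEquiv.isDomain _
  haveI : Module.Finite (CAlg2.red A) (CAlg2.normRed A) :=
    (S2646.result (CAlg2.red A) (S4754.result A hA (nilradical A))).2
  refine ⟨Module.Finite.trans (CAlg2.red A) _,
    integralClosure.isIntegrallyClosedOfFiniteExtension (FractionRing (CAlg2.red A)), inferInstance, ?_⟩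
  refine (faithfulSMul_iff_algebraMap_injective A (CAlg2.normRed A)).mpr ?_
  rw [IsScalarTower.algebraMap_eq A (CAlg2.red A) (CAlg2.normRed A)]
  refine (FaithfulSMul.algebraMap_injective (CAlg2.red A) (CAlg2.normRed A)).comp ?_
  rw [RingHom.injective_iff_ker_eq_bot]
  exact (Ideal.mk_ker).trans (nilradical_eq_zero A)

include hA in
/-- The completion is a domain exactly for unibranch rings. -/
theorem isDomain_cpl_iff : IsDomain (EGA4.Cpl A) ↔ CAlg2.IsUnibranch A := by
  obtain ⟨_, _, _, _⟩ := normRed_facts A hA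
  refine ⟨fun h => ⟨?_, isLocalRing_of_isDomain_cpl (A' := CAlg2.normRed A) normRed_bir⟩, fun h => ?_⟩
  · exact (RingEquiv.quotientBot A).symm.trans (Ideal.quotEquivOfEq (nilradical_eq_zero A).symm) |>.symm.toMulEquiv.isDomain _
  · haveI := h.2
    exact (isDomain_cpl_of_normalization (A' := CAlg2.normRed A) hA).2.2

end

section

variable (A : Type u) [CommRing A] [IsLocalRing A] [IsNoetherianRing A] [IsDomain A]

/-- The normalisation of the completion, and its comparison with that of `A`. -/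
theorem exists_normRed_cpl (hA : EGA4.HasGeomNormalFormalFibres A) (hu : CAlg2.IsUnibranch A) :
    ∃ j : CAlg2.normRed A →+* CAlg2.normRed (EGA4.Cpl A),
      (∀ a : A, j (algebraMap A _ a) = algebraMap A (CAlg2.normRed (EGA4.Cpl A)) a) ∧
      CAlg2.IsUnibranch (EGA4.Cpl A) ∧
      ∀ (M : Ideal (CAlg2.normRed (EGA4.Cpl A))) [M.IsMaximal],
        (M.comap j).IsMaximal ∧ ∀ y, ∃ x, y - j x ∈ M := by
  obtain ⟨_, _, _, _⟩ := normRed_facts A hA
  haveI := hu.2
  let A' := CAlg2.normRed A
  let Ah := EGA4.Cpl A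
  let T := A' ⊗[A] Ah
  obtain ⟨_, _, _⟩ := isDomain_cpl_of_normalization (A' := A') hA
  haveI : IsLocalRing T := isLocalRing_normalization_cpl
  haveI : Algebra.IsIntegral A A' := Algebra.IsIntegral.of_finite A A'
  haveI : Module.Finite Ah T := isLocalRing_normalization_cpl.finite_rightTensor A A' Ah
  haveI : Algebra.IsIntegral Ah T := Algebra.IsIntegral.of_finite _ _
  haveI : IsDomain (CAlg2.red Ah) := (RingEquiv.quotientBot Ah).symm.trans
    (Ideal.quotEquivOfEq (nilradical_eq_zero Ah).symm) |>.symm.toMulEquiv.isDomain _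
  haveI : IsDomain (CAlg2.red A) := hu.1
  let K := FractionRing (CAlg2.red A)
  let Kh := FractionRing (CAlg2.red Ah)
  let N := CAlg2.normRed Ah
  have hredinj : Function.Injective (Ideal.Quotient.mk (nilradical Ah)) := by
    rw [RingHom.injective_iff_ker_eq_bot]
    exact (Ideal.mk_ker).trans (nilradical_eq_zero Ah)
  let φ : CAlg2.red A →+* CAlg2.red Ah := Ideal.quotientMap _ (algebraMap A Ah)
    (by rw [nilradical_eq_zero, Ideal.zero_eq_bot]; exact bot_le)
  have hφ : Function.Injective φ := by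
    intro x y h
    obtain ⟨x, rfl⟩ := Ideal.Quotient.mk_surjective x
    obtain ⟨y, rfl⟩ := Ideal.Quotient.mk_surjective y
    haveI : Module.FaithfullyFlat A Ah := Module.FaithfullyFlat.of_flat_of_isLocalHom
    exact congrArg _ (FaithfulSMul.algebraMap_injective A Ah (hredinj h))
  let ψ : CAlg2.red A →+* Kh := (algebraMap (CAlg2.red Ah) Kh).comp φ
  have hψ : Function.Injective ψ := (FaithfulSMul.algebraMap_injective _ _).comp hφ
  let L : K →+* Kh := IsFractionRing.lift hψ
  have hL : ∀ r, L (algebraMap _ K r) = ψ r := IsFractionRing.lift_algebraMap hψ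
  have hint : ∀ x : A', IsIntegral (CAlg2.red Ah) (L x.1) := fun x =>
    IsIntegral.map_of_comp_eq φ L (RingHom.ext fun r => (hL r).symm) x.2
  let j : A' →+* N := RingHom.codRestrict (L.comp (integralClosure (CAlg2.red A) K).val.toRingHom) _ hint
  have hjA : ∀ a : A, j (algebraMap A A' a) = algebraMap A N a := fun a => by
    apply Subtype.ext
    show L (algebraMap (CAlg2.red A) K (Ideal.Quotient.mk _ a)) = algebraMap (CAlg2.red Ah) Kh (Ideal.Quotient.mk _ (algebraMap A Ah a))
    rw [hL]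
    rfl
  let jA : A' →ₐ[A] N := { j with commutes' := hjA }
  let σ : T →ₐ[A] N := Algebra.TensorProduct.lift jA (IsScalarTower.toAlgHom A Ah N) fun _ _ => Commute.all _ _
  have hσr : ∀ c : Ah, σ (algebraMap Ah T c) = algebraMap Ah N c := fun c => by
    show Algebra.TensorProduct.lift jA (IsScalarTower.toAlgHom A Ah N) _ ((1 : A') ⊗ₜ c) = _
    rw [Algebra.TensorProduct.lift_tmul, map_one, one_mul]
    rfl
  have hσl : ∀ x : A', σ (x ⊗ₜ 1) = j x := fun x => by
    show Algebra.TensorProduct.lift jA (IsScalarTower.toAlgHom A Ah N) _ (x ⊗ₜ (1 : Ah)) = _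
    rw [Algebra.TensorProduct.lift_tmul, map_one, mul_one]
    rfl
  have hAhN : Function.Injective (algebraMap Ah N) := by
    intro x y h
    exact hredinj ((FaithfulSMul.algebraMap_injective (CAlg2.red Ah) Kh) (congrArg Subtype.val h))
  have hσi : Function.Injective σ := by
    rw [RingHom.injective_iff_ker_eq_bot]
    show RingHom.ker σ.toRingHom = ⊥
    haveI : (RingHom.ker σ.toRingHom).IsPrime := RingHom.ker_isPrime _
    refine Ideal.eq_bot_of_comap_eq_bot (R := Ah) (S := T) ?_
    rw [eq_bot_iff]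
    intro c hc
    rw [Ideal.mem_comap, RingHom.mem_ker] at hc
    replace hc : σ (algebraMap Ah T c) = 0 := hc
    rw [hσr] at hc
    exact hAhN (by rw [hc, map_zero])
  have hσs : Function.Surjective σ := by
    intro y
    let τ : T →+* Kh := (integralClosure (CAlg2.red Ah) Kh).val.toRingHom.comp σ.toRingHom
    have hτ : Function.Injective τ := Subtype.val_injective.comp hσi
    have hτu : ∀ t : nonZeroDivisors T, IsUnit (τ t) := fun t =>
      IsUnit.mk0 _ fun h => nonZeroDivisors.ne_zero t.2 (hτ (h.trans (map_zero τ).symm))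
    let μ : FractionRing T →+* Kh := IsLocalization.lift hτu
    have hμ : ∀ t, μ (algebraMap T _ t) = τ t := IsLocalization.lift_eq hτu
    have hμc : ∀ c : Ah, μ (algebraMap Ah (FractionRing T) c) = algebraMap Ah Kh c := fun c => by
      rw [IsScalarTower.algebraMap_apply Ah T (FractionRing T), hμ]
      show (σ (algebraMap Ah T c)).1 = _
      rw [hσr]
      rfl
    let μA : FractionRing T →ₐ[Ah] Kh := { μ with commutes' := hμc }
    obtain ⟨a, s, hs, has⟩ := IsFractionRing.div_surjective (CAlg2.red Ah) (y : Kh)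
    obtain ⟨a, rfl⟩ := Ideal.Quotient.mk_surjective a
    obtain ⟨s, rfl⟩ := Ideal.Quotient.mk_surjective s
    let z : FractionRing T := algebraMap T _ (algebraMap Ah T a) / algebraMap T _ (algebraMap Ah T s)
    have hμA : ∀ c : Ah, μ (algebraMap T _ (algebraMap Ah T c)) = algebraMap (CAlg2.red Ah) Kh (Ideal.Quotient.mk _ c) :=
      fun c => by
        rw [hμ]
        show (σ (algebraMap Ah T c)).1 = _
        rw [hσr]
        rfl
    have hz : μ z = y := by
      rw [map_div₀, hμA, hμA, has]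
    haveI : Algebra.IsIntegral Ah (CAlg2.red Ah) := ⟨fun r => by
      obtain ⟨r, rfl⟩ := Ideal.Quotient.mk_surjective r
      exact isIntegral_algebraMap (R := Ah) (A := CAlg2.red Ah) (x := r)⟩
    have hyint : IsIntegral Ah (y : Kh) := isIntegral_trans (R := Ah) (A := CAlg2.red Ah) (y : Kh) y.2
    have hzint : IsIntegral Ah z := (isIntegral_algHom_iff μA μ.injective).mp (by
      show IsIntegral Ah (μ z)
      rw [hz]; exact hyint)
    obtain ⟨t, ht⟩ := IsIntegrallyClosed.isIntegral_iff.mp (hzint.tower_top (A := T))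
    refine ⟨t, Subtype.ext ?_⟩
    show τ t = (y : Kh)
    rw [← hμ, ht, hz]
  let e : T ≃+* N := RingEquiv.ofBijective σ.toRingHom ⟨hσi, hσs⟩
  refine ⟨j, hjA, ⟨inferInstance, e.isLocalRing⟩, fun (M : Ideal N) _ => ?_⟩
  haveI : (M.comap j).IsPrime := Ideal.comap_isPrime _ _
  let P : Ideal T := M.comap σ.toRingHom
  haveI : P.IsMaximal := Ideal.comap_isMaximal_of_surjective σ.toRingHom hσs
  have hmax : (M.comap j).IsMaximal := by
    refine FinComplete.isMaximal_of_map_le A A' _ ?_
    rw [Ideal.map_le_iff_le_comap, Ideal.comap_comap]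
    intro a ha
    show j (algebraMap A A' a) ∈ M
    rw [hjA, IsScalarTower.algebraMap_apply A Ah N, ← hσr]
    refine FinComplete.map_le_maximal Ah T P (Ideal.mem_map_of_mem (algebraMap Ah T) ?_)
    show algebraMap A (AdicCompletion (maximalIdeal A) A) a ∈ maximalIdeal (AdicCompletion (maximalIdeal A) A)
    rw [AdicCompletion.maximalIdeal_eq_map]
    exact Ideal.mem_map_of_mem _ ha
  refine ⟨hmax, fun y => ?_⟩
  obtain ⟨t, rfl⟩ := hσs y
  haveI := hmax
  obtain ⟨x, hx⟩ := exists_approx (M.comap j) t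
  refine ⟨x, ?_⟩
  rw [← hσl, ← map_sub]
  have hle : (M.comap j).map (algebraMap A' T) ≤ M.comap σ.toRingHom := by
    refine Ideal.map_le_iff_le_comap.mpr fun m hm => ?_
    show σ (algebraMap A' T m) ∈ M
    rw [Algebra.TensorProduct.algebraMap_apply, hσl]
    exact hm
  exact hle hx

/-- Geometric unibranchness is insensitive to completion. -/
theorem isGeomUnibranch_cpl_iff (hA : EGA4.HasGeomNormalFormalFibres A) :
    CAlg2.IsGeomUnibranch (EGA4.Cpl A) ↔ CAlg2.IsGeomUnibranch A := by
  haveI : Module.FaithfullyFlat A (EGA4.Cpl A) := Module.FaithfullyFlat.of_flat_of_isLocalHom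
  -- reduced completion
  haveI hred : IsReduced (EGA4.Cpl A) := (S2646.result A hA).1
  have hdom : CAlg2.IsUnibranch (EGA4.Cpl A) → CAlg2.IsUnibranch A := fun h => (isDomain_cpl_iff A hA).mp (by
    haveI := h.1
    exact ((Ideal.quotEquivOfEq (nilradical_eq_zero (EGA4.Cpl A))).trans
      (RingEquiv.quotientBot (EGA4.Cpl A))).symm.toMulEquiv.isDomain _)
  have key : ∀ hu : CAlg2.IsUnibranch A, CAlg2.IsGeomUnibranch (EGA4.Cpl A) ↔ CAlg2.IsGeomUnibranch A := by
    intro hu
    obtain ⟨j, hj, hub, hM⟩ := exists_normRed_cpl A hA hu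
    haveI := hu.2
    haveI : IsLocalRing (CAlg2.normRed (EGA4.Cpl A)) := hub.2
    have cmp : ∀ (M : Ideal (CAlg2.normRed (EGA4.Cpl A))) [M.IsMaximal],
        ∃ ρ : CAlg2.normRed A ⧸ M.comap j →+* CAlg2.normRed (EGA4.Cpl A) ⧸ M, Function.Bijective ρ ∧
          (∀ a : A, ρ (Ideal.Quotient.mk _ (algebraMap A _ a)) =
            Ideal.Quotient.mk M (algebraMap (EGA4.Cpl A) _ (algebraMap A (EGA4.Cpl A) a))) ∧
          ringExpChar (CAlg2.normRed (EGA4.Cpl A) ⧸ M) = ringExpChar (CAlg2.normRed A ⧸ M.comap j) := by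
      intro M _
      haveI := (hM M).1
      letI := Ideal.Quotient.field (M.comap j)
      letI := Ideal.Quotient.field M
      let ρ := Ideal.quotientMap M j le_rfl
      refine ⟨ρ, ⟨ρ.injective, fun y => ?_⟩, fun a => ?_, ?_⟩
      · obtain ⟨y, rfl⟩ := Ideal.Quotient.mk_surjective y
        obtain ⟨x, hx⟩ := (hM M).2 y
        exact ⟨Ideal.Quotient.mk _ x, (Ideal.Quotient.eq.mpr hx).symm⟩
      · show Ideal.Quotient.mk M (j _) = _
        rw [hj, ← IsScalarTower.algebraMap_apply]
      · obtain ⟨p, hp⟩ := ExpChar.exists (CAlg2.normRed A ⧸ M.comap j)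
        haveI := hp
        haveI := expChar_of_injective_ringHom ρ.injective p
        rw [ringExpChar.eq (CAlg2.normRed A ⧸ M.comap j) p, ringExpChar.eq (CAlg2.normRed (EGA4.Cpl A) ⧸ M) p]
    constructor
    · rintro ⟨-, h⟩
      refine ⟨hu, fun m hm x => ?_⟩
      let M := maximalIdeal (CAlg2.normRed (EGA4.Cpl A))
      obtain rfl : M.comap j = m :=
        (IsLocalRing.eq_maximalIdeal (hM M).1).trans (IsLocalRing.eq_maximalIdeal hm).symm
      obtain ⟨ρ, hρ, hρA, hchar⟩ := cmp M
      obtain ⟨n, c, hc⟩ := h M (ρ x)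
      obtain ⟨a, ha⟩ := Cohen.exists_sub_mem_pow c 1
      rw [pow_one] at ha
      refine ⟨n, a, hρ.1 ?_⟩
      rw [map_pow, ← hchar, ← hc]
      show ρ (Ideal.Quotient.mk _ (algebraMap A _ a)) = Ideal.Quotient.mk M (algebraMap (EGA4.Cpl A) _ c)
      rw [hρA, Ideal.Quotient.eq, ← map_sub, ← Ideal.neg_mem_iff, ← map_neg, neg_sub]
      haveI : Algebra.IsIntegral (EGA4.Cpl A) (CAlg2.normRed (EGA4.Cpl A)) := ⟨fun y => by
        haveI : Algebra.IsIntegral (EGA4.Cpl A) (CAlg2.red (EGA4.Cpl A)) := ⟨fun r => by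
          obtain ⟨r, rfl⟩ := Ideal.Quotient.mk_surjective r
          exact isIntegral_algebraMap (R := EGA4.Cpl A) (A := CAlg2.red (EGA4.Cpl A)) (x := r)⟩
        exact isIntegral_trans (A := CAlg2.red (EGA4.Cpl A)) y
          (IsIntegralClosure.isIntegral (CAlg2.red (EGA4.Cpl A)) (FractionRing (CAlg2.red (EGA4.Cpl A))) y)⟩
      exact FinComplete.map_le_maximal (EGA4.Cpl A) _ M (Ideal.mem_map_of_mem _ ha)
    · rintro ⟨-, h⟩
      refine ⟨hub, fun M hMm x => ?_⟩
      obtain ⟨ρ, hρ, hρA, hchar⟩ := cmp M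
      obtain ⟨w, rfl⟩ := hρ.2 x
      haveI := (hM M).1
      obtain ⟨n, a, ha⟩ := h (M.comap j) w
      refine ⟨n, algebraMap A (EGA4.Cpl A) a, ?_⟩
      rw [hchar, ← map_pow ρ, ← ha]
      exact (hρA a).symm
  exact ⟨fun h => (key (hdom h.1)).mp h, fun h => (key h.1).mpr h⟩

end

end Groth.Agent.GRingCpl
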