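/-
Formal equidimensionality of quotients of analytically irreducible rings.
-/
import Mathlib
import Groth.Agent.GRingCpl.UnibranchGeom
import Groth.Agent.Cohen.Ratliff
import Groth.Agent.Hensel.Branches

set_option autoImplicit false
set_option linter.style.haveILetI false
universe u

open IsLocalRing

namespace Groth.Agent.GRingCpl

/-- Quotients by primes of a ring with domain completion are formally equidimensional. -/
theorem isFormallyEquidim_of_surjective {A B : Type u} [CommRing A] [IsLocalRing A] [IsNoetherianRing A]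
    [IsDomain (EGA4.Cpl A)] [CommRing B] [IsLocalRing B] [IsNoetherianRing B] [IsDomain B] (f : A →+* B)
    (hf : Function.Surjective f) : EGA4.IsFormallyEquidim B := by
  let D := EGA4.Cpl A
  haveI : IsNoetherianRing D := AdicBasics.isNoetherianRing_completion A
  haveI : IsAdicComplete (maximalIdeal D) D :=
    (inferInstance : IsAdicComplete (maximalIdeal (AdicCompletion (maximalIdeal A) A)) (AdicCompletion (maximalIdeal A) A))
  haveI : Module.Flat A D := AdicCompletion.flat_of_isNoetherian _
  have hcat := Catenary.isCatenary_of_isUniversallyCatenary (Cohen.isUniversallyCatenary_of_complete D)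
  obtain ⟨e⟩ := Cohen.exists_quotient_equiv f hf
  let q := RingHom.ker f
  haveI : q.IsPrime := RingHom.ker_isPrime f
  let C := AdicCompletion (maximalIdeal B) B
  let ψ : D →+* C := e.toRingHom.comp (Ideal.Quotient.mk _)
  have hψ : Function.Surjective ψ := e.surjective.comp Ideal.Quotient.mk_surjective
  have hψk : RingHom.ker ψ = q.map (algebraMap A D) := by
    show RingHom.ker (e.toRingHom.comp _) = _
    rw [RingHom.ker_comp_of_injective _ e.injective, Ideal.mk_ker]
  refine Cohen.isEquidim_of_const (((maximalIdeal D).height - q.height : ℕ∞) : WithBot ℕ∞) fun Q hQ => ?_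
  haveI := hQ.1.1
  let P := Q.comap ψ
  haveI : P.IsPrime := Ideal.comap_isPrime ψ Q
  have hP : P ∈ (q.map (algebraMap A D)).minimalPrimes := by
    rw [← hψk, RingHom.ker_eq_comap_bot, Ideal.comap_minimalPrimes_eq_of_surjective hψ]
    exact ⟨Q, hQ, rfl⟩
  have hPq : P.comap (algebraMap A D) = q := by
    refine le_antisymm ?_ (Ideal.map_le_iff_le_comap.mp hP.1.2)
    obtain ⟨P', hle, hP', hP'o⟩ := P.exists_ideal_le_liesOver_of_le (p := q) (q := P.comap (algebraMap A D))
      (Ideal.map_le_iff_le_comap.mp hP.1.2)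
    exact (Ideal.comap_mono (hP.2 ⟨hP', Ideal.map_le_iff_le_comap.mpr hP'o.over.le⟩ hle)).trans hP'o.over.ge
  haveI : P.LiesOver q := ⟨hPq.symm⟩
  have h0 : (P.map (Ideal.Quotient.mk (q.map (algebraMap A D)))).height = 0 := by
    haveI : (P.map (Ideal.Quotient.mk (q.map (algebraMap A D)))).IsPrime :=
      Ideal.map_isPrime_of_surjective Ideal.Quotient.mk_surjective (Ideal.mk_ker.le.trans hP.1.2)
    rw [Ideal.height_eq_zero_iff]
    refine ⟨⟨inferInstance, bot_le⟩, fun P2 hP2 hle => ?_⟩
    haveI := hP2.1
    refine Ideal.map_le_iff_le_comap.mpr (hP.2 ⟨Ideal.comap_isPrime _ P2, ?_⟩ ((Ideal.comap_mono hle).trans ?_))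
    · exact Ideal.mk_ker.ge.trans (Ideal.comap_mono bot_le)
    · rw [Ideal.comap_map_of_surjective _ Ideal.Quotient.mk_surjective, ← RingHom.ker_eq_comap_bot, Ideal.mk_ker]
      exact sup_le le_rfl hP.1.2
  have hht : P.height = q.height := by
    rw [Ideal.height_eq_height_add_of_liesOver_of_hasGoingDown q P, h0, add_zero]
  have hsum := Catenary.height_quotient_add hcat P (maximalIdeal D) (IsLocalRing.le_maximalIdeal (Ideal.IsPrime.ne_top ‹_›))
  have e1 : C ⧸ Q ≃+* D ⧸ P := ((Ideal.quotEquivOfEq (show P = RingHom.ker ((Ideal.Quotient.mk Q).comp ψ) by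
      rw [← RingHom.comap_ker, Ideal.mk_ker])).trans
      (RingHom.quotientKerEquivOfSurjective (Ideal.Quotient.mk_surjective.comp hψ))).symm
  haveI : Nontrivial (D ⧸ P) := Ideal.Quotient.nontrivial_iff.mpr (Ideal.IsPrime.ne_top ‹_›)
  rw [ringKrullDim_eq_of_ringEquiv e1, ← IsLocalRing.maximalIdeal_height_eq_ringKrullDim]
  have hmax : maximalIdeal (D ⧸ P) = (maximalIdeal D).map (Ideal.Quotient.mk P) :=
    (IsLocalRing.map_maximalIdeal_of_surjective _ Ideal.Quotient.mk_surjective).symm
  rw [hmax]
  congr 1
  rw [hht] at hsum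
  exact (ENat.addLECancellable_of_ne_top (Ideal.height_ne_top (Ideal.IsPrime.ne_top ‹q.IsPrime›))).eq_tsub_of_add_eq hsum

/-- A unibranch local ring with geometrically normal formal fibres is universally catenary. -/
theorem isUniversallyCatenary_of_isUnibranch (A : Type u) [CommRing A] [IsLocalRing A] [IsNoetherianRing A]
    (hA : EGA4.HasGeomNormalFormalFibres A) (hu : CAlg2.IsUnibranch A) : CAlg.IsUniversallyCatenary A := by
  haveI : IsDomain (CAlg2.red A) := hu.1
  haveI : IsLocalRing (CAlg2.normRed A) := hu.2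
  haveI : Nontrivial (CAlg2.red A) := inferInstance
  have hA0 := S4754.result A hA (nilradical A)
  haveI : Module.Finite (CAlg2.red A) (CAlg2.normRed A) := (S2646.result (CAlg2.red A) hA0).2
  haveI : IsIntegrallyClosed (CAlg2.normRed A) :=
    integralClosure.isIntegrallyClosedOfFiniteExtension (FractionRing (CAlg2.red A))
  haveI : IsDomain (EGA4.Cpl (CAlg2.red A)) := (isDomain_cpl_of_normalization (A' := CAlg2.normRed A) hA0).2.2
  refine Cohen.isUniversallyCatenary_of_formallyCatenary fun p _ => ?_
  haveI : Nontrivial (A ⧸ p) := Ideal.Quotient.nontrivial_iff.mpr (Ideal.IsPrime.ne_top inferInstance)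
  exact isFormallyEquidim_of_surjective (Ideal.Quotient.factor (nilradical_le_prime p))
    (Ideal.Quotient.factor_surjective _)

/-- A henselian local domain with geometrically normal formal fibres is analytically irreducible. -/
theorem isDomain_cpl_of_henselian (A : Type u) [CommRing A] [IsNoetherianRing A] [HenselianLocalRing A] [IsDomain A]
    (hA : EGA4.HasGeomNormalFormalFibres A) : IsDomain (EGA4.Cpl A) := by
  obtain ⟨_, _, _, _⟩ := normRed_facts A hA
  haveI : Algebra.IsIntegral A (CAlg2.normRed A) := Algebra.IsIntegral.of_finite A _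
  haveI : IsLocalRing (CAlg2.normRed A) := Hensel.isLocalRing_of_integral_domain A (CAlg2.normRed A)
  exact (isDomain_cpl_of_normalization (A' := CAlg2.normRed A) hA).2.2

end Groth.Agent.GRingCpl
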