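/-
Branches of the completion of local rings with geometrically normal formal fibres.
-/
import Mathlib
import Groth.Agent.GRingCpl.UnibranchCat
import Groth.Agent.GRingCpl.HenselNormal
import Groth.Agent.GRingCpl.FormalCat
import Groth.Agent.Hensel.BranchDimOneGeom
import Groth.Agent.Hensel.BranchFlat

set_option autoImplicit false
set_option linter.style.haveILetI false
universe u

open IsLocalRing
open Groth.Agent.Hensel

namespace Groth.Agent.GRingCpl

/-- Henselian local rings with geometrically normal formal fibres and their completions have the same minimal primes. -/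
theorem card_minimalPrimes_completion_of_geomNormal (S : Type u) [CommRing S] [HenselianLocalRing S] [IsNoetherianRing S]
    (hS : EGA4.HasGeomNormalFormalFibres S) :
    ENat.card (minimalPrimes (AdicCompletion (maximalIdeal S) S)) = ENat.card (minimalPrimes S) := by
  let D := AdicCompletion (maximalIdeal S) S
  haveI : IsNoetherianRing D := AdicBasics.isNoetherianRing_completion S
  haveI : Module.FaithfullyFlat S D := Module.FaithfullyFlat.of_flat_of_isLocalHom
  refine ((card_eq_iff_injOn (S := S) (B := D)).mpr (injOn_iff_radical_isPrime.mpr fun q hq => ?_)).symm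
  haveI := hq.1.1
  haveI : Nontrivial (S ⧸ q) := Ideal.Quotient.nontrivial_iff.mpr (Ideal.IsPrime.ne_top inferInstance)
  haveI : IsLocalRing (S ⧸ q) := IsLocalRing.of_surjective' (Ideal.Quotient.mk q) Ideal.Quotient.mk_surjective
  haveI : HenselianLocalRing (S ⧸ q) := henselianLocalRing_finite S (S ⧸ q)
  haveI := isDomain_cpl_of_henselian (S ⧸ q) (S4754.result S hS q)
  obtain ⟨e⟩ := Cohen.exists_quotient_equiv (Ideal.Quotient.mk q) Ideal.Quotient.mk_surjective
  rw [Ideal.mk_ker] at e
  haveI hp : (Ideal.map (algebraMap S D) q).IsPrime := (Ideal.Quotient.isDomain_iff_prime _).mp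
    (e.toMulEquiv.isDomain (AdicCompletion (maximalIdeal (S ⧸ q)) (S ⧸ q)))
  rw [hp.radical]
  exact hp

/-- Isomorphic rings have the same number of minimal primes. -/
theorem card_minimalPrimes_congr {A B : Type u} [CommRing A] [CommRing B] (e : A ≃+* B) :
    ENat.card (minimalPrimes B) = ENat.card (minimalPrimes A) := by
  have hmem : ∀ {C D : Type u} [CommRing C] [CommRing D] (g : C ≃+* D) (P : Ideal D), P ∈ minimalPrimes D →
      P.comap g.toRingHom ∈ minimalPrimes C := fun {C D} _ _ g P hP => by
    haveI := hP.1.1
    refine ⟨⟨Ideal.comap_isPrime _ _, bot_le⟩, fun Q hQ hle => ?_⟩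
    haveI := hQ.1
    have h1 : P ≤ Q.comap g.symm.toRingHom := hP.2 ⟨Ideal.comap_isPrime _ _, bot_le⟩ fun x hx => by
      have := hle (show g.symm x ∈ Q from hx)
      rw [Ideal.mem_comap] at this
      simpa using this
    intro x hx
    have := h1 hx
    simpa using this
  refine ENat.card_congr ⟨fun P => ⟨_, hmem e P.1 P.2⟩, fun P => ⟨_, hmem e.symm P.1 P.2⟩, fun P => ?_, fun P => ?_⟩
  · refine Subtype.ext (Ideal.ext fun x => ?_)
    show e (e.symm x) ∈ P.1 ↔ x ∈ P.1
    rw [RingEquiv.apply_symm_apply]
  · refine Subtype.ext (Ideal.ext fun x => ?_)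
    show e.symm (e x) ∈ P.1 ↔ x ∈ P.1
    rw [RingEquiv.symm_apply_apply]

/-- The branches of the completion. -/
theorem numBranches_completion_of_geomNormal (A S : Type u) [CommRing A] [IsLocalRing A] [IsNoetherianRing A]
    [CommRing S] [IsLocalRing S] [Algebra A S] [IsLocalHom (algebraMap A S)] [_root_.Hensel.IsHenselization A S]
    (hA : EGA4.HasGeomNormalFormalFibres A) :
    Brnch.numBranches (AdicCompletion (maximalIdeal A) A) = Brnch.numBranches A := by
  haveI : IsNoetherianRing S := (henselization_isNoetherianRing_iff A S).1 inferInstance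
  haveI := henselization_flat A S
  haveI : HenselianLocalRing S := _root_.Hensel.IsHenselization.henselian (R := A)
  have hm := henselization_map_maximalIdeal A S
  have hS := hasGeomNormalFormalFibres_of_etaleStages hm (henselization_unramifiedFibres A S)
    (henselization_hasEtaleStages A S) hA
  obtain ⟨_, h1, h2, h3⟩ := FlatDepth.formal_setup A S
  let e : EGA4.Cpl A ≃+* EGA4.Cpl S := RingEquiv.ofBijective (algebraMap (EGA4.Cpl A) (EGA4.Cpl S))
    ⟨FaithfulSMul.algebraMap_injective _ _, cpl_map_surjective hm (henselization_exists_sub_mem A S)⟩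
  rw [numBranches_completion, ← card_minimalPrimes_henselization (A := A) (S := S),
    ← card_minimalPrimes_completion_of_geomNormal S hS]
  exact (card_minimalPrimes_congr e).symm

set_option maxHeartbeats 400000 in
/-- The geometric branches along an unramified residually trivial map. -/
theorem geom_aux_normal {A B : Type u} [CommRing A] [CommRing B] [IsLocalRing A] [IsLocalRing B] [IsNoetherianRing A]
    [IsNoetherianRing B] (f : A →+* B) [IsLocalHom f] (hf : f.Flat)
    (hm : (maximalIdeal A).map f = maximalIdeal B) (hres : Function.Surjective (ResidueField.map f))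
    (hA : EGA4.HasGeomNormalFormalFibres A)
    (S T : Type u) [CommRing S] [IsLocalRing S] [CommRing T] [IsLocalRing T] [Algebra A S] [Algebra B T]
    [IsLocalHom (algebraMap A S)] [IsLocalHom (algebraMap B T)] [_root_.Hensel.IsStrictHenselization A S]
    [_root_.Hensel.IsStrictHenselization B T] :
    Brnch.numGeomBranches B = Brnch.numGeomBranches A := by
  haveI := strictHenselization_flat A S
  refine le_antisymm ?_ (numGeomBranches_le_of_flat f hf)
  haveI : HenselianLocalRing S := _root_.Hensel.IsStrictHenselization.henselian (R := A)
  haveI : HenselianLocalRing T := _root_.Hensel.IsStrictHenselization.henselian (R := B)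
  haveI : IsSepClosure (ResidueField A) (ResidueField S) := _root_.Hensel.IsStrictHenselization.isSepClosure
  haveI : IsSepClosure (ResidueField B) (ResidueField T) := _root_.Hensel.IsStrictHenselization.isSepClosure
  haveI : IsSepClosed (ResidueField T) := IsSepClosure.sep_closed (ResidueField B)
  haveI : IsSepClosed (ResidueField S) := IsSepClosure.sep_closed (ResidueField A)
  haveI : Algebra.IsSeparable (ResidueField A) (ResidueField S) := IsSepClosure.separable
  haveI : Algebra.IsSeparable (ResidueField B) (ResidueField T) := IsSepClosure.separable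
  haveI : IsNoetherianRing S := (strictHenselization_isNoetherianRing_iff A S).1 inferInstance
  haveI : IsNoetherianRing T := (strictHenselization_isNoetherianRing_iff B T).1 inferInstance
  let f' : A →+* T := (algebraMap B T).comp f
  haveI hloc : IsLocalHom f' := RingHom.isLocalHom_comp _ _
  letI := (ResidueField.map f').toAlgebra
  let τ₀ : ResidueField S →ₐ[ResidueField A] ResidueField T := IsSepClosed.lift
  have hτ : τ₀.toRingHom.comp (ResidueField.map (algebraMap A S)) = ResidueField.map f' :=
    RingHom.ext τ₀.commutes
  obtain ⟨g, ⟨hg, hgr⟩, -⟩ :=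
    _root_.Hensel.IsStrictHenselization.universal (R := A) (S := S) T f' τ₀.toRingHom hτ
  have hflat : g.Flat := by
    refine flat_of_strictHenselization (A := A) g ?_
    rw [hg]
    exact hf.comp (RingHom.flat_algebraMap_iff.2 (strictHenselization_flat B T))
  haveI : IsLocalHom g := ⟨fun x hx => by
    by_contra h
    refine ((residue_ne_zero_iff_isUnit (g x)).2 hx) ?_
    rw [hgr, (residue_eq_zero_iff x).2 h, map_zero]⟩
  have hgm : (maximalIdeal S).map g = maximalIdeal T := by
    rw [← strictHenselization_map_maximalIdeal A S, Ideal.map_map, hg, ← Ideal.map_map, hm,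
      strictHenselization_map_maximalIdeal B T]
  -- residue fields
  have hsepT : Algebra.IsSeparable (ResidueField A) (ResidueField T) := by
    refine Algebra.IsSeparable.of_equiv_equiv (A₁ := ResidueField B) (B₁ := ResidueField T)
      (RingEquiv.ofBijective (ResidueField.map f) ⟨RingHom.injective _, hres⟩).symm (RingEquiv.refl _) ?_
    refine RingHom.ext fun x => ?_
    obtain ⟨y, rfl⟩ := hres x
    obtain ⟨a, rfl⟩ := residue_surjective y
    show algebraMap (ResidueField A) (ResidueField T)
      ((RingEquiv.ofBijective (ResidueField.map f) ⟨RingHom.injective _, hres⟩).symm (ResidueField.map f (residue A a))) = _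
    rw [show (RingEquiv.ofBijective (ResidueField.map f) ⟨RingHom.injective _, hres⟩).symm
      (ResidueField.map f (residue A a)) = residue A a from (RingEquiv.symm_apply_eq _).2 rfl]
    rfl
  letI := τ₀.toRingHom.toAlgebra
  haveI : IsScalarTower (ResidueField A) (ResidueField S) (ResidueField T) :=
    IsScalarTower.of_algebraMap_eq fun x => (τ₀.commutes x).symm
  haveI : Algebra.IsSeparable (ResidueField S) (ResidueField T) :=
    Algebra.isSeparable_tower_top_of_isSeparable (ResidueField A) (ResidueField S) (ResidueField T)
  have hτs : Function.Surjective τ₀ := IsSepClosed.algebraMap_surjective (ResidueField S) (ResidueField T)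
  algebraize [g]
  haveI hff := Module.FaithfullyFlat.of_flat_of_isLocalHom (A := S) (B := T)
  have hpow : PowBij (maximalIdeal S) T := by
    refine ⟨fun n a ha => ?_, exists_sub_mem_pow _ _ fun t => ?_⟩
    · rw [← Ideal.map_pow, ← Ideal.mem_comap] at ha
      rwa [Ideal.comap_map_eq_self_of_faithfullyFlat] at ha
    · obtain ⟨y, hy⟩ := hτs (residue T t)
      obtain ⟨s, rfl⟩ := residue_surjective y
      refine ⟨s, ?_⟩
      rw [show algebraMap S T = g from rfl, hgm, ← residue_eq_zero_iff, map_sub, hgr, sub_eq_zero]
      exact hy.symm
  have hlocC : IsLocalHom hpow.toCompletion := ⟨fun t ht => by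
    by_contra h
    have h1 : t ∈ maximalIdeal T := h
    have h2 : AdicCompletion.evalₐ (maximalIdeal S) 1 (hpow.toCompletion t) = 0 := by
      rw [hpow.evalₐ_toCompletion (a := 0) (by
        rw [map_zero, sub_zero, pow_one, show algebraMap S T = g from rfl, hgm]; exact h1), map_zero]
    have h3 := (ht.map (AdicCompletion.evalₐ (maximalIdeal S) 1))
    rw [h2, isUnit_zero_iff, eq_comm, ← map_one (Ideal.Quotient.mk _), Ideal.Quotient.eq_zero_iff_mem, pow_one] at h3
    exact (maximalIdeal.isMaximal S).ne_top ((Ideal.eq_top_iff_one _).2 h3)⟩
  haveI : IsNoetherianRing (AdicCompletion (maximalIdeal S) S) :=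
    Groth.Agent.ResExt.isNoetherianRing_adicCompletion _ (IsNoetherian.noetherian _)
  have hle : ENat.card (minimalPrimes T) ≤ ENat.card (minimalPrimes (AdicCompletion (maximalIdeal S) S)) := by
    letI := hpow.toCompletion.toAlgebra
    haveI : Module.Flat T (AdicCompletion (maximalIdeal S) S) := hpow.flat
    haveI : IsLocalHom (algebraMap T (AdicCompletion (maximalIdeal S) S)) := hlocC
    haveI := Module.FaithfullyFlat.of_flat_of_isLocalHom (A := T) (B := AdicCompletion (maximalIdeal S) S)
    exact card_minimalPrimes_le
  rw [card_minimalPrimes_completion_of_geomNormal S (hasGeomNormalFormalFibres_of_etaleStages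
    (strictHenselization_map_maximalIdeal A S) (strictHenselization_unramifiedFibres A S)
    (strictHenselization_hasEtaleStages A S) hA)] at hle
  rwa [← card_minimalPrimes_strictHenselization (A := A) (S := S),
    ← card_minimalPrimes_strictHenselization (A := B) (S := T)]

/-- The geometric branches of the completion. -/
theorem numGeomBranches_completion_of_geomNormal (A : Type u) [CommRing A] [IsLocalRing A] [IsNoetherianRing A]
    (hA : EGA4.HasGeomNormalFormalFibres A) :
    Brnch.numGeomBranches (AdicCompletion (maximalIdeal A) A) = Brnch.numGeomBranches A := by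
  haveI : IsNoetherianRing (AdicCompletion (maximalIdeal A) A) := AdicBasics.isNoetherianRing_completion A
  obtain ⟨_, hA'⟩ := exists_strictHenselization A
  obtain ⟨_, hB'⟩ := exists_strictHenselization (AdicCompletion (maximalIdeal A) A)
  haveI := henselian_env A (SeparableClosure (ResidueField A))
  haveI := henselian_env (AdicCompletion (maximalIdeal A) A) (SeparableClosure (ResidueField (AdicCompletion (maximalIdeal A) A)))
  exact geom_aux_normal (algebraMap A (AdicCompletion (maximalIdeal A) A))
    (RingHom.flat_algebraMap_iff.2 (AdicCompletion.flat_of_isNoetherian _))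
    AdicCompletion.maximalIdeal_eq_map.symm
    (AdicCompletion.residueField_map_bijective_of_fg (maximalIdeal A).fg_of_isNoetherianRing).2 hA
    (Env A (SeparableClosure (ResidueField A)))
    (Env (AdicCompletion (maximalIdeal A) A) (SeparableClosure (ResidueField (AdicCompletion (maximalIdeal A) A))))

end Groth.Agent.GRingCpl
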