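/-
G-rings along maps with étale stages.
-/
import Mathlib
import Groth.Agent.GRingCpl.HenselG
import Groth.Agent.IndEtLib.Basic

set_option autoImplicit false
set_option linter.style.haveILetI false
universe u

open IsLocalRing TensorProduct
open Groth.Agent.Hensel (UnramifiedFibres HasEtaleStages)

namespace Groth.Agent.GRingCpl

/-- Étale stages give unramified fibres. -/
theorem unramifiedFibres_of_hasEtaleStages {R S : Type u} [CommRing R] [CommRing S] [Algebra R S]
    (hS : HasEtaleStages R S) : UnramifiedFibres R S := fun P hP z hz => by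
  obtain ⟨E, _, _, _, φ, x, t, ht, hzt⟩ := hS z
  haveI : (P.comap φ.toRingHom).IsPrime := Ideal.comap_isPrime _ _
  have hx : x ∈ P.comap φ.toRingHom := by
    show φ x ∈ P
    rw [← hzt]
    exact P.mul_mem_right _ hz
  obtain ⟨s, hs, hsx⟩ := Hensel.exists_mul_mem_map_of_etale (R := R) (P.comap φ.toRingHom) hx
  refine ⟨φ s, hs, ?_⟩
  have h2 := Ideal.mem_map_of_mem φ.toRingHom hsx
  rw [Ideal.map_map, Ideal.comap_comap, show φ.toRingHom.comp (algebraMap R E) = algebraMap R S from
    RingHom.ext φ.commutes, show φ.toRingHom (s * x) = φ s * z * φ t by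
      show φ (s * x) = _
      rw [map_mul, ← hzt, mul_assoc], Ideal.mul_unit_mem_iff_mem _ ht] at h2
  exact h2

/-- Ind-étale algebras have étale stages. -/
theorem hasEtaleStages_of_isIndEtale {A B : Type u} [CommRing A] [CommRing B] [Algebra A B]
    (h : EtPBC.IsIndEtale A B) : HasEtaleStages A B := fun z => by
  obtain ⟨Sy⟩ := IndEtLib.exists_system h
  obtain ⟨S, -, hS⟩ := Sy.surj {z}
  obtain ⟨x, hx⟩ := hS z (Finset.mem_singleton_self z)
  exact ⟨S.E, S.commRing, S.algebra, S.etale, S.φ, x, 1, by rw [map_one]; exact isUnit_one,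
    by rw [map_one, mul_one, hx]⟩

/-- Étale stages of localisations. -/
theorem hasEtaleStages_atPrime {A B : Type u} [CommRing A] [CommRing B] [Algebra A B] (hS : HasEtaleStages A B)
    (M : Ideal B) [M.IsPrime] (p : Ideal A) [p.IsPrime] [Algebra (Localization.AtPrime p) (Localization.AtPrime M)]
    [IsScalarTower A (Localization.AtPrime p) (Localization.AtPrime M)] :
    HasEtaleStages (Localization.AtPrime p) (Localization.AtPrime M) := fun z => by
  obtain ⟨⟨b, c⟩, hz⟩ := IsLocalization.surj M.primeCompl z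
  obtain ⟨E1, _, _, _, φ1, x1, t1, ht1, h1⟩ := hS b
  obtain ⟨E2, _, _, _, φ2, x2, t2, ht2, h2⟩ := hS c.1
  let Ap := Localization.AtPrime p
  let BM := Localization.AtPrime M
  let φ12 : E1 ⊗[A] E2 →ₐ[A] BM := (IsScalarTower.toAlgHom A B BM).comp
    (Algebra.TensorProduct.lift φ1 φ2 fun _ _ => Commute.all _ _)
  let E := Ap ⊗[A] (E1 ⊗[A] E2)
  haveI : Algebra.Etale A (E1 ⊗[A] E2) := Algebra.Etale.comp A E1 (E1 ⊗[A] E2)
  let φ : E →ₐ[Ap] BM := Algebra.TensorProduct.lift (Algebra.ofId Ap BM) φ12 fun _ _ => Commute.all _ _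
  have hφ : ∀ a b, φ ((1 : Ap) ⊗ₜ (a ⊗ₜ b)) = algebraMap B BM (φ1 a * φ2 b) := fun a b => by
    show Algebra.TensorProduct.lift (Algebra.ofId Ap BM) φ12 _ ((1 : Ap) ⊗ₜ (a ⊗ₜ b)) = _
    rw [Algebra.TensorProduct.lift_tmul, map_one, one_mul]
    rfl
  -- `z = (x1 / t1) / (x2 / t2)`
  refine ⟨E, inferInstance, inferInstance, inferInstance, φ, (1 : Ap) ⊗ₜ (x1 ⊗ₜ t2), (1 : Ap) ⊗ₜ (t1 ⊗ₜ x2), ?_, ?_⟩
  · rw [hφ, ← h2, ← mul_assoc, map_mul, map_mul]
    exact ((ht1.map _).mul (IsLocalization.map_units BM c)).mul (ht2.map _)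
  · rw [hφ, hφ, ← h1, ← h2, map_mul, map_mul, map_mul, map_mul]
    rw [← hz]
    ring

/-- G-rings ascend along flat maps with étale stages and Noetherian target. -/
theorem isGRing_of_hasEtaleStages {A B : Type u} [CommRing A] [CommRing B] [Algebra A B] [IsNoetherianRing B]
    [Module.Flat A B] (hS : HasEtaleStages A B) (hA : CAlg.IsGRing A) : CAlg.IsGRing B := by
  haveI := hA.1
  refine ⟨inferInstance, fun M _ => ?_⟩
  let p := M.comap (algebraMap A B)
  letI := (Localization.localRingHom p M (algebraMap A B) rfl).toAlgebra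
  haveI : IsScalarTower A (Localization.AtPrime p) (Localization.AtPrime M) :=
    IsScalarTower.of_algebraMap_eq fun r => by
      rw [RingHom.algebraMap_toAlgebra, Localization.localRingHom_to_map, ← IsScalarTower.algebraMap_apply]
  haveI : IsLocalHom (algebraMap (Localization.AtPrime p) (Localization.AtPrime M)) :=
    Localization.isLocalHom_localRingHom _ _ _ _
  haveI : Module.Flat A (Localization.AtPrime M) := Module.Flat.trans A B _
  haveI : Module.Flat (Localization.AtPrime p) (Localization.AtPrime M) :=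
    (Module.flat_iff_of_isLocalization (Localization.AtPrime p) p.primeCompl _).2 inferInstance
  have hS' := hasEtaleStages_atPrime hS M p
  have hU := unramifiedFibres_of_hasEtaleStages hS'
  refine isRegularHom_cpl_of_etaleStages ?_ hU hS' (hA.2 p)
  refine le_antisymm (((IsLocalRing.local_hom_TFAE _).out 0 2).mp ‹_›) fun z hz => ?_
  obtain ⟨s, hs, hsz⟩ := hU (maximalIdeal (Localization.AtPrime M)) inferInstance z hz
  rw [IsLocalRing.maximalIdeal_comap] at hsz
  exact (Ideal.unit_mul_mem_iff_mem _ (IsLocalRing.notMem_maximalIdeal.mp hs)).mp hsz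

end Groth.Agent.GRingCpl
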