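/-
G-rings through the formal fibres of finite free algebras.
-/
import Mathlib
import Groth.Agent.GRingCpl.Complete
import Groth.Agent.EGA41Quot.SepVar

set_option autoImplicit false
set_option linter.style.haveILetI false
universe u

open IsLocalRing TensorProduct

namespace Groth.Agent.GRingCpl

/-- A formal fibre seen from the fraction field of the quotient. -/
theorem regular_tensor_of_fibres {S : Type u} [CommRing S] (q : Ideal S) [q.IsPrime] (L : Type u) [Field L]
    [Algebra S L] (hle : RingHom.ker (algebraMap S L) ≤ q)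
    (hgen : ∀ z : L, ∃ a b : S, z = algebraMap S L a / algebraMap S L b)
    (h : ∀ (p : Ideal (Localization.AtPrime q)) [p.IsPrime],
      IsRegularRing (p.Fiber (AdicCompletion (maximalIdeal (Localization.AtPrime q)) (Localization.AtPrime q)))) :
    IsRegularRing (L ⊗[S] AdicCompletion (maximalIdeal (Localization.AtPrime q)) (Localization.AtPrime q)) := by
  let Sq := Localization.AtPrime q
  let Ah := AdicCompletion (maximalIdeal Sq) Sq
  have hu : ∀ s : q.primeCompl, IsUnit (algebraMap S L s) := fun s =>
    IsUnit.mk0 _ fun h0 => s.2 (hle h0)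
  letI : Algebra Sq L := (IsLocalization.lift (S := Sq) hu).toAlgebra
  haveI : IsScalarTower S Sq L := IsScalarTower.of_algebraMap_eq fun a => (IsLocalization.lift_eq hu a).symm
  let p := RingHom.ker (algebraMap Sq L)
  haveI : p.IsPrime := RingHom.ker_isPrime _
  haveI := h p
  let π : p.ResidueField →ₐ[Sq] L := Ideal.ResidueField.liftₐ p (Algebra.ofId Sq L) le_rfl fun s hs =>
    IsUnit.mk0 _ fun h0 => hs h0
  have hπ : Function.Bijective π := by
    refine ⟨π.toRingHom.injective, fun z => ?_⟩
    obtain ⟨a, b, rfl⟩ := hgen z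
    refine ⟨algebraMap Sq p.ResidueField (algebraMap S Sq a) / algebraMap Sq p.ResidueField (algebraMap S Sq b), ?_⟩
    rw [map_div₀, π.commutes, π.commutes, ← IsScalarTower.algebraMap_apply, ← IsScalarTower.algebraMap_apply]
  haveI : IsRegularRing (L ⊗[Sq] Ah) := IsRegularRing.of_ringEquiv (R := p.ResidueField ⊗[Sq] Ah)
    (Algebra.TensorProduct.congr (AlgEquiv.ofBijective π hπ) AlgEquiv.refl).toRingEquiv
  haveI : TensorProduct.CompatibleSMul S Sq L Ah := IsLocalization.tensorProduct_compatibleSMul q.primeCompl Sq L Ah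
  exact IsRegularRing.of_ringEquiv (R := L ⊗[Sq] Ah)
    (Algebra.TensorProduct.equivOfCompatibleSMul S Sq L L Ah).toRingEquiv

/-- **G-rings through the formal fibres of finite free algebras.** -/
theorem isGRing_of_finite_free {R : Type u} [CommRing R] [IsNoetherianRing R]
    (h : ∀ (S : Type u) [CommRing S] [Algebra R S] [Module.Finite R S] [Module.Free R S]
      (q : Ideal S) [q.IsPrime] (p : Ideal (Localization.AtPrime q)) [p.IsPrime],
      IsRegularRing (p.Fiber (AdicCompletion (maximalIdeal (Localization.AtPrime q)) (Localization.AtPrime q)))) :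
    CAlg.IsGRing R := by
  classical
  refine isGRing_of_genericRegular fun C _ _ _ hfin n _ Bn _ _ _ _ q _ hq => ?_
  haveI := hfin
  haveI : Nontrivial R := (algebraMap R C).domain_nontrivial
  obtain ⟨s, hs⟩ := (inferInstance : Module.Finite R C)
  let v : Fin s.card → C := fun i => s.equivFin.symm i
  choose f hf hfv using fun i => (Algebra.IsIntegral.isIntegral (R := R) (v i))
  obtain ⟨S, _, _, hfree, hSfin, -, x, -, -, huniv⟩ := EGA41Quot.exists_root_algebra f hf
  obtain ⟨φ, hφ⟩ := huniv C v fun i => hfv i
  letI : Algebra S C := φ.toRingHom.toAlgebra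
  haveI : IsScalarTower R S C := IsScalarTower.of_algebraMap_eq fun r => (φ.commutes r).symm
  have hsurj : Function.Surjective (algebraMap S C) := by
    intro c
    have hc : c ∈ Submodule.span R (s : Set C) := hs ▸ Submodule.mem_top
    induction hc using Submodule.span_induction with
    | mem z hz => exact ⟨x (s.equivFin ⟨z, hz⟩), (hφ _).trans (by simp [v])⟩
    | zero => exact ⟨0, map_zero _⟩
    | add a b _ _ ha hb =>
      obtain ⟨a', rfl⟩ := ha
      obtain ⟨b', rfl⟩ := hb
      exact ⟨a' + b', map_add _ _ _⟩
    | smul r a _ ha =>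
      obtain ⟨a', rfl⟩ := ha
      exact ⟨r • a', φ.toLinearMap.map_smul r a'⟩
  haveI : IsNoetherianRing S := IsNoetherianRing.of_finite R S
  haveI : Module.Finite S C := Module.Finite.of_surjective (Algebra.linearMap S C) hsurj
  refine regular_of_tensor (B := S) n Bn (FractionRing C)
    (regular_tensor_of_fibres (n.comap (algebraMap S C)) (FractionRing C) ?_ ?_ fun p _ => h S _ p) q hq
  · intro z hz
    rw [RingHom.mem_ker, IsScalarTower.algebraMap_apply S C (FractionRing C),
      map_eq_zero_iff _ (IsFractionRing.injective C (FractionRing C))] at hz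
    show algebraMap S C z ∈ n
    rw [hz]
    exact zero_mem _
  · intro z
    obtain ⟨a, b, -, rfl⟩ := IsFractionRing.div_surjective (A := C) z
    obtain ⟨a, rfl⟩ := hsurj a
    obtain ⟨b, rfl⟩ := hsurj b
    exact ⟨a, b, by rw [← IsScalarTower.algebraMap_apply, ← IsScalarTower.algebraMap_apply]⟩

end Groth.Agent.GRingCpl
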