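/-
G-rings through the generic formal fibres of the local rings of the quotient domains.
-/
import Mathlib
import Groth.Agent.GRingCpl.Complete
import Groth.Agent.GRingCpl.Excellent
import Groth.Agent.GRingCpl.Dedekind

set_option autoImplicit false
set_option linter.style.haveILetI false
universe u

open IsLocalRing TensorProduct

namespace Groth.Agent.GRingCpl

/-- Finite extensions of the fraction field see geometric regularity of the generic formal fibre. -/
theorem regular_tensor_of_generic {D : Type u} [CommRing D] [IsDomain D] (P : Ideal D) [P.IsPrime]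
    [IsDomain (Localization.AtPrime P)]
    (h : CAlg.IsGeometricallyRegular (⊥ : Ideal (Localization.AtPrime P)).ResidueField
      ((⊥ : Ideal (Localization.AtPrime P)).Fiber
        (AdicCompletion (maximalIdeal (Localization.AtPrime P)) (Localization.AtPrime P))))
    (L : Type u) [Field L] [Algebra D L] (hinj : Function.Injective (algebraMap D L))
    (hfin : ∀ (K : Type u) [Field K] [Algebra D K] [IsFractionRing D K] [Algebra K L] [IsScalarTower D K L],
      Module.Finite K L) :
    IsRegularRing (L ⊗[D] AdicCompletion (maximalIdeal (Localization.AtPrime P)) (Localization.AtPrime P)) := by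
  let Dp := Localization.AtPrime P
  let K := (⊥ : Ideal Dp).ResidueField
  haveI := isFractionRing_residueField_bot Dp
  have hu : ∀ s : P.primeCompl, IsUnit (algebraMap D L s) := fun s =>
    (IsUnit.mk0 _ ((map_ne_zero_iff _ hinj).mpr fun h0 => s.2 (h0 ▸ P.zero_mem)))
  letI : Algebra Dp L := (IsLocalization.lift (S := Dp) hu).toAlgebra
  haveI : IsScalarTower D Dp L := IsScalarTower.of_algebraMap_eq fun a => (IsLocalization.lift_eq hu a).symm
  have hinj' : Function.Injective (algebraMap Dp L) := by
    rw [injective_iff_map_eq_zero]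
    intro z hz
    obtain ⟨a, t, rfl⟩ := IsLocalization.exists_mk'_eq P.primeCompl z
    have h0 : algebraMap D L a = 0 := by
      rw [IsScalarTower.algebraMap_apply D Dp L, ← IsLocalization.mk'_spec Dp a t, map_mul, hz, zero_mul]
    rw [(map_eq_zero_iff _ hinj).mp h0, IsLocalization.mk'_zero]
  letI : Algebra K L := (IsFractionRing.lift hinj').toAlgebra
  haveI : IsScalarTower Dp K L := IsScalarTower.of_algebraMap_eq fun a => (IsFractionRing.lift_algebraMap hinj' a).symm
  haveI : IsScalarTower D K L := IsScalarTower.of_algebraMap_eq fun a => by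
    rw [IsScalarTower.algebraMap_apply D Dp L, IsScalarTower.algebraMap_apply Dp K L, ← IsScalarTower.algebraMap_apply D Dp K]
  haveI : FaithfulSMul D K := (faithfulSMul_iff_algebraMap_injective _ _).mpr (by
    rw [IsScalarTower.algebraMap_eq D Dp K]
    exact (IsFractionRing.injective Dp K).comp (IsLocalization.injective Dp P.primeCompl_le_nonZeroDivisors))
  haveI : IsFractionRing D K := IsFractionRing.of_field D K fun z => by
    obtain ⟨u, v, hv, rfl⟩ := IsFractionRing.div_surjective (A := Dp) z
    obtain ⟨a, s, rfl⟩ := IsLocalization.exists_mk'_eq P.primeCompl u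
    obtain ⟨b, t, rfl⟩ := IsLocalization.exists_mk'_eq P.primeCompl v
    have key : ∀ (x : D) (y : P.primeCompl), algebraMap Dp K (IsLocalization.mk' Dp x y) =
        algebraMap D K x / algebraMap D K y := fun x y => by
      rw [eq_div_iff ((map_ne_zero_iff _ (FaithfulSMul.algebraMap_injective D K)).mpr fun (h0 : (y : D) = 0) =>
          y.2 (by rw [h0]; exact P.zero_mem)),
        IsScalarTower.algebraMap_apply D Dp K, IsScalarTower.algebraMap_apply D Dp K, ← map_mul, IsLocalization.mk'_spec]
    refine ⟨a * t, b * s, ?_⟩
    rw [key, key, div_div_div_eq, map_mul, map_mul, mul_comm (algebraMap D K (b : D))]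
  haveI := hfin K
  let Ah := AdicCompletion (maximalIdeal Dp) Dp
  obtain ⟨e'⟩ := FlatDepth.fiberTensor_equiv (A := Dp) (B := Ah) (⊥ : Ideal Dp) L
  haveI : IsRegularRing (L ⊗[Dp] Ah) := FlatDepth.isRegularRing_of_equiv _ _ e' (h L inferInstance)
  haveI : TensorProduct.CompatibleSMul D Dp L Ah := IsLocalization.tensorProduct_compatibleSMul P.primeCompl Dp L Ah
  exact IsRegularRing.of_ringEquiv (R := L ⊗[Dp] Ah)
    (Algebra.TensorProduct.equivOfCompatibleSMul D Dp L L Ah).toRingEquiv

/-- **G-rings through generic formal fibres.** -/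
theorem isGRing_of_generic {R : Type u} [CommRing R] [IsNoetherianRing R]
    (h : ∀ (q : Ideal R) [q.IsPrime] (P : Ideal (R ⧸ q)) [P.IsPrime],
      CAlg.IsGeometricallyRegular (⊥ : Ideal (Localization.AtPrime P)).ResidueField
        ((⊥ : Ideal (Localization.AtPrime P)).Fiber
          (AdicCompletion (maximalIdeal (Localization.AtPrime P)) (Localization.AtPrime P)))) :
    CAlg.IsGRing R := by
  refine isGRing_of_genericRegular fun C _ _ _ hfin n _ Bn _ _ _ _ q _ hq => ?_
  haveI := hfin
  let I := RingHom.ker (algebraMap R C)
  haveI : I.IsPrime := RingHom.ker_isPrime _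
  letI : Algebra (R ⧸ I) C := (RingHom.kerLift (algebraMap R C)).toAlgebra
  haveI : IsScalarTower R (R ⧸ I) C := IsScalarTower.of_algebraMap_eq fun _ => rfl
  haveI : Module.Finite (R ⧸ I) C := Module.Finite.of_restrictScalars_finite R (R ⧸ I) C
  let P := n.comap (algebraMap (R ⧸ I) C)
  haveI : IsDomain (Localization.AtPrime P) := IsLocalization.isDomain_localization P.primeCompl_le_nonZeroDivisors
  refine regular_of_tensor (B := R ⧸ I) n Bn (FractionRing C)
    (regular_tensor_of_generic P (h I P) (FractionRing C) ?_ ?_) q hq
  · rw [IsScalarTower.algebraMap_eq (R ⧸ I) C (FractionRing C)]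
    exact (IsFractionRing.injective C (FractionRing C)).comp (RingHom.kerLift_injective (algebraMap R C))
  · intro K _ _ _ _ _
    exact finite_fractionField (A := R ⧸ I) (C := C) K (FractionRing C)

end Groth.Agent.GRingCpl
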