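/-
Geometric integrality of the formal fibres of henselian local rings with geometrically normal formal fibres.
-/
import Mathlib
import Groth.Agent.GRingCpl.UnibranchCat
import Groth.Agent.GeomConn.Basic
import Groth.Agent.Nagata.GeomRed
import Groth.Agent.Hensel.Local
import Groth.Agent.FlatDepth.Quot

set_option autoImplicit false
set_option linter.style.haveILetI false
universe u

open IsLocalRing TensorProduct

namespace Groth.Agent.GRingCpl

/-- Normal finite domains over a quotient stay domains after completion. -/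
theorem isDomain_tensor_cpl_of_normal (A : Type u) [CommRing A] [IsNoetherianRing A] [HenselianLocalRing A]
    (hA : EGA4.HasGeomNormalFormalFibres A) (p : Ideal A) [p.IsPrime] (A' : Type u) [CommRing A'] [IsDomain A']
    [IsIntegrallyClosed A'] [Algebra A A'] [Algebra (A ⧸ p) A'] [IsScalarTower A (A ⧸ p) A']
    [Module.Finite (A ⧸ p) A'] [FaithfulSMul (A ⧸ p) A'] : IsDomain (A' ⊗[A] EGA4.Cpl A) := by
  haveI : Nontrivial (A ⧸ p) := Ideal.Quotient.nontrivial_iff.mpr (Ideal.IsPrime.ne_top inferInstance)
  haveI : IsLocalRing (A ⧸ p) := IsLocalRing.of_surjective' (Ideal.Quotient.mk p) Ideal.Quotient.mk_surjective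
  haveI : HenselianLocalRing (A ⧸ p) := Hensel.henselianLocalRing_finite A (A ⧸ p)
  haveI : Algebra.IsIntegral (A ⧸ p) A' := Algebra.IsIntegral.of_finite _ _
  haveI : IsLocalRing A' := Hensel.isLocalRing_of_integral_domain (A ⧸ p) A'
  obtain ⟨hd, -, -⟩ := isDomain_cpl_of_normalization (A' := A') (S4754.result A hA p)
  obtain ⟨e⟩ := FlatDepth.tensor_quot_equiv A p A'
  exact e.symm.toMulEquiv.isDomain (A' ⊗[A ⧸ p] EGA4.Cpl (A ⧸ p))

/-- Enlarging a domain by fractions keeps the base change a domain. -/
theorem isDomain_tensor_of_denominators {A A' L M : Type u} [CommRing A] [CommRing A'] [Algebra A A'] [Field L]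
    [Algebra A L] [CommRing M] [Algebra A M] [Module.Flat A M] (i : A' →ₐ[A] L) (hi : Function.Injective i)
    [IsDomain (A' ⊗[A] M)] (h : ∀ x : L, ∃ a : A, IsUnit (algebraMap A L a) ∧ ∃ w, i w = a • x) :
    IsDomain (L ⊗[A] M) := by
  let m : A' ⊗[A] M →ₐ[A] L ⊗[A] M := Algebra.TensorProduct.map i (AlgHom.id A M)
  have hm : Function.Injective m := Module.Flat.rTensor_preserves_injective_linearMap i.toLinearMap hi
  have hfr : ∀ z : L ⊗[A] M, ∃ a : A, IsUnit (algebraMap A L a) ∧ ∃ w, m w = a • z := fun z => by
    induction z using TensorProduct.induction_on with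
    | zero => exact ⟨1, by simp, 0, by simp⟩
    | add x y hx hy =>
      obtain ⟨a, ha, u, hu⟩ := hx
      obtain ⟨b, hb, v, hv⟩ := hy
      refine ⟨a * b, by rw [map_mul]; exact ha.mul hb, b • u + a • v, ?_⟩
      rw [map_add, map_smul, map_smul, hu, hv, smul_add, smul_smul, smul_smul, mul_comm b a]
    | tmul x c =>
      obtain ⟨a, ha, w, hw⟩ := h x
      refine ⟨a, ha, w ⊗ₜ c, ?_⟩
      rw [TensorProduct.smul_tmul', ← hw]
      rfl
  haveI : Nontrivial (L ⊗[A] M) := hm.nontrivial
  have hu0 : ∀ (a : A) (z : L ⊗[A] M), IsUnit (algebraMap A L a) → a • z = 0 → z = 0 := fun a z ha h => by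
    have h' : algebraMap A (L ⊗[A] M) a * z = 0 := (Algebra.smul_def a z).symm.trans h
    rw [Algebra.TensorProduct.algebraMap_apply] at h'
    exact ((ha.map (Algebra.TensorProduct.includeLeftRingHom : L →+* L ⊗[A] M)).mul_right_eq_zero).mp h'
  haveI : NoZeroDivisors (L ⊗[A] M) := ⟨fun {x y} hxy => by
    obtain ⟨a, ha, u, hu⟩ := hfr x
    obtain ⟨b, hb, v, hv⟩ := hfr y
    have h0 : m (u * v) = 0 := by rw [map_mul, hu, hv, smul_mul_smul_comm, hxy, smul_zero]
    rcases mul_eq_zero.mp ((map_eq_zero_iff m hm).mp h0) with h | h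
    · exact Or.inl (hu0 a x ha (by rw [← hu, h, map_zero]))
    · exact Or.inr (hu0 b y hb (by rw [← hv, h, map_zero]))⟩
  exact NoZeroDivisors.to_isDomain _

/-- Base change of the completion to a finite extension of a residue field is a domain. -/
theorem isDomain_tensor_cpl_of_finite (A : Type u) [CommRing A] [IsNoetherianRing A] [HenselianLocalRing A]
    (hA : EGA4.HasGeomNormalFormalFibres A) (p : Ideal A) [p.IsPrime] (L : Type u) [Field L] [Algebra A L]
    [Algebra p.ResidueField L] [IsScalarTower A p.ResidueField L] [Module.Finite p.ResidueField L] :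
    IsDomain (L ⊗[A] EGA4.Cpl A) := by
  letI : Algebra (A ⧸ p) L := ((algebraMap p.ResidueField L).comp (algebraMap (A ⧸ p) p.ResidueField)).toAlgebra
  haveI : IsScalarTower (A ⧸ p) p.ResidueField L := IsScalarTower.of_algebraMap_eq fun _ => rfl
  haveI : IsScalarTower A (A ⧸ p) L := IsScalarTower.of_algebraMap_eq fun a => by
    rw [IsScalarTower.algebraMap_apply A p.ResidueField L, IsScalarTower.algebraMap_apply (A ⧸ p) p.ResidueField L,
      ← IsScalarTower.algebraMap_apply A (A ⧸ p) p.ResidueField]
  haveI : FaithfulSMul (A ⧸ p) L := (faithfulSMul_iff_algebraMap_injective _ _).mpr (by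
    rw [IsScalarTower.algebraMap_eq (A ⧸ p) p.ResidueField L]
    exact (algebraMap p.ResidueField L).injective.comp (IsFractionRing.injective (A ⧸ p) p.ResidueField))
  haveI : Algebra.EssFiniteType A L := Algebra.EssFiniteType.comp A p.ResidueField L
  haveI : Module.Finite A (integralClosure A L) := Nagata.finite_closure_of_isReduced_tensor L
    (Nagata.isReduced_completion_tensor (Nagata.hasGeomReducedFormalFibres_of_normal hA) p L)
  haveI : Algebra.IsIntegral A (A ⧸ p) := Algebra.IsIntegral.of_finite A (A ⧸ p)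
  let A' := integralClosure (A ⧸ p) L
  let f : integralClosure A L →ₗ[A] A' :=
    { toFun := fun z => ⟨z, (z.2 : IsIntegral A (z : L)).tower_top⟩
      map_add' := fun _ _ => rfl
      map_smul' := fun _ _ => rfl }
  haveI : Module.Finite A A' :=
    Module.Finite.of_surjective f fun z => ⟨⟨z, isIntegral_trans (A := A ⧸ p) (z : L) z.2⟩, rfl⟩
  haveI : Module.Finite (A ⧸ p) A' := Module.Finite.of_restrictScalars_finite A (A ⧸ p) _
  haveI : IsIntegrallyClosed A' := integralClosure.isIntegrallyClosedOfFiniteExtension p.ResidueField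
  haveI : FaithfulSMul (A ⧸ p) A' := (faithfulSMul_iff_algebraMap_injective _ _).mpr fun x y h =>
    FaithfulSMul.algebraMap_injective (A ⧸ p) L (congrArg Subtype.val h)
  haveI := isDomain_tensor_cpl_of_normal A hA p A'
  haveI : Module.Flat A (EGA4.Cpl A) := AdicCompletion.flat_of_isNoetherian _
  refine isDomain_tensor_of_denominators ((integralClosure (A ⧸ p) L).val.restrictScalars A)
    Subtype.val_injective fun x => ?_
  haveI : Algebra.IsAlgebraic (A ⧸ p) L :=
    ⟨fun z => (IsFractionRing.isAlgebraic_iff (A ⧸ p) p.ResidueField L).mpr (Algebra.IsAlgebraic.isAlgebraic z)⟩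
  obtain ⟨y, hy, hint⟩ := (Algebra.IsAlgebraic.isAlgebraic (R := A ⧸ p) x).exists_integral_multiple
  obtain ⟨a, rfl⟩ := Ideal.Quotient.mk_surjective y
  have hu : IsUnit (algebraMap A L a) := by
    refine IsUnit.mk0 _ fun h => hy (FaithfulSMul.algebraMap_injective (A ⧸ p) L ?_)
    rw [map_zero, ← h]
    exact (IsScalarTower.algebraMap_apply A (A ⧸ p) L a).symm
  refine ⟨a, hu, ⟨_, hint⟩, ?_⟩
  show (Ideal.Quotient.mk p a) • x = a • x
  rw [Algebra.smul_def, Algebra.smul_def, IsScalarTower.algebraMap_apply A (A ⧸ p) L]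
  rfl

/-- Domain base changes to finite extensions give domain base changes to all extensions. -/
theorem isDomain_tensor_field_of_finite {k F : Type u} [Field k] [CommRing F] [Algebra k F]
    (h : ∀ (L : Type u) [Field L] [Algebra k L], Module.Finite k L → IsDomain (L ⊗[k] F))
    (K : Type u) [Field K] [Algebra k K] : IsDomain (K ⊗[k] F) := by
  let Ω := AlgebraicClosure k
  haveI : IsDomain (F ⊗[k] Ω) := by
    haveI : Nontrivial F := by
      haveI := (h k (Module.Finite.self k))
      exact (Algebra.TensorProduct.lid k F).toEquiv.nontrivial_congr.mp inferInstance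
    haveI : Nontrivial (F ⊗[k] Ω) := TensorProduct.nontrivial_of_linearMap_injective_of_flat_left k F Ω
      (Algebra.linearMap k Ω) (algebraMap k Ω).injective
    haveI : NoZeroDivisors (F ⊗[k] Ω) := ⟨fun {x y} hxy => by
      obtain ⟨C₁, hC₁, z₁, hz₁⟩ := exists_fg_and_mem_baseChange x
      obtain ⟨C₂, hC₂, z₂, hz₂⟩ := exists_fg_and_mem_baseChange y
      let D := C₁ ⊔ C₂
      haveI : Algebra.FiniteType k D := (Subalgebra.fg_iff_finiteType D).1 (hC₁.sup hC₂)
      haveI : Algebra.IsIntegral k D := Algebra.IsIntegral.of_injective D.val Subtype.val_injective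
      haveI : Module.Finite k D := Algebra.IsIntegral.finite
      letI : Field D := (isField_of_isIntegral_of_isField' (R := k) (S := D) (Field.toIsField k)).toField
      haveI : IsDomain (↥D ⊗[k] F) := h D inferInstance
      haveI : IsDomain (F ⊗[k] ↥D) := (Algebra.TensorProduct.comm k F ↥D).toMulEquiv.isDomain_iff.2 ‹_›
      let m := Algebra.TensorProduct.map (AlgHom.id F F) D.val
      have hm : Function.Injective m :=
        Module.Flat.lTensor_preserves_injective_linearMap _ Subtype.val_injective
      have key : ∀ (C : Subalgebra k Ω) (h : C ≤ D) z,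
          Algebra.TensorProduct.map (AlgHom.id F F) C.val z =
            m (Algebra.TensorProduct.map (AlgHom.id F F) (Subalgebra.inclusion h) z) := by
        intro C h z
        induction z with
        | zero => simp
        | tmul a b => simp [m]
        | add a b ha hb => simp [map_add, ha, hb]
      have e1 := (key C₁ le_sup_left z₁).symm.trans hz₁
      have e2 := (key C₂ le_sup_right z₂).symm.trans hz₂
      rw [← e1, ← e2, ← map_mul, map_eq_zero_iff m hm] at hxy
      rcases mul_eq_zero.1 hxy with h | h
      · exact Or.inl (by rw [← e1, h, map_zero])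
      · exact Or.inr (by rw [← e2, h, map_zero])⟩
    exact NoZeroDivisors.to_isDomain _
  haveI : IsDomain (Ω ⊗[k] F) := (Algebra.TensorProduct.comm k Ω F).toMulEquiv.isDomain_iff.2 ‹_›
  let Ω' := AlgebraicClosure K
  letI : Algebra Ω Ω' := (IsAlgClosed.lift : Ω →ₐ[k] Ω').toRingHom.toAlgebra
  haveI : IsScalarTower k Ω Ω' := IsScalarTower.of_algebraMap_eq fun c =>
    ((IsAlgClosed.lift : Ω →ₐ[k] Ω').commutes c).symm
  let D := Ω ⊗[k] F
  let Q := FractionRing D
  haveI : IsDomain (Ω' ⊗[Ω] Q) := GeomConn.isDomain_tensor (k := Ω) Q Ω'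
  haveI : IsDomain (Ω' ⊗[Ω] D) :=
    Function.Injective.isDomain (Algebra.TensorProduct.map (AlgHom.id Ω Ω') (IsScalarTower.toAlgHom Ω D Q))
      (Module.Flat.lTensor_preserves_injective_linearMap (M := Ω') (IsScalarTower.toAlgHom Ω D Q).toLinearMap
        (IsFractionRing.injective D Q))
  haveI : IsDomain (Ω' ⊗[k] F) :=
    (Algebra.TensorProduct.cancelBaseChange k Ω Ω' Ω' F).symm.toMulEquiv.isDomain _
  exact Function.Injective.isDomain (Algebra.TensorProduct.map (IsScalarTower.toAlgHom k K Ω') (AlgHom.id k F))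
    (Module.Flat.rTensor_preserves_injective_linearMap (M := F) (IsScalarTower.toAlgHom k K Ω').toLinearMap
      (algebraMap K Ω').injective)

/-- Formal fibres of a henselian local ring with geometrically normal formal fibres are geometrically integral. -/
theorem isDomain_tensor_formalFibre (A : Type u) [CommRing A] [IsNoetherianRing A] [HenselianLocalRing A]
    (hA : EGA4.HasGeomNormalFormalFibres A) (p : Ideal A) [p.IsPrime]
    (K : Type u) [Field K] [Algebra p.ResidueField K] : IsDomain (K ⊗[p.ResidueField] EGA4.formalFibre A p) := by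
  refine isDomain_tensor_field_of_finite (fun L _ _ hL => ?_) K
  letI : Algebra A L := ((algebraMap p.ResidueField L).comp (algebraMap A p.ResidueField)).toAlgebra
  haveI : IsScalarTower A p.ResidueField L := IsScalarTower.of_algebraMap_eq fun _ => rfl
  haveI := hL
  haveI := isDomain_tensor_cpl_of_finite A hA p L
  exact (Algebra.TensorProduct.cancelBaseChange A p.ResidueField L L (EGA4.Cpl A)).toMulEquiv.isDomain _

end Groth.Agent.GRingCpl
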