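/-
Mori's theorem: the height-one valuations of a stable finite birational stage cut out the integral closure.
-/
import Mathlib
import Groth.Agent.InvGen.NormalDvd
import Groth.Agent.Hensel.Branches

set_option autoImplicit false
set_option linter.style.haveILetI false
universe u

open TensorProduct Polynomial
open scoped nonZeroDivisors

namespace Groth.Agent.GRingCpl

/-- The localisation of a normal Noetherian domain at a minimal prime over a nonzero element. -/
theorem isDVR_atPrime_of_minimal {D : Type u} [CommRing D] [IsDomain D] [IsNoetherianRing D] [IsIntegrallyClosed D]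
    {a : D} (ha : a ≠ 0) (P : Ideal D) [P.IsPrime] (hP : P ∈ (Ideal.span {a}).minimalPrimes) :
    IsDiscreteValuationRing (Localization.AtPrime P) := by
  let O := Localization.AtPrime P
  haveI : IsIntegrallyClosed O := isIntegrallyClosed_of_isLocalization O P.primeCompl P.primeCompl_le_nonZeroDivisors
  have hP1 : P.height ≤ 1 := Ideal.height_le_one_of_isPrincipal_of_mem_minimalPrimes _ _ hP
  have hPne : P ≠ ⊥ := fun h => ha (by
    have h1 := hP.1.2 (Ideal.mem_span_singleton_self a)
    rwa [h, Submodule.mem_bot] at h1)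
  have hmne : IsLocalRing.maximalIdeal O ≠ ⊥ := fun h => hPne (by
    rw [← IsLocalization.AtPrime.comap_maximalIdeal O P, h,
      Ideal.under_def, Ideal.comap_bot_of_injective _ (IsLocalization.injective O P.primeCompl_le_nonZeroDivisors)])
  have hnf : ¬ IsField O := fun h => hmne (IsLocalRing.isField_iff_maximalIdeal_eq.1 h)
  refine ((IsDiscreteValuationRing.TFAE O hnf).out 0 3).mpr ?_
  refine ⟨inferInstance, IsLocalRing.maximalIdeal O, ⟨hmne, inferInstance⟩, ?_⟩
  rintro Q ⟨hQ0, hQ⟩
  by_contra hne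
  have hlt : Q.under D < P := by
    refine lt_of_le_of_ne ?_ fun h => hne ?_
    · conv_rhs => rw [← IsLocalization.AtPrime.comap_maximalIdeal O P]
      exact Ideal.comap_mono (IsLocalRing.le_maximalIdeal hQ.ne_top)
    · rw [← IsLocalization.map_under P.primeCompl (S := O) Q, h, Localization.AtPrime.map_eq_maximalIdeal]
  haveI := hQ
  have h0 : (Q.under D).height < 1 := (Ideal.height_strict_mono_of_isPrime hlt).trans_le hP1
  rw [Order.lt_one_iff, Ideal.height_eq_zero_iff, IsDomain.minimalPrimes_eq_singleton_bot, Set.mem_singleton_iff] at h0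
  exact hQ0 (by rw [← IsLocalization.map_under P.primeCompl (S := O) Q, h0, Ideal.map_bot])

/-- The order at a prime. -/
noncomputable def ordAt {D : Type u} [CommRing D] [IsDomain D] (P : Ideal D) [P.IsPrime]
    [IsDiscreteValuationRing (Localization.AtPrime P)] (y : D) : ℕ :=
  (IsDiscreteValuationRing.addVal (Localization.AtPrime P) (algebraMap D (Localization.AtPrime P) y)).toNat

section ord

variable {D : Type u} [CommRing D] [IsDomain D] (P : Ideal D) [P.IsPrime] [IsDiscreteValuationRing (Localization.AtPrime P)]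

theorem addVal_eq_ordAt {y : D} (hy : y ≠ 0) :
    IsDiscreteValuationRing.addVal _ (algebraMap D (Localization.AtPrime P) y) = (ordAt P y : ℕ∞) :=
  (ENat.natCast_toNat fun h => hy <| (map_eq_zero_iff (algebraMap D (Localization.AtPrime P))
    (IsLocalization.injective _ P.primeCompl_le_nonZeroDivisors)).1 (IsDiscreteValuationRing.addVal_eq_top_iff.1 h)).symm

theorem ordAt_mul {y z : D} (hy : y ≠ 0) (hz : z ≠ 0) : ordAt P (y * z) = ordAt P y + ordAt P z := by
  have h1 := addVal_eq_ordAt P (mul_ne_zero hy hz)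
  rw [map_mul, IsDiscreteValuationRing.addVal_mul, addVal_eq_ordAt P hy, addVal_eq_ordAt P hz] at h1
  exact_mod_cast h1.symm

theorem ordAt_pow {y : D} (n : ℕ) (hy : y ≠ 0) : ordAt P (y ^ n) = n * ordAt P y := by
  have h1 := addVal_eq_ordAt P (pow_ne_zero n hy)
  rw [map_pow, IsDiscreteValuationRing.addVal_pow, addVal_eq_ordAt P hy, nsmul_eq_mul] at h1
  exact_mod_cast h1.symm

theorem ordAt_eq_zero_iff {y : D} (hy : y ≠ 0) : ordAt P y = 0 ↔ y ∉ P := by
  rw [← ENat.natCast_inj, ← addVal_eq_ordAt P hy, Nat.cast_zero, IsDiscreteValuationRing.addVal_eq_zero_iff,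
    IsLocalization.AtPrime.isUnit_to_map_iff (Localization.AtPrime P) P y]
  rfl

theorem exists_dvd_mul_of_ordAt_le {y z : D} (hy : y ≠ 0) (hz : z ≠ 0) (h : ordAt P y ≤ ordAt P z) :
    ∃ s ∉ P, y ∣ s * z := by
  have h1 : IsDiscreteValuationRing.addVal _ (algebraMap D (Localization.AtPrime P) y) ≤
      IsDiscreteValuationRing.addVal _ (algebraMap D (Localization.AtPrime P) z) := by
    rw [addVal_eq_ordAt P hy, addVal_eq_ordAt P hz]
    exact_mod_cast h
  obtain ⟨t, ht⟩ := IsDiscreteValuationRing.addVal_le_iff_dvd.1 h1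
  obtain ⟨⟨d, s⟩, hds⟩ := IsLocalization.surj P.primeCompl t
  refine ⟨s, s.2, d, IsLocalization.injective (Localization.AtPrime P) P.primeCompl_le_nonZeroDivisors ?_⟩
  rw [map_mul, map_mul, ht, ← hds]
  ring

end ord

theorem eq_bot_of_lt_of_height_le_one {D : Type u} [CommRing D] [IsDomain D] [IsNoetherianRing D] {P Q : Ideal D}
    [Q.IsPrime] [P.IsPrime] (h : Q < P) (hP : P.height ≤ 1) : Q = ⊥ := by
  have h0 : Q.height < 1 := (Ideal.height_strict_mono_of_isPrime h).trans_le hP
  rwa [Order.lt_one_iff, Ideal.height_eq_zero_iff, IsDomain.minimalPrimes_eq_singleton_bot, Set.mem_singleton_iff] at h0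

/-- Divisibility in a normal Noetherian domain through the orders at the primes over the divisor. -/
theorem dvd_pow_of_ordAt_le {D : Type u} [CommRing D] [IsDomain D] [IsNoetherianRing D] [IsIntegrallyClosed D]
    {y z : D} (hy : y ≠ 0) (hz : z ≠ 0) (k l : ℕ)
    (h : ∀ (P : Ideal D) [P.IsPrime] [IsDiscreteValuationRing (Localization.AtPrime P)],
      P ∈ (Ideal.span {y}).minimalPrimes → k * ordAt P y ≤ l * ordAt P z) : y ^ k ∣ z ^ l := by
  refine InvGen.dvd_of_forall_height_one (pow_ne_zero _ hy) fun P hP hP1 => ?_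
  by_cases haP : y ∈ P
  · haveI := hP
    have hPmin : P ∈ (Ideal.span {y}).minimalPrimes := by
      refine ⟨⟨hP, (Ideal.span_singleton_le_iff_mem P).2 haP⟩, fun Q hQ hQP => ?_⟩
      rcases hQP.eq_or_lt with h' | h'
      · exact h'.ge
      haveI := hQ.1
      have h1 := hQ.2 (Ideal.mem_span_singleton_self y)
      rw [eq_bot_of_lt_of_height_le_one h' hP1.le, Submodule.mem_bot] at h1
      exact absurd h1 hy
    haveI := isDVR_atPrime_of_minimal hy P hPmin
    refine exists_dvd_mul_of_ordAt_le P (pow_ne_zero _ hy) (pow_ne_zero _ hz) ?_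
    rw [ordAt_pow _ _ hy, ordAt_pow _ _ hz]
    exact h P hPmin
  · exact ⟨y ^ k, fun h' => haP (hP.mem_of_pow_mem k h'), dvd_mul_right _ _⟩

/-- A minimising index for the ratios, minimal for a secondary order. -/
theorem exists_extreme {ι α : Type u} [Finite ι] [PartialOrder α] (k l : ι → ℕ) (hl : ∀ i, 0 < l i) (Q : ι → α)
    (i₀ : ι) (hi₀ : k i₀ < l i₀) :
    ∃ i, k i < l i ∧ (∀ j, k i * l j ≤ k j * l i) ∧ ∀ j, k i * l j = k j * l i → Q j ≤ Q i → Q j = Q i := by
  haveI : Nonempty ι := ⟨i₀⟩
  let ρ : ι → ℚ := fun i => (k i : ℚ) / l i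
  have hρ : ∀ i j, ρ i ≤ ρ j ↔ k i * l j ≤ k j * l i := fun i j => by
    rw [div_le_div_iff₀ (by exact_mod_cast hl i) (by exact_mod_cast hl j)]
    exact_mod_cast Iff.rfl
  obtain ⟨i₁, hi₁⟩ := Finite.exists_min ρ
  obtain ⟨i, hi, hmin⟩ := Set.Finite.exists_minimalFor Q {i | ρ i = ρ i₁} (Set.toFinite _) ⟨i₁, rfl⟩
  have hle : ∀ j, k i * l j ≤ k j * l i := fun j => (hρ i j).1 ((le_of_eq hi).trans (hi₁ j))
  refine ⟨i, ?_, hle, fun j hj hQ => le_antisymm hQ (hmin ?_ hQ)⟩
  · by_contra h
    have h1 := hle i₀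
    nlinarith [hl i, hl i₀]
  · exact le_antisymm (((hρ j i).2 hj.ge).trans (le_of_eq hi)) (hi₁ j)

section main

variable {C K R : Type u} [CommRing C] [IsDomain C] [Field K] [Algebra C K] [IsFractionRing C K]
  [CommRing R] [Algebra C R] [IsNoetherianRing R] [Module.FaithfullyFlat C R]

omit [IsDomain C] [IsNoetherianRing R] in
theorem comap_minimalPrimes_eq_bot [IsDomain C] {m : Ideal R} (hm : m ∈ minimalPrimes R) :
    m.comap (algebraMap C R) = ⊥ := by
  haveI := hm.1.1
  have h := Hensel.comap_mem_minimalPrimes_of_flat (R := C) hm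
  rwa [IsDomain.minimalPrimes_eq_singleton_bot] at h

omit [IsNoetherianRing R] in
theorem injective_residueField {m : Ideal R} [m.IsPrime] (hm : m ∈ minimalPrimes R) :
    Function.Injective (algebraMap C m.ResidueField) := by
  rw [injective_iff_map_eq_zero]
  intro c hc
  rw [IsScalarTower.algebraMap_apply C R m.ResidueField, Ideal.algebraMap_residueField_eq_zero] at hc
  have h := comap_minimalPrimes_eq_bot (C := C) hm
  have h1 : c ∈ m.comap (algebraMap C R) := hc
  rwa [h, Submodule.mem_bot] at h1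

/-- Integrality descends from the branches of a faithfully flat extension. -/
theorem isIntegral_of_forall_minimalPrimes (x : K)
    (h : ∀ (m : Ideal R) [m.IsPrime], m ∈ minimalPrimes R → ∀ φ : K →ₐ[C] m.ResidueField, IsIntegral R (φ x)) :
    IsIntegral C x := by
  classical
  haveI : Fintype (minimalPrimes R) := (minimalPrimes.finite_of_isNoetherianRing R).fintype
  haveI := fun m : minimalPrimes R => m.2.1.1
  let φ : ∀ m : minimalPrimes R, K →ₐ[C] m.1.ResidueField := fun m =>
    IsFractionRing.liftAlgHom (g := Algebra.ofId C _) (injective_residueField m.2)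
  choose f hfm hf using fun m : minimalPrimes R => h m.1 m.2 (φ m)
  let T := R ⊗[C] K
  let u : T := 1 ⊗ₜ x
  let F : R[X] := ∏ m, f m
  let ψ : ∀ m : minimalPrimes R, T →ₐ[R] m.1.ResidueField := fun m =>
    Algebra.TensorProduct.lift (Algebra.ofId R _) (φ m) fun _ _ => Commute.all _ _
  have hψu : ∀ m, ψ m u = φ m x := fun m => by
    show ψ m (1 ⊗ₜ x) = _
    rw [Algebra.TensorProduct.lift_tmul, map_one, one_mul]
  have hF : ∀ m, ψ m (aeval u F) = 0 := fun m => by
    rw [← aeval_algHom_apply, hψu, map_prod]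
    exact Finset.prod_eq_zero (Finset.mem_univ m) ((aeval_def _ _).trans (hf m))
  have hden : ∀ t : T, ∃ c : C, c ≠ 0 ∧ ∃ g : R, algebraMap C T c * t = g ⊗ₜ 1 := by
    intro t
    induction t using TensorProduct.induction_on with
    | zero => exact ⟨1, one_ne_zero, 0, by rw [mul_zero, TensorProduct.zero_tmul]⟩
    | add s t hs ht =>
      obtain ⟨c, hc, g, hg⟩ := hs
      obtain ⟨c', hc', g', hg'⟩ := ht
      refine ⟨c * c', mul_ne_zero hc hc', algebraMap C R c' * g + algebraMap C R c * g', ?_⟩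
      rw [TensorProduct.add_tmul, map_mul, mul_add]
      rw [show (algebraMap C R c' * g) ⊗ₜ[C] (1 : K) = algebraMap C T c' * (g ⊗ₜ 1) by
        rw [Algebra.TensorProduct.algebraMap_apply, Algebra.TensorProduct.tmul_mul_tmul, one_mul],
        show (algebraMap C R c * g') ⊗ₜ[C] (1 : K) = algebraMap C T c * (g' ⊗ₜ 1) by
        rw [Algebra.TensorProduct.algebraMap_apply, Algebra.TensorProduct.tmul_mul_tmul, one_mul],
        ← hg, ← hg']
      ring
    | tmul r y =>
      obtain ⟨n, d, hd, rfl⟩ := IsFractionRing.div_surjective C y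
      refine ⟨d, nonZeroDivisors.ne_zero hd, algebraMap C R n * r, ?_⟩
      have hd0 : algebraMap C K d ≠ 0 :=
        (map_ne_zero_iff _ (IsFractionRing.injective C K)).2 (nonZeroDivisors.ne_zero hd)
      rw [← Algebra.smul_def, ← TensorProduct.tmul_smul, Algebra.smul_def, mul_div_cancel₀ _ hd0,
        Algebra.algebraMap_eq_smul_one n (A := K), TensorProduct.tmul_smul, TensorProduct.smul_tmul',
        Algebra.smul_def n r]
  obtain ⟨c, hc, g, hg⟩ := hden (aeval u F)
  have hgm : IsNilpotent g := by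
    rw [← mem_nilradical, nilradical, ← Ideal.sInf_minimalPrimes, Submodule.mem_sInf]
    intro m hm
    haveI := hm.1.1
    have h1 := congrArg (ψ ⟨m, hm⟩) hg
    rw [map_mul, hF, mul_zero] at h1
    change (0 : Ideal.ResidueField m) = ψ ⟨m, hm⟩ (g ⊗ₜ[C] (1 : K)) at h1
    rw [Algebra.TensorProduct.lift_tmul, map_one, mul_one, Algebra.ofId_apply] at h1
    exact Ideal.algebraMap_residueField_eq_zero.mp h1.symm
  obtain ⟨n, hn⟩ : IsNilpotent (aeval u F) := by
    have hcu : IsUnit (algebraMap C T c) := by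
      have h1 : IsUnit (algebraMap C K c) := ((map_ne_zero_iff _ (IsFractionRing.injective C K)).2 hc).isUnit
      have h2 := h1.map (Algebra.TensorProduct.includeRight : K →ₐ[C] T)
      rwa [AlgHom.commutes] at h2
    obtain ⟨n, hn⟩ := hgm.map (Algebra.TensorProduct.includeLeftRingHom : R →+* T)
    refine ⟨n, ?_⟩
    have h1 : algebraMap C T c ^ n * aeval u F ^ n = 0 := by rw [← mul_pow, hg]; exact hn
    exact (hcu.pow n).mul_right_eq_zero.mp h1
  have hu : IsIntegral R u := by
    refine ⟨F ^ n, (monic_prod_of_monic _ _ fun m _ => hfm m).pow n, ?_⟩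
    rw [← aeval_def, map_pow, hn]
  let D := Algebra.adjoin C ({x} : Set K)
  let ι : R ⊗[C] D →ₐ[R] T := Algebra.TensorProduct.map (AlgHom.id R R) D.val
  haveI : Module.Finite R (Algebra.adjoin R ({u} : Set T)) := Module.Finite.iff_fg.2 hu.fg_adjoin_singleton
  have hmem : ∀ t, ι t ∈ Algebra.adjoin R ({u} : Set T) := by
    intro t
    induction t using TensorProduct.induction_on with
    | zero => rw [map_zero]; exact zero_mem _
    | add s t hs ht => rw [map_add]; exact add_mem hs ht
    | tmul r d =>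
      have hd : D ≤ ((Algebra.adjoin R ({u} : Set T)).restrictScalars C).comap
          (Algebra.TensorProduct.includeRight : K →ₐ[C] T) :=
        Algebra.adjoin_le (Set.singleton_subset_iff.2 (Algebra.self_mem_adjoin_singleton R u))
      rw [Algebra.TensorProduct.map_tmul, AlgHom.id_apply, Subalgebra.val_apply,
        show r ⊗ₜ[C] (d : K) = r • ((1 : R) ⊗ₜ[C] (d : K)) by rw [TensorProduct.smul_tmul', smul_eq_mul, mul_one]]
      exact Subalgebra.smul_mem (Algebra.adjoin R ({u} : Set T)) (hd d.2 :) r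
  have hinj : Function.Injective ι :=
    Module.Flat.lTensor_preserves_injective_linearMap (M := R) D.val.toLinearMap Subtype.val_injective
  haveI : IsNoetherian R (Algebra.adjoin R ({u} : Set T)) := isNoetherian_of_isNoetherianRing_of_finite R _
  haveI : Module.Finite R (R ⊗[C] D) :=
    Module.Finite.of_injective (ι.codRestrict _ hmem).toLinearMap fun a b hab => hinj (congrArg Subtype.val hab)
  haveI : Module.Finite C D := Module.Finite.of_finite_tensorProduct_of_faithfullyFlat R
  exact IsIntegral.of_mem_of_fg D (Module.Finite.iff_fg.1 inferInstance) x (Algebra.self_mem_adjoin_singleton C x)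

omit [IsNoetherianRing R] in
theorem isIntegrallyClosed_branch (m : Ideal R) [m.IsPrime] :
    IsIntegrallyClosed (integralClosure R m.ResidueField) := by
  let D := integralClosure R m.ResidueField
  haveI : IsFractionRing D m.ResidueField := IsFractionRing.of_field D m.ResidueField fun z => by
    obtain ⟨n, d, -, rfl⟩ := IsFractionRing.div_surjective (R ⧸ m) z
    obtain ⟨n, rfl⟩ := Ideal.Quotient.mk_surjective n
    obtain ⟨d, rfl⟩ := Ideal.Quotient.mk_surjective d
    exact ⟨algebraMap R D n, algebraMap R D d, rfl⟩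
  refine (isIntegrallyClosed_iff m.ResidueField).2 fun {z} hz => ?_
  exact ⟨⟨z, isIntegral_trans z hz⟩, rfl⟩

set_option maxHeartbeats 2000000 in
/-- A non-integral element has a pole at a height-one prime. -/
theorem exists_heightOne_pole
    (hN : ∀ (m : Ideal R) [m.IsPrime], m ∈ minimalPrimes R → Module.Finite R (integralClosure R m.ResidueField))
    (hS : ∀ z : K, IsIntegral C z → ∃ r : R, ∀ (m : Ideal R) [m.IsPrime], m ∈ minimalPrimes R →
      ∀ φ : K →ₐ[C] m.ResidueField, φ z = algebraMap R m.ResidueField r)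
    (x : K) (hx : ¬ IsIntegral C x) :
    ∃ p : Ideal C, p.IsPrime ∧ p.height = 1 ∧ ∀ s : C, s ∉ p → ¬ IsIntegral C (algebraMap C K s * x) := by
  classical
  obtain ⟨b, a, ha, hxab⟩ := IsFractionRing.div_surjective C x
  have ha0 : a ≠ 0 := nonZeroDivisors.ne_zero ha
  have haK : algebraMap C K a ≠ 0 := (map_ne_zero_iff _ (IsFractionRing.injective C K)).2 ha0
  have hb0 : b ≠ 0 := fun h => hx (by rw [← hxab, h, map_zero, zero_div]; exact isIntegral_zero)
  haveI := fun m : minimalPrimes R => m.2.1.1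
  haveI : Finite (minimalPrimes R) := (minimalPrimes.finite_of_isNoetherianRing R).to_subtype
  let D := fun m : minimalPrimes R => integralClosure R m.1.ResidueField
  haveI hDic := fun m : minimalPrimes R => isIntegrallyClosed_branch (R := R) m.1
  haveI hDn : ∀ m, IsNoetherianRing (D m) := fun m => by
    haveI := hN m.1 m.2
    exact IsNoetherianRing.of_finite R (D m)
  let al := fun m : minimalPrimes R => algebraMap R (D m) (algebraMap C R a)
  let be := fun m : minimalPrimes R => algebraMap R (D m) (algebraMap C R b)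
  have hne : ∀ (m : minimalPrimes R) (c : C), c ≠ 0 → algebraMap R (D m) (algebraMap C R c) ≠ 0 := fun m c hc h => by
    have h1 : algebraMap R m.1.ResidueField (algebraMap C R c) = 0 := congrArg Subtype.val h
    rw [← IsScalarTower.algebraMap_apply] at h1
    exact hc ((map_eq_zero_iff _ (injective_residueField m.2)).1 h1)
  let ι := Σ m : minimalPrimes R, {P : Ideal (D m) // P ∈ (Ideal.span {al m}).minimalPrimes}
  haveI : ∀ m, Finite {P : Ideal (D m) // P ∈ (Ideal.span {al m}).minimalPrimes} := fun m =>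
    (Ideal.finite_minimalPrimes_of_isNoetherianRing _ _).to_subtype
  haveI := fun i : ι => i.2.2.1.1
  haveI hdvr : ∀ i : ι, IsDiscreteValuationRing (Localization.AtPrime i.2.1) := fun i =>
    isDVR_atPrime_of_minimal (hne i.1 a ha0) i.2.1 i.2.2
  let v : ∀ i : ι, D i.1 → ℕ := fun i y => ordAt i.2.1 y
  have hdvd : ∀ (m : minimalPrimes R) (kk ll : ℕ),
      (∀ P : {P : Ideal (D m) // P ∈ (Ideal.span {al m}).minimalPrimes},
        kk * v ⟨m, P⟩ (al m) ≤ ll * v ⟨m, P⟩ (be m)) → al m ^ kk ∣ be m ^ ll := by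
    intro m kk ll hle
    exact dvd_pow_of_ordAt_le (hne m a ha0) (hne m b hb0) kk ll fun P _ _ hP => hle ⟨P, hP⟩
  -- a branch with a pole
  obtain ⟨i₀, hi₀⟩ : ∃ i : ι, v i (be i.1) < v i (al i.1) := by
    by_contra! hall
    refine hx (isIntegral_of_forall_minimalPrimes (R := R) x fun m _ hm φ => ?_)
    obtain ⟨d, hd⟩ := hdvd ⟨m, hm⟩ 1 1 fun P => by rw [one_mul, one_mul]; exact hall ⟨⟨m, hm⟩, P⟩
    have h1 : φ x = (d : m.ResidueField) := by
      have h2 : algebraMap R m.ResidueField (algebraMap C R b) ^ 1 =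
          algebraMap R m.ResidueField (algebraMap C R a) ^ 1 * (d : m.ResidueField) := congrArg Subtype.val hd
      rw [pow_one, pow_one, ← IsScalarTower.algebraMap_apply, ← IsScalarTower.algebraMap_apply] at h2
      rw [← hxab, map_div₀, AlgHom.commutes, AlgHom.commutes, h2, mul_div_cancel_left₀]
      exact fun h => ha0 ((map_eq_zero_iff _ (injective_residueField hm)).1 h)
    rw [h1]
    exact d.2
  let Q : ι → Ideal R := fun i => i.2.1.comap (algebraMap R (D i.1))
  have hlpos : ∀ i : ι, 0 < v i (al i.1) := fun i => Nat.pos_of_ne_zero fun h =>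
    (ordAt_eq_zero_iff i.2.1 (hne i.1 a ha0)).1 h (i.2.2.1.2 (Ideal.mem_span_singleton_self _))
  obtain ⟨i, hik, hle, hmin⟩ := exists_extreme (fun i => v i (be i.1)) (fun i => v i (al i.1)) hlpos Q i₀ hi₀
  let k₀ := v i (be i.1)
  let l₀ := v i (al i.1)
  have hdv : ∀ m, al m ^ k₀ ∣ be m ^ l₀ := fun m =>
    hdvd m k₀ l₀ fun P => (hle ⟨m, P⟩).trans_eq (mul_comm _ _)
  choose d hd using hdv
  let z : K := algebraMap C K b ^ l₀ / algebraMap C K a ^ k₀
  have hφz : ∀ (m : minimalPrimes R) (φ : K →ₐ[C] m.1.ResidueField), φ z = (d m : m.1.ResidueField) := by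
    intro m φ
    have h2 : algebraMap R m.1.ResidueField (algebraMap C R b) ^ l₀ =
        algebraMap R m.1.ResidueField (algebraMap C R a) ^ k₀ * (d m : m.1.ResidueField) := congrArg Subtype.val (hd m)
    rw [← IsScalarTower.algebraMap_apply, ← IsScalarTower.algebraMap_apply] at h2
    rw [map_div₀, map_pow, map_pow, AlgHom.commutes, AlgHom.commutes, h2, mul_div_cancel_left₀]
    exact pow_ne_zero _ fun h => ha0 ((map_eq_zero_iff _ (injective_residueField m.2)).1 h)
  have hz : IsIntegral C z := isIntegral_of_forall_minimalPrimes (R := R) z fun m _ hm φ => by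
    rw [hφz ⟨m, hm⟩ φ]
    exact (d ⟨m, hm⟩).2
  obtain ⟨r, hr⟩ := hS z hz
  have hrd : ∀ m : minimalPrimes R, algebraMap R (D m) r = d m := fun m => Subtype.ext <| by
    let φ : K →ₐ[C] m.1.ResidueField := IsFractionRing.liftAlgHom (g := Algebra.ofId C _) (injective_residueField m.2)
    rw [← hφz m φ, hr m.1 m.2 φ]
    rfl
  have hd0 : ∀ m, d m ≠ 0 := fun m h => hne m b hb0 (pow_eq_zero_iff'.1 (by rw [show (be m) ^ l₀ = 0 by rw [hd m, h, mul_zero]])).1
  have hvd : ∀ j : ι, l₀ * v j (be j.1) = k₀ * v j (al j.1) + v j (d j.1) := fun j => by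
    rw [← ordAt_pow _ _ (hne _ b hb0), hd, ordAt_mul _ (pow_ne_zero _ (hne _ a ha0)) (hd0 _), ordAt_pow _ _ (hne _ a ha0)]
  have hrQ : r ∉ Q i := by
    show algebraMap R (D i.1) r ∉ i.2.1
    rw [hrd]
    refine (ordAt_eq_zero_iff i.2.1 (hd0 _)).1 ?_
    show v i (d i.1) = 0
    have h1 : l₀ * k₀ = k₀ * l₀ + v i (d i.1) := hvd i
    rw [mul_comm l₀ k₀] at h1
    omega
  let p : Ideal C := (Q i).comap (algebraMap C R)
  haveI : (Q i).IsPrime := Ideal.IsPrime.comap _
  haveI hp : p.IsPrime := Ideal.IsPrime.comap _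
  have hap : a ∈ p := i.2.2.1.2 (Ideal.mem_span_singleton_self (al i.1))
  refine ⟨p, hp, le_antisymm ?_ ?_, fun s hs hint => ?_⟩
  · refine Ideal.height_le_iff.2 fun p₁ hp₁ hlt => ?_
    suffices h0 : p₁ = ⊥ by
      rw [h0, Ideal.height_bot]; exact zero_lt_one
    by_contra hp₁0
    haveI := hp₁
    haveI : (Q i).LiesOver p := ⟨rfl⟩
    obtain ⟨T, hTQ, hT, hTp⟩ := Ideal.exists_ideal_le_liesOver_of_le (R := C) (S := R) (p := p₁) (q := p) (Q i) hlt.le
    haveI := hT
    obtain ⟨m, hm, hmT⟩ := Ideal.exists_minimalPrimes_le (bot_le : (⊥ : Ideal R) ≤ T)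
    haveI := hm.1.1
    let m' : minimalPrimes R := ⟨m, hm⟩
    have hker : (⊥ : Ideal (D m')).comap (algebraMap R (D m')) = m := by
      ext y
      rw [Ideal.mem_comap, Submodule.mem_bot, ← Ideal.algebraMap_residueField_eq_zero (I := m)]
      exact ⟨fun h => congrArg Subtype.val h, fun h => Subtype.ext h⟩
    haveI : Algebra.IsIntegral R (D m') := inferInstance
    obtain ⟨T', -, hT', hT'T⟩ := Ideal.exists_ideal_over_prime_of_isIntegral (S := D m') T ⊥ (hker.le.trans hmT)
    haveI := hT'
    obtain ⟨P', hTP, hP', hP'Q⟩ := Ideal.exists_ideal_over_prime_of_isIntegral (Q i) T' (hT'T.le.trans hTQ)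
    have hT'0 : T' ≠ ⊥ := fun h => hp₁0 (by
      rw [hTp.over, Ideal.under_def, ← hT'T, h, hker]
      exact comap_minimalPrimes_eq_bot hm)
    have hT'P : T' < P' := lt_of_le_of_ne hTP fun h => hlt.ne (by
      rw [hTp.over, Ideal.under_def, ← hT'T, h, hP'Q])
    obtain ⟨U, hU, hUP⟩ := Ideal.exists_minimalPrimes_le (I := Ideal.span {al m'}) (J := P')
      ((Ideal.span_singleton_le_iff_mem _).2 (show algebraMap C R a ∈ P'.comap (algebraMap R (D m')) by rw [hP'Q]; exact hap))
    let j : ι := ⟨m', U, hU⟩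
    haveI : U.IsPrime := hU.1.1
    have hUlt : U < P' := lt_of_le_of_ne hUP fun h => hT'0 <|
      eq_bot_of_lt_of_height_le_one (h ▸ hT'P : T' < U)
        (Ideal.height_le_one_of_isPrincipal_of_mem_minimalPrimes _ _ hU)
    have hQlt : Q j < Q i := by
      obtain ⟨y, hy, hyU⟩ := SetLike.exists_of_lt hUlt
      rw [← hP'Q]
      exact Ideal.comap_lt_comap_of_integral_mem_sdiff hUP ⟨hy, hyU⟩ (Algebra.IsIntegral.isIntegral y)
    have hne' : v j (d m') ≠ 0 := fun h => hQlt.ne (hmin j (by
      have := hvd j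
      show k₀ * v j (al j.1) = v j (be j.1) * l₀
      rw [mul_comm (v j (be j.1)), this, show v j (d j.1) = 0 from h, add_zero]) hQlt.le)
    have hdU : d m' ∈ U := by_contra fun h => hne' ((ordAt_eq_zero_iff j.2.1 (hd0 _)).2 h)
    refine hrQ ?_
    rw [← hP'Q, Ideal.mem_comap, hrd]
    exact hUP hdU
  · refine Order.one_le_iff_ne_zero.2 fun h => ?_
    rw [Ideal.height_eq_zero_iff, IsDomain.minimalPrimes_eq_singleton_bot, Set.mem_singleton_iff] at h
    exact ha0 (by rwa [h, Submodule.mem_bot] at hap)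
  · let φ : K →ₐ[C] i.1.1.ResidueField := IsFractionRing.liftAlgHom (g := Algebra.ofId C _) (injective_residueField i.1.2)
    let e : D i.1 := ⟨φ (algebraMap C K s * x), (hint.map φ).tower_top⟩
    let σ := algebraMap R (D i.1) (algebraMap C R s)
    have he : al i.1 * e = σ * be i.1 := Subtype.ext <| by
      show algebraMap R i.1.1.ResidueField (algebraMap C R a) * φ (algebraMap C K s * x) =
        algebraMap R i.1.1.ResidueField (algebraMap C R s) * algebraMap R i.1.1.ResidueField (algebraMap C R b)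
      rw [← IsScalarTower.algebraMap_apply, ← IsScalarTower.algebraMap_apply, ← IsScalarTower.algebraMap_apply,
        ← AlgHom.commutes φ, ← AlgHom.commutes φ, ← AlgHom.commutes φ, ← map_mul, ← map_mul, ← hxab]
      congr 1
      field_simp
    have hσ0 : σ ≠ 0 := hne _ s fun h => hs (h ▸ zero_mem _)
    have he0 : e ≠ 0 := fun h => by
      rw [h, mul_zero] at he
      exact mul_ne_zero hσ0 (hne _ b hb0) he.symm
    have hσv : v i σ = 0 := (ordAt_eq_zero_iff i.2.1 hσ0).2 hs
    have h1 := congrArg (v i) he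
    rw [show v i (al i.1 * e) = v i (al i.1) + v i e from ordAt_mul _ (hne _ a ha0) he0,
      show v i (σ * be i.1) = v i σ + v i (be i.1) from ordAt_mul _ hσ0 (hne _ b hb0), hσv] at h1
    omega

end main

end Groth.Agent.GRingCpl
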