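/-
Stabilisation of reduced base changes of finite birational subalgebras.
-/
import Mathlib
import Groth.Agent.Hensel.Branches
import Groth.Agent.FlatDepth.Comp
import Groth.Prelude.Def_Found

set_option autoImplicit false
set_option linter.style.haveILetI false
universe u

open TensorProduct AlgebraicGeometry CategoryTheory

namespace Groth.Agent.GRingCpl

/-- The finite subalgebras with the given fraction field. -/
def IsFinBir (A K' : Type u) [CommRing A] [Field K'] [Algebra A K'] (C : Subalgebra A K') : Prop :=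
  Module.Finite A C ∧ ∀ x : K', ∃ a b : C, (b : K') ≠ 0 ∧ x * b = a

/-- There is a finite subalgebra with the given fraction field. -/
theorem exists_isFinBir (A K' : Type u) [CommRing A] [IsDomain A] [Field K'] [Algebra A K']
    [Algebra (FractionRing A) K'] [IsScalarTower A (FractionRing A) K'] [FiniteDimensional (FractionRing A) K'] :
    ∃ C : Subalgebra A K', IsFinBir A K' C := by
  classical
  let b := Module.finBasis (FractionRing A) K'
  haveI : Algebra.IsAlgebraic A K' :=
    ⟨fun z => (IsFractionRing.isAlgebraic_iff A (FractionRing A) K').mpr (Algebra.IsAlgebraic.isAlgebraic z)⟩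
  have h1 : ∀ i, ∃ s : A, s ≠ 0 ∧ IsIntegral A (s • b i) := fun i =>
    (Algebra.IsAlgebraic.isAlgebraic (R := A) (b i)).exists_integral_multiple
  choose s hs hint using h1
  let C := Algebra.adjoin A (Set.range fun i => s i • b i)
  haveI : Module.Finite A C := Module.Finite.iff_fg.2
    (fg_adjoin_of_finite (Set.finite_range _) (by rintro _ ⟨i, rfl⟩; exact hint i))
  have hne : ∀ a : A, a ≠ 0 → algebraMap A K' a ≠ 0 := fun a ha h => ha <| by
    rw [IsScalarTower.algebraMap_apply A (FractionRing A) K', map_eq_zero] at h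
    exact IsFractionRing.injective A (FractionRing A) (h.trans (map_zero _).symm)
  refine ⟨C, inferInstance, fun x => ?_⟩
  suffices h : ∀ x : K', ∃ a b : K', a ∈ C ∧ b ∈ C ∧ b ≠ 0 ∧ x * b = a by
    obtain ⟨a, c, ha, hc, hc0, he⟩ := h x
    exact ⟨⟨a, ha⟩, ⟨c, hc⟩, hc0, he⟩
  intro x
  rw [← b.sum_repr x]
  refine Finset.sum_induction _ (fun x => ∃ a b : K', a ∈ C ∧ b ∈ C ∧ b ≠ 0 ∧ x * b = a) ?_ ⟨0, 1, zero_mem _, one_mem _, one_ne_zero, zero_mul 1⟩ fun i _ => ?_
  · rintro x y ⟨a, c, ha, hc, hc0, he⟩ ⟨a', c', ha', hc', hc0', he'⟩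
    exact ⟨a * c' + a' * c, c * c', add_mem (mul_mem ha hc') (mul_mem ha' hc), mul_mem hc hc', mul_ne_zero hc0 hc0',
      by rw [← he, ← he']; ring⟩
  · obtain ⟨n, d, hd, hq⟩ := IsFractionRing.div_surjective A (b.repr x i)
    refine ⟨algebraMap A K' n * (s i • b i), algebraMap A K' d * algebraMap A K' (s i),
      mul_mem (C.algebraMap_mem _) (Algebra.subset_adjoin ⟨i, rfl⟩), mul_mem (C.algebraMap_mem _) (C.algebraMap_mem _),
      mul_ne_zero (hne d (nonZeroDivisors.ne_zero hd)) (hne _ (hs i)), ?_⟩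
    rw [← hq, Algebra.smul_def, Algebra.smul_def, map_div₀, ← IsScalarTower.algebraMap_apply,
      ← IsScalarTower.algebraMap_apply, div_mul_eq_mul_div, div_mul_eq_mul_div,
      div_eq_iff (hne d (nonZeroDivisors.ne_zero hd))]
    ring

/-- Adjoining an integral element keeps the property. -/
theorem IsFinBir.adjoin {A K' : Type u} [CommRing A] [Field K'] [Algebra A K'] {C : Subalgebra A K'}
    (hC : IsFinBir A K' C) {z : K'} (hz : IsIntegral A z) :
    IsFinBir A K' (C ⊔ Algebra.adjoin A {z}) := by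
  haveI := hC.1
  haveI : Module.Finite A (Algebra.adjoin A ({z} : Set K')) := Module.Finite.iff_fg.2 hz.fg_adjoin_singleton
  refine ⟨Subalgebra.finite_sup C (Algebra.adjoin A {z}), fun x => ?_⟩
  obtain ⟨a, b, hb, he⟩ := hC.2 x
  exact ⟨⟨a, SetLike.le_def.mp le_sup_left a.2⟩, ⟨b, SetLike.le_def.mp le_sup_left b.2⟩, hb, he⟩

section main

variable {A B K' : Type u} [CommRing A] [IsDomain A] [CommRing B] [Algebra A B] [IsNoetherianRing B]
  [Field K'] [Algebra A K'] [Algebra (FractionRing A) K'] [IsScalarTower A (FractionRing A) K']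
  [FiniteDimensional (FractionRing A) K']

omit [IsNoetherianRing B] in
/-- The residue field of a minimal prime of the generic fibre is finite over the base's fraction field. -/
theorem finite_residueField_genericFibre [Module.Flat A B] (P : Ideal (K' ⊗[A] B)) [P.IsPrime]
    (q : Ideal B) [q.IsPrime]
    (hq : q = P.comap (Algebra.TensorProduct.includeRight : B →ₐ[A] K' ⊗[A] B).toRingHom)
    [Algebra B P.ResidueField] [Algebra (B ⧸ q) P.ResidueField] [IsScalarTower B (B ⧸ q) P.ResidueField]
    [Algebra (FractionRing (B ⧸ q)) P.ResidueField] [IsScalarTower (B ⧸ q) (FractionRing (B ⧸ q)) P.ResidueField]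
    (halg : ∀ b : B, algebraMap B P.ResidueField b = algebraMap (K' ⊗[A] B) P.ResidueField ((1 : K') ⊗ₜ b)) :
    FiniteDimensional (FractionRing (B ⧸ q)) P.ResidueField := by
  let E := FractionRing (B ⧸ q)
  let L := P.ResidueField
  let ι : K' →+* L := (algebraMap (K' ⊗[A] B) L).comp (Algebra.TensorProduct.includeLeftRingHom : K' →+* K' ⊗[A] B)
  have hA : ∀ a : A, ι (algebraMap A K' a) = algebraMap B L (algebraMap A B a) := fun a => by
    rw [halg]
    show algebraMap (K' ⊗[A] B) L (algebraMap A K' a ⊗ₜ 1) = _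
    rw [Algebra.algebraMap_eq_smul_one (A := K'), Algebra.algebraMap_eq_smul_one (A := B), TensorProduct.smul_tmul]
  let F := algebraicClosure E L
  have hB : ∀ b : B, algebraMap (K' ⊗[A] B) L ((1 : K') ⊗ₜ b) ∈ F := fun b => by
    rw [← halg, IsScalarTower.algebraMap_apply B (B ⧸ q) L, IsScalarTower.algebraMap_apply (B ⧸ q) E L]
    exact F.algebraMap_mem _
  have hK : ∀ x : K', algebraMap (K' ⊗[A] B) L (x ⊗ₜ 1) ∈ F := fun x => by
    show ι x ∈ F
    haveI : Algebra.IsAlgebraic A K' :=
      ⟨fun z => (IsFractionRing.isAlgebraic_iff A (FractionRing A) K').mpr (Algebra.IsAlgebraic.isAlgebraic z)⟩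
    obtain ⟨a, ha, hint⟩ := (Algebra.IsAlgebraic.isAlgebraic (R := A) x).exists_integral_multiple
    have ha' : algebraMap A K' a ≠ 0 := fun h => ha <| by
      rw [IsScalarTower.algebraMap_apply A (FractionRing A) K', map_eq_zero] at h
      exact IsFractionRing.injective A (FractionRing A) (h.trans (map_zero _).symm)
    have hAL : ∀ r : A, algebraMap A L r = algebraMap B L (algebraMap A B r) := fun r => by
      rw [← hA, IsScalarTower.algebraMap_apply A (K' ⊗[A] B) L, Algebra.TensorProduct.algebraMap_apply]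
      rfl
    let ιA : K' →ₐ[A] L := { ι with commutes' := fun r => (hA r).trans (hAL r).symm }
    have h1 : IsIntegral E (ι (a • x)) := by
      have h0 : IsIntegral A (ι (a • x)) := hint.map ιA
      have h2 : IsIntegral B (ι (a • x)) := by
        haveI : IsScalarTower A B L := IsScalarTower.of_algebraMap_eq hAL
        exact h0.tower_top
      exact (h2.tower_top (A := B ⧸ q)).tower_top
    rw [show ι x = ι (a • x) / ι (algebraMap A K' a) by
      rw [Algebra.smul_def, map_mul, mul_div_cancel_left₀]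
      exact (map_ne_zero ι).2 ha']
    refine div_mem (mem_algebraicClosure_iff'.2 h1) ?_
    rw [hA, IsScalarTower.algebraMap_apply B (B ⧸ q) L, IsScalarTower.algebraMap_apply (B ⧸ q) E L]
    exact F.algebraMap_mem _
  have htop : F = ⊤ := FlatDepth.eq_top_of_generate P F hK hB
  haveI : Algebra.IsAlgebraic E L := ⟨fun z => mem_algebraicClosure_iff.1 (htop.ge IntermediateField.mem_top)⟩
  haveI : Algebra.EssFiniteType E L := by
    haveI : Algebra.EssFiniteType A K' := Algebra.EssFiniteType.comp A (FractionRing A) K'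
    letI : Algebra B (K' ⊗[A] B) := Algebra.TensorProduct.rightAlgebra
    haveI : IsScalarTower B (K' ⊗[A] B) L := IsScalarTower.of_algebraMap_eq fun b => halg b
    haveI : Algebra.EssFiniteType B (B ⊗[A] K') := inferInstance
    let e : B ⊗[A] K' ≃ₐ[B] K' ⊗[A] B :=
      AlgEquiv.ofRingEquiv (f := (Algebra.TensorProduct.comm A B K').toRingEquiv) fun _ => rfl
    haveI : Algebra.EssFiniteType B (K' ⊗[A] B) := Algebra.EssFiniteType.of_surjective e.toAlgHom e.surjective
    haveI : Algebra.EssFiniteType B L := Algebra.EssFiniteType.comp B (K' ⊗[A] B) L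
    haveI : Algebra.EssFiniteType (B ⧸ q) L := Algebra.EssFiniteType.of_comp B (B ⧸ q) L
    exact Algebra.EssFiniteType.of_comp (B ⧸ q) E L
  exact Algebra.finite_of_essFiniteType_of_isAlgebraic

/-- Some finite birational subalgebra already gives all the reduced base changes. -/
theorem exists_stable [Module.Flat A B]
    (hJ : ∀ (q : Ideal B) [q.IsPrime], q ∈ minimalPrimes B → CAlg.IsN2 (B ⧸ q)) :
    ∃ Cα : Subalgebra A K', IsFinBir A K' Cα ∧ ∀ C : Subalgebra A K', IsFinBir A K' C → ∀ hle : Cα ≤ C,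
      (∀ x : ↥Cα ⊗[A] B, IsNilpotent (Algebra.TensorProduct.map (Subalgebra.inclusion hle) (AlgHom.id A B) x) →
        IsNilpotent x) ∧
      ∀ y : ↥C ⊗[A] B, ∃ x : ↥Cα ⊗[A] B,
        IsNilpotent (Algebra.TensorProduct.map (Subalgebra.inclusion hle) (AlgHom.id A B) x - y) := by
  classical
  let R := K' ⊗[A] B
  letI : Algebra B R := Algebra.TensorProduct.rightAlgebra
  haveI : Algebra.EssFiniteType A K' := Algebra.EssFiniteType.comp A (FractionRing A) K'
  haveI : IsNoetherianRing R := FlatDepth.isNoetherianRing_tensor_essFinite A B K'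
  haveI : Module.Flat A (FractionRing A) := IsLocalization.flat (FractionRing A) (nonZeroDivisors A)
  haveI : Module.Flat A K' := Module.Flat.trans A (FractionRing A) K'
  haveI : Module.Flat B R := by
    haveI : Module.Flat B (B ⊗[A] K') := inferInstance
    exact Module.Flat.of_linearEquiv (AlgEquiv.ofRingEquiv (f := (Algebra.TensorProduct.comm A B K').toRingEquiv)
      (fun _ => rfl) : B ⊗[A] K' ≃ₐ[B] R).symm.toLinearEquiv
  haveI : Finite (minimalPrimes R) := (minimalPrimes.finite_of_isNoetherianRing R).to_subtype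
  haveI := fun P : minimalPrimes R => P.2.1.1
  let q : minimalPrimes R → Ideal B := fun P => P.1.comap (algebraMap B R)
  have hq : ∀ P, q P ∈ minimalPrimes B := fun P => Hensel.comap_mem_minimalPrimes_of_flat P.2
  haveI := fun P : minimalPrimes R => (hq P).1.1
  let Q : minimalPrimes R → Type u := fun P => P.1.ResidueField
  let πP : ∀ P : minimalPrimes R, R →ₐ[B] Q P := fun P => IsScalarTower.toAlgHom B R (P.1.ResidueField)
  let π : R →ₐ[B] ∀ P, Q P := Pi.algHom B Q πP
  have hπ : ∀ z : R, π z = 0 → IsNilpotent z := fun z hz => by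
    rw [← mem_nilradical, nilradical, ← Ideal.sInf_minimalPrimes, Submodule.mem_sInf]
    intro P hP
    haveI := hP.1.1
    exact Ideal.algebraMap_residueField_eq_zero.mp (congrFun hz ⟨P, hP⟩)
  have hint : ∀ P : minimalPrimes R, ∃ N : Submodule B (Q P), IsNoetherian B N ∧ ∀ z : Q P, IsIntegral B z → z ∈ N := by
    intro P
    letI : Algebra (B ⧸ q P) (Q P) :=
      (Ideal.Quotient.lift (q P) (algebraMap B (Q P)) fun b hb => by
        rw [IsScalarTower.algebraMap_apply B R (Q P)]
        exact Ideal.algebraMap_residueField_eq_zero.mpr hb).toAlgebra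
    haveI : IsScalarTower B (B ⧸ q P) (Q P) := IsScalarTower.of_algebraMap_eq fun b => rfl
    haveI : FaithfulSMul (B ⧸ q P) (Q P) := (faithfulSMul_iff_algebraMap_injective _ _).mpr fun x y h => by
      obtain ⟨x, rfl⟩ := Ideal.Quotient.mk_surjective x
      obtain ⟨y, rfl⟩ := Ideal.Quotient.mk_surjective y
      refine Ideal.Quotient.eq.mpr ?_
      show algebraMap B R (x - y) ∈ P.1
      refine Ideal.algebraMap_residueField_eq_zero.mp ?_
      rw [← IsScalarTower.algebraMap_apply, map_sub, sub_eq_zero]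
      exact h
    letI : Algebra (FractionRing (B ⧸ q P)) (Q P) := FractionRing.liftAlgebra _ _
    haveI : IsScalarTower (B ⧸ q P) (FractionRing (B ⧸ q P)) (Q P) := FractionRing.isScalarTower_liftAlgebra _ _
    haveI : FiniteDimensional (FractionRing (B ⧸ q P)) (Q P) :=
      finite_residueField_genericFibre (A := A) (B := B) (K' := K') P.1 (q P) rfl
        fun b => IsScalarTower.algebraMap_apply B R P.1.ResidueField b
    haveI : Module.Finite (B ⧸ q P) (integralClosure (B ⧸ q P) (Q P)) := hJ (q P) (hq P) (Q P) inferInstance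
    haveI : Module.Finite B (integralClosure (B ⧸ q P) (Q P)) := Module.Finite.trans (B ⧸ q P) _
    let N : Submodule B (Q P) := LinearMap.range ((integralClosure (B ⧸ q P) (Q P)).val.toLinearMap.restrictScalars B)
    exact ⟨N, isNoetherian_of_isNoetherianRing_of_finite B N, fun z hz => ⟨⟨z, hz.tower_top⟩, rfl⟩⟩
  choose N hN hmem using hint
  haveI := hN
  haveI : Fintype (minimalPrimes R) := Fintype.ofFinite _
  let Ψ : (∀ P, N P) →ₗ[B] ∀ P, Q P := LinearMap.pi fun P => (N P).subtype.comp (LinearMap.proj P)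
  haveI : IsNoetherian B (LinearMap.range Ψ) := isNoetherian_range Ψ
  let im : Subalgebra A K' → Submodule B (∀ P, Q P) := fun C =>
    Submodule.span B (Set.range fun x : C => π ((x : K') ⊗ₜ (1 : B)))
  have him : ∀ C : Subalgebra A K', IsFinBir A K' C → im C ≤ LinearMap.range Ψ := by
    intro C hC
    haveI := hC.1
    refine Submodule.span_le.mpr ?_
    rintro _ ⟨x, rfl⟩
    refine ⟨fun P => ⟨π ((x : K') ⊗ₜ (1 : B)) P, hmem P _ ?_⟩, rfl⟩
    have h0 : IsIntegral A (x : K') := (Algebra.IsIntegral.isIntegral (R := A) x).map C.val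
    have h1 : IsIntegral B ((x : K') ⊗ₜ[A] (1 : B)) := by
      have h2 : IsIntegral A ((x : K') ⊗ₜ[A] (1 : B)) :=
        h0.map (Algebra.TensorProduct.includeLeft : K' →ₐ[A] R)
      exact h2.tower_top
    exact h1.map (πP P)
  have hmemim : ∀ (C : Subalgebra A K') (z : ↥C ⊗[A] B), π (Algebra.TensorProduct.map C.val (AlgHom.id A B) z) ∈ im C := by
    intro C z
    induction z using TensorProduct.induction_on with
    | zero => rw [map_zero, map_zero]; exact zero_mem _
    | add a b ha hb => rw [map_add, map_add]; exact add_mem ha hb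
    | tmul c b =>
      rw [Algebra.TensorProduct.map_tmul, AlgHom.id_apply, Subalgebra.val_apply]
      rw [show (c : K') ⊗ₜ[A] b = b • ((c : K') ⊗ₜ[A] (1 : B)) by
        rw [Algebra.smul_def]
        show _ = ((1 : K') ⊗ₜ[A] b) * _
        rw [Algebra.TensorProduct.tmul_mul_tmul, one_mul, mul_one], map_smul]
      exact Submodule.smul_mem _ _ (Submodule.subset_span ⟨c, rfl⟩)
  obtain ⟨C₀, hC₀⟩ := exists_isFinBir A K'
  obtain ⟨M, ⟨Cα, hCα, rfl⟩, hmax⟩ := set_has_maximal_iff_noetherian.mpr (inferInstance : IsNoetherian B (LinearMap.range Ψ))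
    {M | ∃ C, IsFinBir A K' C ∧ M = (im C).comap (LinearMap.range Ψ).subtype} ⟨_, C₀, hC₀, rfl⟩
  refine ⟨Cα, hCα, fun C hC hle => ?_⟩
  have hinj : ∀ D : Subalgebra A K', Function.Injective (Algebra.TensorProduct.map D.val (AlgHom.id A B)) := fun D =>
    Module.Flat.rTensor_preserves_injective_linearMap (M := B) D.val.toLinearMap Subtype.val_injective
  have hcomp : ∀ x : ↥Cα ⊗[A] B, Algebra.TensorProduct.map C.val (AlgHom.id A B)
      (Algebra.TensorProduct.map (Subalgebra.inclusion hle) (AlgHom.id A B) x) =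
        Algebra.TensorProduct.map Cα.val (AlgHom.id A B) x := fun x => by
    induction x using TensorProduct.induction_on with
    | zero => simp only [map_zero]
    | add a b ha hb => simp only [map_add, ha, hb]
    | tmul c b => rfl
  refine ⟨fun x hx => ?_, fun y => ?_⟩
  · have h1 := hx.map (Algebra.TensorProduct.map C.val (AlgHom.id A B))
    rw [hcomp] at h1
    obtain ⟨n, hn⟩ := h1
    exact ⟨n, hinj Cα (by rw [map_pow, hn, map_zero])⟩
  have hsub : im Cα ≤ im C := Submodule.span_mono (by
    rintro _ ⟨x, rfl⟩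
    exact ⟨Subalgebra.inclusion hle x, rfl⟩)
  have heq : im C ≤ im Cα := by
    have h1 := hmax _ ⟨C, hC, rfl⟩
    have h2 : (im C).comap (LinearMap.range Ψ).subtype = (im Cα).comap (LinearMap.range Ψ).subtype :=
      ((Submodule.comap_mono hsub).eq_of_not_lt h1).symm
    intro z hz
    exact (h2.le (show (⟨z, him C hC hz⟩ : LinearMap.range Ψ) ∈ (im C).comap _ from hz) :)
  have hrange : ∀ z ∈ im Cα, ∃ x : ↥Cα ⊗[A] B, π (Algebra.TensorProduct.map Cα.val (AlgHom.id A B) x) = z := by
    intro z hz
    induction hz using Submodule.span_induction with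
    | mem z hz => obtain ⟨c, rfl⟩ := hz; exact ⟨c ⊗ₜ 1, rfl⟩
    | zero => exact ⟨0, by rw [map_zero, map_zero]⟩
    | add a b _ _ ha hb =>
      obtain ⟨x, rfl⟩ := ha
      obtain ⟨w, rfl⟩ := hb
      exact ⟨x + w, by rw [map_add, map_add]⟩
    | smul b a _ ha =>
      obtain ⟨x, rfl⟩ := ha
      refine ⟨(1 ⊗ₜ b) * x, ?_⟩
      rw [map_mul, Algebra.TensorProduct.map_tmul, map_one, AlgHom.id_apply, Algebra.smul_def, ← π.commutes b, ← map_mul]
      rfl
  obtain ⟨x, hx⟩ := hrange _ (heq (hmemim C y))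
  refine ⟨x, ?_⟩
  obtain ⟨n, hn⟩ := hπ (Algebra.TensorProduct.map C.val (AlgHom.id A B)
    (Algebra.TensorProduct.map (Subalgebra.inclusion hle) (AlgHom.id A B) x - y))
    (by rw [map_sub, map_sub, hcomp, hx, sub_self])
  exact ⟨n, hinj C (by rw [map_pow, hn, map_zero])⟩

/-- The integral closure is radicial over the stable stage. -/
theorem universallyInjective_of_stable [Module.FaithfullyFlat A B] {Cα : Subalgebra A K'} (hCα : IsFinBir A K' Cα)
    (h : ∀ C : Subalgebra A K', IsFinBir A K' C → ∀ hle : Cα ≤ C, ∀ y : ↥C ⊗[A] B, ∃ x : ↥Cα ⊗[A] B,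
      IsNilpotent (Algebra.TensorProduct.map (Subalgebra.inclusion hle) (AlgHom.id A B) x - y))
    (hint : Cα ≤ integralClosure A K') :
    UniversallyInjective (Spec.map (CommRingCat.ofHom (Subalgebra.inclusion hint).toRingHom)) := by
  refine ((tfae_universallyInjective (f := Spec.map (CommRingCat.ofHom (Subalgebra.inclusion hint).toRingHom))).out 0 1).mpr ?_
  intro L _ g₁ g₂ hg
  obtain ⟨f₁, rfl⟩ := Spec.map_surjective g₁
  obtain ⟨f₂, rfl⟩ := Spec.map_surjective g₂
  simp only [← Spec.map_comp] at hg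
  replace hg := congrArg CommRingCat.Hom.hom (Spec.map_injective hg)
  congr 1
  refine CommRingCat.hom_ext (RingHom.ext fun a => ?_)
  -- a field receiving both `L` and `B`
  letI : Algebra A L := (f₁.hom.comp (algebraMap A (integralClosure A K'))).toAlgebra
  haveI : Nontrivial (L ⊗[A] B) := Module.FaithfullyFlat.rTensor_nontrivial A B L
  obtain ⟨m, hm⟩ := Ideal.exists_maximal (L ⊗[A] B)
  letI := Ideal.Quotient.field m
  let jL : L →+* L ⊗[A] B ⧸ m := (Ideal.Quotient.mk m).comp Algebra.TensorProduct.includeLeftRingHom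
  refine jL.injective ?_
  let C := Cα ⊔ Algebra.adjoin A {(a : K')}
  have hC : IsFinBir A K' C := hCα.adjoin a.2
  have hCint : C ≤ integralClosure A K' := sup_le hint (Algebra.adjoin_le (Set.singleton_subset_iff.2 a.2))
  let σ₁ : ↥(integralClosure A K') →ₐ[A] L := { f₁.hom with commutes' := fun _ => rfl }
  have hσ : ∀ c : A, f₂.hom (algebraMap A _ c) = algebraMap A L c := fun c => by
    exact (RingHom.congr_fun hg (algebraMap A Cα c)).symm
  let σ₂ : ↥(integralClosure A K') →ₐ[A] L := { f₂.hom with commutes' := hσ }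
  let ι : L →ₐ[A] L ⊗[A] B ⧸ m := (Ideal.Quotient.mkₐ A m).comp Algebra.TensorProduct.includeLeft
  let jB : B →ₐ[A] L ⊗[A] B ⧸ m := (Ideal.Quotient.mkₐ A m).comp Algebra.TensorProduct.includeRight
  let h₁ : ↥C ⊗[A] B →ₐ[A] L ⊗[A] B ⧸ m :=
    Algebra.TensorProduct.lift ((ι.comp σ₁).comp (Subalgebra.inclusion hCint)) jB fun _ _ => Commute.all _ _
  let h₂ : ↥C ⊗[A] B →ₐ[A] L ⊗[A] B ⧸ m :=
    Algebra.TensorProduct.lift ((ι.comp σ₂).comp (Subalgebra.inclusion hCint)) jB fun _ _ => Commute.all _ _
  let a' : C := ⟨a, SetLike.le_def.mp le_sup_right (Algebra.self_mem_adjoin_singleton A (a : K'))⟩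
  obtain ⟨x, hx⟩ := h C hC le_sup_left (a' ⊗ₜ 1)
  have heq : ∀ x : ↥Cα ⊗[A] B, h₁ (Algebra.TensorProduct.map (Subalgebra.inclusion (le_sup_left : Cα ≤ C)) (AlgHom.id A B) x) =
      h₂ (Algebra.TensorProduct.map (Subalgebra.inclusion (le_sup_left : Cα ≤ C)) (AlgHom.id A B) x) := fun x => by
    induction x using TensorProduct.induction_on with
    | zero => simp only [map_zero]
    | add c d hc hd => simp only [map_add, hc, hd]
    | tmul c b =>
      simp only [h₁, h₂, Algebra.TensorProduct.map_tmul, Algebra.TensorProduct.lift_tmul]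
      refine congrArg (· * jB b) ?_
      exact congrArg ι (RingHom.congr_fun hg c)
  have e1 := (hx.map h₁).eq_zero
  have e2 := (hx.map h₂).eq_zero
  rw [map_sub, sub_eq_zero] at e1 e2
  have e3 := e1.symm.trans ((heq x).trans e2)
  simp only [h₁, h₂, Algebra.TensorProduct.lift_tmul, map_one, mul_one] at e3
  exact e3

end main

end Groth.Agent.GRingCpl
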