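/-
Mori's theorem for Noetherian local domains.
-/
import Mathlib
import Groth.Agent.GRingCpl.RedStages
import Groth.Agent.GRingCpl.Mori
import Groth.Agent.Nagata.FiniteType
import Groth.Agent.Nagata.PowerSeries
import Groth.Agent.DvrDom.KrullAkizuki
import Groth.Prelude.Def_Found

set_option autoImplicit false
set_option linter.style.haveILetI false
universe u

open TensorProduct AlgebraicGeometry CategoryTheory
open scoped nonZeroDivisors

namespace Groth.Agent.GRingCpl

/-- Branches of a Nagata ring are finite. -/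
theorem finite_branch {R : Type u} [CommRing R] (hR : CAlg.IsNagata R) (m : Ideal R) [m.IsPrime] :
    Module.Finite R (integralClosure R m.ResidueField) := by
  let L := m.ResidueField
  letI : Algebra (FractionRing (R ⧸ m)) L := FractionRing.liftAlgebra _ _
  haveI : IsScalarTower (R ⧸ m) (FractionRing (R ⧸ m)) L := FractionRing.isScalarTower_liftAlgebra _ _
  haveI : FiniteDimensional (FractionRing (R ⧸ m)) L := by
    refine Module.Finite.of_surjective (Algebra.linearMap (FractionRing (R ⧸ m)) L) fun z => ?_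
    obtain ⟨n, d, -, rfl⟩ := IsFractionRing.div_surjective (R ⧸ m) z
    refine ⟨algebraMap _ _ n / algebraMap _ _ d, ?_⟩
    show algebraMap (FractionRing (R ⧸ m)) L _ = _
    rw [map_div₀, ← IsScalarTower.algebraMap_apply, ← IsScalarTower.algebraMap_apply]
  haveI : Module.Finite (R ⧸ m) (integralClosure (R ⧸ m) L) := hR.2 m L inferInstance
  haveI : Module.Finite R (integralClosure (R ⧸ m) L) := Module.Finite.trans (R ⧸ m) _
  haveI := hR.1
  refine Module.Finite.of_injective (M := integralClosure R L) (N := integralClosure (R ⧸ m) L)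
    ({ toFun := fun z => ⟨z.1, z.2.tower_top⟩
       map_add' := fun _ _ => rfl
       map_smul' := fun _ _ => rfl } : integralClosure R L →ₗ[R] integralClosure (R ⧸ m) L) fun x y h => Subtype.ext (congrArg (fun w => w.1) h :)

theorem IsFinBir.isFractionRing {A K' : Type u} [CommRing A] [Field K'] [Algebra A K'] {C : Subalgebra A K'}
    (hC : IsFinBir A K' C) : IsFractionRing C K' := by
  haveI : FaithfulSMul C K' := (faithfulSMul_iff_algebraMap_injective _ _).2 Subtype.val_injective
  refine IsFractionRing.of_field C K' fun z => ?_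
  obtain ⟨a, b, hb, he⟩ := hC.2 z
  exact ⟨a, b, (eq_div_iff hb).2 he⟩

/-- The poles of a non-integral element at the stable stage. -/
theorem exists_pole_stable {A K' : Type u} [CommRing A] [IsDomain A] [IsNoetherianRing A] [Field K'] [Algebra A K']
    (B : Type u) [CommRing B] [Algebra A B] [Module.FaithfullyFlat A B] (hB : CAlg.IsNagata B)
    {Cα : Subalgebra A K'} (hCα : IsFinBir A K' Cα)
    (h : ∀ C : Subalgebra A K', IsFinBir A K' C → ∀ hle : Cα ≤ C, ∀ y : ↥C ⊗[A] B, ∃ x : ↥Cα ⊗[A] B,
      IsNilpotent (Algebra.TensorProduct.map (Subalgebra.inclusion hle) (AlgHom.id A B) x - y))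
    (x : K') (hx : ¬ IsIntegral Cα x) :
    ∃ p : Ideal Cα, p.IsPrime ∧ p.height = 1 ∧ ∀ s : Cα, s ∉ p → ¬ IsIntegral Cα (algebraMap Cα K' s * x) := by
  haveI := hCα.1
  haveI := hB.1
  haveI := hCα.isFractionRing
  let R := ↥Cα ⊗[A] B
  haveI : Module.FaithfullyFlat Cα R := inferInstance
  letI : Algebra B R := Algebra.TensorProduct.rightAlgebra
  haveI : Module.Finite B R := by
    haveI : Module.Finite B (B ⊗[A] Cα) := inferInstance
    exact Module.Finite.equiv (AlgEquiv.ofRingEquiv (f := (Algebra.TensorProduct.comm A B Cα).toRingEquiv)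
      (fun _ => rfl) : B ⊗[A] Cα ≃ₐ[B] R).toLinearEquiv
  have hR : CAlg.IsNagata R := Nagata.isNagata_of_finite hB
  haveI : IsNoetherianRing R := hR.1
  refine exists_heightOne_pole (C := Cα) (K := K') (R := R) (fun m _ _ => finite_branch hR m) (fun z hz => ?_) x hx
  haveI : Algebra.IsIntegral A Cα := inferInstance
  have hzA : IsIntegral A z := isIntegral_trans z hz
  let C := Cα ⊔ Algebra.adjoin A {z}
  let z' : C := ⟨z, SetLike.le_def.mp le_sup_right (Algebra.self_mem_adjoin_singleton A z)⟩
  obtain ⟨r, hr⟩ := h C (hCα.adjoin hzA) le_sup_left (z' ⊗ₜ 1)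
  refine ⟨r, fun m _ hm φ => ?_⟩
  let L := m.ResidueField
  let g : ↥C ⊗[A] B →ₐ[A] L := Algebra.TensorProduct.lift ((φ.restrictScalars A).comp C.val)
    ((IsScalarTower.toAlgHom A R L).comp Algebra.TensorProduct.includeRight) fun _ _ => Commute.all _ _
  have hg : ∀ y : R, g (Algebra.TensorProduct.map (Subalgebra.inclusion (le_sup_left : Cα ≤ C)) (AlgHom.id A B) y) =
      algebraMap R L y := fun y => by
    induction y using TensorProduct.induction_on with
    | zero => simp only [map_zero]
    | add a b ha hb => simp only [map_add, ha, hb]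
    | tmul c b =>
      simp only [g, Algebra.TensorProduct.map_tmul, Algebra.TensorProduct.lift_tmul]
      show φ (algebraMap Cα K' c) * algebraMap R L (1 ⊗ₜ b) = algebraMap R L (c ⊗ₜ b)
      rw [φ.commutes, IsScalarTower.algebraMap_apply Cα R L, ← map_mul, Algebra.TensorProduct.algebraMap_apply,
        Algebra.TensorProduct.tmul_mul_tmul, mul_one, one_mul]
      rfl
  have e := (hr.map g).eq_zero
  rw [map_sub, sub_eq_zero, hg] at e
  rw [e, Algebra.TensorProduct.lift_tmul, map_one, mul_one]
  rfl

/-- The valuation ring at a height-one prime of the stable stage. -/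
theorem exists_valuationSubring {A K' : Type u} [CommRing A] [IsNoetherianRing A] [Field K'] [Algebra A K']
    {Cα : Subalgebra A K'} (hCα : IsFinBir A K' Cα) (hint : Cα ≤ integralClosure A K')
    (hUI : UniversallyInjective (Spec.map (CommRingCat.ofHom (Subalgebra.inclusion hint).toRingHom)))
    (p : Ideal Cα) [p.IsPrime] (hp : p.height = 1) :
    ∃ V : ValuationSubring K', IsDiscreteValuationRing V ∧
      ∀ x : K', x ∈ V ↔ ∃ s : Cα, s ∉ p ∧ IsIntegral Cα ((s : K') * x) := by
  classical
  haveI := hCα.1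
  haveI := hCα.isFractionRing
  haveI : IsNoetherianRing Cα := IsNoetherianRing.of_finite A Cα
  let Cp := Localization.AtPrime p
  letI : Algebra Cp K' := (IsLocalization.liftAlgHom (M := p.primeCompl) (f := Algebra.ofId Cα K') (fun y => (isUnit_iff_ne_zero.2
    (fun h => y.2 (by
      have h0 : (y : Cα) = 0 := IsFractionRing.injective Cα K' (h.trans (map_zero _).symm)
      rw [h0]; exact zero_mem _)))) : Cp →ₐ[Cα] K').toRingHom.toAlgebra
  haveI : IsScalarTower Cα Cp K' := IsScalarTower.of_algebraMap_eq fun c => (AlgHom.commutes _ c).symm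
  haveI : IsFractionRing Cp K' := IsFractionRing.isFractionRing_of_isDomain_of_isLocalization p.primeCompl Cp K'
  haveI : Ring.KrullDimLE 1 Cp := (Ring.krullDimLE_iff).2 (by
    rw [IsLocalization.AtPrime.ringKrullDim_eq_height p Cp, hp]; rfl)
  let W := integralClosure Cp K'
  haveI : IsNoetherianRing W := DvrDom.isNoetherianRing_subalgebra W
  have hW : ∀ x : K', x ∈ W ↔ ∃ s : Cα, s ∉ p ∧ IsIntegral Cα ((s : K') * x) := fun x => by
    constructor
    · intro hx
      obtain ⟨s, hs⟩ := IsIntegral.exists_multiple_integral_of_isLocalization p.primeCompl x hx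
      exact ⟨s, s.2, by rwa [Submonoid.smul_def, Algebra.smul_def] at hs⟩
    · rintro ⟨s, hs, hx⟩
      have h1 : IsUnit (algebraMap Cα Cp s) := IsLocalization.map_units Cp (⟨s, hs⟩ : p.primeCompl)
      have h2 : IsIntegral Cp ((s : K') * x) := hx.tower_top
      have h3 := h2.smul (↑h1.unit⁻¹ : Cp)
      rwa [Algebra.smul_def, ← mul_assoc, show (s : K') = algebraMap Cp K' h1.unit by
        rw [IsUnit.unit_spec, ← IsScalarTower.algebraMap_apply]; rfl, ← map_mul, Units.inv_mul, map_one, one_mul] at h3
  have hlies : ∀ P : Ideal W, P.IsMaximal → P.comap (algebraMap Cp W) = IsLocalRing.maximalIdeal Cp := fun P hP =>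
    IsLocalRing.eq_maximalIdeal (Ideal.isMaximal_comap_of_isIntegral_of_isMaximal (R := Cp) (S := W) P)
  let j : ↥(integralClosure A K') →+* W :=
    { toFun := fun a => ⟨a.1, IsIntegral.tower_top (IsIntegral.tower_top (R := A) (A := Cα) a.2)⟩
      map_one' := rfl
      map_mul' := fun _ _ => rfl
      map_zero' := rfl
      map_add' := fun _ _ => rfl }
  haveI : Algebra.IsIntegral A Cα := inferInstance
  have hmax : ∀ P P' : Ideal W, P.IsMaximal → P'.IsMaximal → P ≤ P' := by
    intro P P' hP hP' w hw
    let i : ↥Cα →+* ↥(integralClosure A K') := (Subalgebra.inclusion hint).toRingHom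
    have hcomp : j.comp i = (algebraMap Cp W).comp (algebraMap Cα Cp) := RingHom.ext fun c => Subtype.ext <|
      IsScalarTower.algebraMap_apply Cα Cp K' c
    have hov : ∀ P : Ideal W, P.IsMaximal → (P.comap j).comap i = p := fun P hP => by
      rw [Ideal.comap_comap, hcomp, ← Ideal.comap_comap, hlies P hP]
      exact IsLocalization.AtPrime.under_maximalIdeal Cp p
    haveI := hP.isPrime
    haveI := hP'.isPrime
    have heq : P.comap j = P'.comap j := congrArg PrimeSpectrum.asIdeal <|
      (Spec.map (CommRingCat.ofHom i)).injective (a₁ := ⟨P.comap j, inferInstance⟩) (a₂ := ⟨P'.comap j, inferInstance⟩)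
        (PrimeSpectrum.ext ((hov P hP).trans (hov P' hP').symm))
    obtain ⟨s, hs, hsw⟩ := (hW w.1).1 w.2
    let a : ↥(integralClosure A K') := ⟨(s : K') * w.1, isIntegral_trans _ hsw⟩
    have ha : j a = algebraMap Cp W (algebraMap Cα Cp s) * w := Subtype.ext <| by
      show (s : K') * w.1 = algebraMap Cp K' (algebraMap Cα Cp s) * w.1
      rw [← IsScalarTower.algebraMap_apply]
      rfl
    have h1 : a ∈ P'.comap j := heq ▸ (show a ∈ P.comap j by rw [Ideal.mem_comap, ha]; exact P.mul_mem_left _ hw)
    rw [Ideal.mem_comap, ha] at h1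
    refine (hP'.isPrime.mem_or_mem h1).resolve_left fun h2 => hs ?_
    rw [← IsLocalization.AtPrime.under_maximalIdeal Cp p, ← hlies P' hP']
    exact h2
  haveI : IsLocalRing W := IsLocalRing.of_unique_max_ideal (by
    obtain ⟨P, hP⟩ := Ideal.exists_maximal W
    exact ⟨P, hP, fun P' hP' => le_antisymm (hmax P' P hP' hP) (hmax P P' hP hP')⟩)
  haveI : IsFractionRing W K' := IsFractionRing.of_field W K' fun z => by
    obtain ⟨n, d, -, rfl⟩ := IsFractionRing.div_surjective Cp z
    exact ⟨algebraMap Cp W n, algebraMap Cp W d, rfl⟩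
  have hnf : ¬ IsField W := fun hf => by
    have h1 := hlies (IsLocalRing.maximalIdeal W) inferInstance
    rw [IsLocalRing.isField_iff_maximalIdeal_eq.1 hf, Ideal.comap_bot_of_injective _ (fun a b h =>
      IsFractionRing.injective Cp K' (congrArg Subtype.val h))] at h1
    have h2 := IsLocalization.AtPrime.under_maximalIdeal Cp p
    rw [← h1, Ideal.under_def, Ideal.comap_bot_of_injective _ (IsLocalization.injective Cp p.primeCompl_le_nonZeroDivisors)] at h2
    rw [← h2, Ideal.height_bot] at hp
    exact zero_ne_one hp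
  haveI : IsDiscreteValuationRing W := by
    refine ((IsDiscreteValuationRing.TFAE W hnf).out 0 3).mpr ?_
    refine ⟨(isIntegrallyClosed_iff K').2 fun {z} hz => ⟨⟨z, isIntegral_trans z hz⟩, rfl⟩,
      IsLocalRing.maximalIdeal W, ⟨fun h => hnf (IsLocalRing.isField_iff_maximalIdeal_eq.2 h), inferInstance⟩, ?_⟩
    rintro Q ⟨hQ0, hQ⟩
    haveI := hQ
    have h1 : Q.comap (algebraMap Cp W) ≠ ⊥ := fun h => hQ0 (Ideal.eq_bot_of_comap_eq_bot h)
    haveI : (Q.comap (algebraMap Cp W)).IsMaximal := Ring.krullDimLE_one_iff_of_noZeroDivisors.mp inferInstance _ h1 (Ideal.IsPrime.comap _)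
    exact IsLocalRing.eq_maximalIdeal (Ideal.isMaximal_of_isIntegral_of_isMaximal_comap (R := Cp) Q inferInstance)
  let V : ValuationSubring K' :=
    { W.toSubring with
      mem_or_inv_mem' := fun x => by
        rcases ValuationRing.isInteger_or_isInteger W x with ⟨w, hw⟩ | ⟨w, hw⟩
        · exact Or.inl (hw ▸ w.2)
        · exact Or.inr (hw ▸ w.2) }
  exact ⟨V, inferInstanceAs (IsDiscreteValuationRing W), hW⟩

end Groth.Agent.GRingCpl
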