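/-
Integrality in a Noetherian domain through height-one primes of finite subalgebras.
-/
import Mathlib
import Groth.Agent.GRingCpl.MoriApp

set_option autoImplicit false
set_option linter.style.haveILetI false
universe u

open TensorProduct
open scoped nonZeroDivisors

namespace Groth.Agent.GRingCpl

/-- The pole of a non-integral element over a Noetherian local domain. -/
theorem exists_pole_local (A K : Type u) [CommRing A] [IsDomain A] [IsNoetherianRing A] [IsLocalRing A]
    [Field K] [Algebra A K] [IsFractionRing A K] (x : K) (hx : ¬ IsIntegral A x) :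
    ∃ C : Subalgebra A K, Module.Finite A C ∧ ∃ p : Ideal C, p.IsPrime ∧ p.height = 1 ∧
      ∀ s : C, s ∉ p → ¬ IsIntegral C ((s : K) * x) := by
  letI : Algebra (FractionRing A) K := FractionRing.liftAlgebra A K
  haveI : IsScalarTower A (FractionRing A) K := FractionRing.isScalarTower_liftAlgebra A K
  haveI : FiniteDimensional (FractionRing A) K := by
    refine Module.Finite.of_surjective (Algebra.linearMap (FractionRing A) K) fun z => ?_
    obtain ⟨n, d, -, rfl⟩ := IsFractionRing.div_surjective A z
    refine ⟨algebraMap _ _ n / algebraMap _ _ d, ?_⟩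
    show algebraMap (FractionRing A) K _ = _
    rw [map_div₀, ← IsScalarTower.algebraMap_apply, ← IsScalarTower.algebraMap_apply]
  let Ah := AdicCompletion (IsLocalRing.maximalIdeal A) A
  haveI : IsNoetherianRing Ah := inferInstanceAs (IsNoetherianRing (AdicCompletion (IsLocalRing.maximalIdeal A) A))
  haveI : IsLocalRing Ah := inferInstanceAs (IsLocalRing (AdicCompletion (IsLocalRing.maximalIdeal A) A))
  haveI : IsLocalHom (algebraMap A Ah) := inferInstanceAs (IsLocalHom (algebraMap A (AdicCompletion (IsLocalRing.maximalIdeal A) A)))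
  haveI : Module.Flat A Ah := inferInstanceAs (Module.Flat A (AdicCompletion (IsLocalRing.maximalIdeal A) A))
  haveI : Module.FaithfullyFlat A Ah := Module.FaithfullyFlat.of_flat_of_isLocalHom
  haveI : IsAdicComplete (IsLocalRing.maximalIdeal Ah) Ah :=
    inferInstanceAs (IsAdicComplete (IsLocalRing.maximalIdeal (AdicCompletion (IsLocalRing.maximalIdeal A) A)) (AdicCompletion (IsLocalRing.maximalIdeal A) A))
  have hNag : CAlg.IsNagata Ah := Nagata.isNagata_of_complete Ah
  obtain ⟨C, hC, hst⟩ := exists_stable (A := A) (B := Ah) (K' := K) fun q _ _ => hNag.2 q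
  haveI := hC.1
  haveI : Algebra.IsIntegral A C := inferInstance
  exact ⟨C, hC.1, exists_pole_stable Ah hNag hC (fun C' hC' hle => (hst C' hC' hle).2) x
    fun h => hx (isIntegral_trans x h)⟩

/-- Integrality is decided at the height-one primes when these persist in finite subalgebras. -/
theorem isIntegral_of_forall_heightOne {A K : Type u} [CommRing A] [IsDomain A] [IsNoetherianRing A]
    [Field K] [Algebra A K] [IsFractionRing A K]
    (h : ∀ C : Subalgebra A K, C ≤ integralClosure A K → Module.Finite A C →
      ∀ (q : Ideal C) [q.IsPrime], q.height = 1 → (q.comap (algebraMap A C)).height = 1)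
    (x : K) (hx : ∀ p : Ideal A, p.IsPrime → p.height = 1 → ∃ s ∉ p, IsIntegral A (algebraMap A K s * x)) :
    IsIntegral A x := by
  classical
  let I : Ideal A :=
    { carrier := {c | IsIntegral A (algebraMap A K c * x)}
      add_mem' := fun {a b} ha hb => by
        show IsIntegral A _
        rw [map_add, add_mul]; exact ha.add hb
      zero_mem' := by
        show IsIntegral A _
        rw [map_zero, zero_mul]; exact isIntegral_zero
      smul_mem' := fun a b hb => by
        show IsIntegral A _
        rw [smul_eq_mul, map_mul, mul_assoc]; exact isIntegral_algebraMap.mul hb }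
  suffices hI : I = ⊤ by
    have h1 : IsIntegral A (algebraMap A K 1 * x) := (Ideal.eq_top_iff_one I).1 hI
    rwa [map_one, one_mul] at h1
  by_contra hI
  obtain ⟨m, hm, hIm⟩ := Ideal.exists_le_maximal I hI
  haveI := hm.isPrime
  let Am := Localization.AtPrime m
  have hinj : Function.Injective (algebraMap A K) := IsFractionRing.injective A K
  letI : Algebra Am K := (IsLocalization.liftAlgHom (M := m.primeCompl) (f := Algebra.ofId A K) (fun y => (isUnit_iff_ne_zero.2
    (fun h0 => y.2 (by
      rw [show (y : A) = 0 from hinj (h0.trans (map_zero _).symm)]; exact zero_mem _)))) : Am →ₐ[A] K).toRingHom.toAlgebra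
  haveI : IsScalarTower A Am K := IsScalarTower.of_algebraMap_eq fun c => (AlgHom.commutes _ c).symm
  haveI : IsFractionRing Am K := IsFractionRing.isFractionRing_of_isDomain_of_isLocalization m.primeCompl Am K
  have hxm : ¬ IsIntegral Am x := fun hx' => by
    obtain ⟨s, hs⟩ := IsIntegral.exists_multiple_integral_of_isLocalization m.primeCompl x hx'
    rw [Submonoid.smul_def, Algebra.smul_def] at hs
    exact s.2 (hIm hs)
  obtain ⟨C, hCfin, q, hq, hq1, hpole⟩ := exists_pole_local Am K x hxm
  obtain ⟨S, hS⟩ := (Module.Finite.iff_fg (N := Subalgebra.toSubmodule C)).1 hCfin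
  have hSint : ∀ g ∈ S, IsIntegral Am g := fun g hg => by
    have hgC : g ∈ C := show g ∈ Subalgebra.toSubmodule C from hS ▸ Submodule.subset_span hg
    exact IsIntegral.of_mem_of_fg C ((Module.Finite.iff_fg (N := Subalgebra.toSubmodule C)).1 hCfin) g hgC
  have hmul : ∀ g : S, ∃ t : m.primeCompl, IsIntegral A (t • (g : K)) := fun g =>
    IsIntegral.exists_multiple_integral_of_isLocalization m.primeCompl (g : K) (hSint g g.2)
  choose t ht using hmul
  let C₀ := Algebra.adjoin A (Set.range fun g : S => t g • (g : K))
  have hC₀fin : Module.Finite A C₀ := Module.Finite.iff_fg.2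
    (fg_adjoin_of_finite (Set.finite_range _) (by rintro _ ⟨g, rfl⟩; exact ht g))
  have hC₀int : C₀ ≤ integralClosure A K := Algebra.adjoin_le (by rintro _ ⟨g, rfl⟩; exact ht g)
  have hC₀C : C₀ ≤ C.restrictScalars A := Algebra.adjoin_le (by
    rintro _ ⟨g, rfl⟩
    have hgC : (g : K) ∈ C := show (g : K) ∈ Subalgebra.toSubmodule C from hS ▸ Submodule.subset_span g.2
    show (t g : A) • (g : K) ∈ C
    rw [Algebra.smul_def, IsScalarTower.algebraMap_apply A Am K]
    exact mul_mem (C.algebraMap_mem _) hgC)
  let ι : ↥C₀ →+* ↥C := (Subalgebra.inclusion hC₀C).toRingHom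
  letI : Algebra C₀ C := ι.toAlgebra
  haveI : IsLocalization (Algebra.algebraMapSubmonoid C₀ m.primeCompl) C := by
    have hclear : ∀ z ∈ C, ∃ s ∈ m.primeCompl, algebraMap A K s * z ∈ C₀ := by
      suffices H : ∀ z ∈ Submodule.span Am (S : Set K), ∃ s ∈ m.primeCompl, algebraMap A K s * z ∈ C₀ from
        fun z hz => H z (hS.ge hz)
      intro z hz
      induction hz using Submodule.span_induction with
      | mem g hg =>
        refine ⟨t ⟨g, hg⟩, (t ⟨g, hg⟩).2, ?_⟩
        rw [← Algebra.smul_def]
        exact Algebra.subset_adjoin ⟨⟨g, hg⟩, rfl⟩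
      | zero => exact ⟨1, one_mem _, by rw [mul_zero]; exact zero_mem _⟩
      | add y z hy hz ihy ihz =>
        obtain ⟨s, hs, hsy⟩ := ihy
        obtain ⟨s', hs', hsz⟩ := ihz
        refine ⟨s * s', mul_mem hs hs', ?_⟩
        rw [map_mul, show algebraMap A K s * algebraMap A K s' * (y + z) =
          algebraMap A K s' * (algebraMap A K s * y) + algebraMap A K s * (algebraMap A K s' * z) by ring]
        exact add_mem (mul_mem (C₀.algebraMap_mem _) hsy) (mul_mem (C₀.algebraMap_mem _) hsz)
      | smul a y hy ihy =>
        obtain ⟨s, hs, hsy⟩ := ihy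
        obtain ⟨⟨n, d⟩, hnd⟩ := IsLocalization.surj m.primeCompl a
        refine ⟨d * s, mul_mem d.2 hs, ?_⟩
        have hnd' : algebraMap Am K a * algebraMap A K d = algebraMap A K n := by
          rw [IsScalarTower.algebraMap_apply A Am K, IsScalarTower.algebraMap_apply A Am K n, ← map_mul, hnd]
        rw [Algebra.smul_def, map_mul, show algebraMap A K d * algebraMap A K s * (algebraMap Am K a * y) =
          (algebraMap Am K a * algebraMap A K d) * (algebraMap A K s * y) by ring, hnd']
        exact mul_mem (C₀.algebraMap_mem _) hsy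
    refine { map_units := ?_, surj := ?_, exists_of_eq := ?_ }
    · rintro ⟨_, ⟨s, hs, rfl⟩⟩
      have h1 : IsUnit (algebraMap A Am s) := IsLocalization.map_units Am (⟨s, hs⟩ : m.primeCompl)
      have h2 := h1.map (algebraMap Am C)
      rwa [show algebraMap C₀ C (algebraMap A C₀ s) = algebraMap Am C (algebraMap A Am s) from
        Subtype.ext (IsScalarTower.algebraMap_apply A Am K s :)]
    · intro z
      obtain ⟨s, hs, hsz⟩ := hclear z.1 z.2
      refine ⟨⟨⟨_, hsz⟩, ⟨algebraMap A C₀ s, s, hs, rfl⟩⟩, Subtype.ext ?_⟩
      show (z : K) * algebraMap A K s = algebraMap A K s * z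
      rw [mul_comm]
    · intro a b hab
      exact ⟨1, by rw [show a = b from Subtype.ext (congrArg Subtype.val hab :)]⟩
  haveI : (q.comap ι).IsPrime := Ideal.IsPrime.comap _
  have hh : (q.comap ι).height = 1 :=
    (IsLocalization.height_under (Algebra.algebraMapSubmonoid C₀ m.primeCompl) q).trans hq1
  obtain ⟨s, hs, hsx⟩ := hx ((q.comap ι).comap (algebraMap A C₀)) (Ideal.IsPrime.comap _) (h C₀ hC₀int hC₀fin _ hh)
  have hs' : ι (algebraMap A C₀ s) ∉ q := hs
  exact hpole _ hs' hsx.tower_top

end Groth.Agent.GRingCpl
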