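/-
Noetherian semilocal G-rings are J-2.
-/
import Mathlib
import Groth.Agent.GRingCpl.OpenLoci
import Groth.Agent.GRingCpl.Excellent
import Groth.Agent.GRingCpl.GRingEss
import Groth.Agent.S0600
import Groth.Agent.S2617
import Groth.Agent.S9250
import Groth.Agent.SerreReg.Descent
import Groth.Agent.GeomProp.RegLocal
import Groth.Agent.GRingCpl.PFibreInst

set_option autoImplicit false
set_option linter.style.haveILetI false
universe u

open IsLocalRing

namespace Groth.Agent.GRingCpl

/-- The regular locus is preserved and reflected by a regular map. -/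
theorem mem_regLocus_iff_of_isRegularHom {R S : Type u} [CommRing R] [CommRing S] [Algebra R S] [IsNoetherianRing R]
    [IsNoetherianRing S] (h : CAlg.IsRegularHom R S) (P : PrimeSpectrum S) :
    P ∈ EGA4.regLocus S ↔ PrimeSpectrum.comap (algebraMap R S) P ∈ EGA4.regLocus R := by
  let p := P.asIdeal.comap (algebraMap R S)
  letI := (Localization.localRingHom p P.asIdeal (algebraMap R S) rfl).toAlgebra
  haveI : IsLocalHom (algebraMap (Localization.AtPrime p) (Localization.AtPrime P.asIdeal)) :=
    Localization.isLocalHom_localRingHom _ _ _ _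
  have h' := (GeomProp.regular_iff_localRingHom R S).1.mp h P.asIdeal
  haveI : Module.Flat (Localization.AtPrime p) (Localization.AtPrime P.asIdeal) := h'.1
  refine ⟨fun hP => ?_, fun hP => ?_⟩
  · haveI : IsRegularLocalRing (Localization.AtPrime P.asIdeal) := hP
    exact SerreReg.isRegularLocalRing_of_flat (Localization.AtPrime p) (Localization.AtPrime P.asIdeal)
  · haveI : IsRegularLocalRing (Localization.AtPrime p) := hP
    haveI := SerreReg.isRegularRing_of_isRegularLocalRing (Localization.AtPrime p)
    haveI := S9250.result (Localization.AtPrime p) (Localization.AtPrime P.asIdeal) h'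
    haveI := IsRegularRing.isRegularLocalRing_localization (R := Localization.AtPrime P.asIdeal) (maximalIdeal _)
    exact IsRegularLocalRing.of_ringEquiv
      (R := Localization.AtPrime (maximalIdeal (Localization.AtPrime P.asIdeal))) (atMaximalEquiv _).symm

/-- The regular locus of a local G-ring is open. -/
theorem isOpen_regLocus_of_isGRing (R : Type u) [CommRing R] [IsLocalRing R] (hR : CAlg.IsGRing R) :
    IsOpen (EGA4.regLocus R) := by
  haveI := hR.1
  haveI : IsNoetherianRing (EGA4.Cpl R) := AdicBasics.isNoetherianRing_completion R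
  haveI : IsAdicComplete (maximalIdeal (EGA4.Cpl R)) (EGA4.Cpl R) :=
    (inferInstance : IsAdicComplete (maximalIdeal (AdicCompletion (maximalIdeal R) R)) (AdicCompletion (maximalIdeal R) R))
  refine isOpen_of_preimage_cpl _ ?_
  rw [show PrimeSpectrum.comap (algebraMap R (EGA4.Cpl R)) ⁻¹' EGA4.regLocus R = EGA4.regLocus (EGA4.Cpl R) from
    Set.ext fun P => (mem_regLocus_iff_of_isRegularHom (S0600.result R hR (maximalIdeal R)) P).symm]
  exact isJ2_of_complete (EGA4.Cpl R) (EGA4.Cpl R) inferInstance

/-- A Noetherian semilocal G-ring is J-2. -/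
theorem isJ2_of_isGRing_of_semilocal (R : Type u) [CommRing R] [IsNoetherianRing R]
    (hsemi : Finite (MaximalSpectrum R)) (hR : CAlg.IsGRing R) : EGA4.IsJ2 R := by
  classical
  refine (S2617.result R).mpr fun C _ _ _ hfin => ?_
  haveI := hfin
  have hC : CAlg.IsGRing C := isGRing_essFiniteType R C hR
  haveI := hC.1
  haveI := hsemi
  haveI : Algebra.IsIntegral R C := Algebra.IsIntegral.of_finite R C
  haveI : Finite (MaximalSpectrum C) := by
    let g : MaximalSpectrum C → MaximalSpectrum R := fun M =>
      ⟨M.asIdeal.comap (algebraMap R C),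
        Ideal.isMaximal_comap_of_isIntegral_of_isMaximal (R := R) M.asIdeal⟩
    have hg : ∀ m : MaximalSpectrum R, (g ⁻¹' {m}).Finite := fun m =>
      ((Algebra.QuasiFinite.finite_primesOver (R := R) (S := C) m.asIdeal).preimage
        (f := MaximalSpectrum.asIdeal) fun _ _ _ _ h => MaximalSpectrum.ext h).subset fun M hM =>
          ⟨M.isMaximal.isPrime, ⟨(congrArg MaximalSpectrum.asIdeal (show g M = m from hM)).symm⟩⟩
    have : (Set.univ : Set (MaximalSpectrum C)).Finite :=
      (Set.finite_iUnion hg).subset fun M _ => Set.mem_iUnion.mpr ⟨g M, rfl⟩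
    exact Set.finite_univ_iff.mp this
  haveI := Fintype.ofFinite (MaximalSpectrum C)
  have key : ∀ M : MaximalSpectrum C, ∃ f : C, f ≠ 0 ∧ ∀ P : PrimeSpectrum C, P.asIdeal ≤ M.asIdeal →
      f ∉ P.asIdeal → P ∈ EGA4.regLocus C := fun M => by
    let CM := Localization.AtPrime M.asIdeal
    haveI : IsDomain CM := IsLocalization.isDomain_localization M.asIdeal.primeCompl_le_nonZeroDivisors
    obtain ⟨f, hf, hsub⟩ := RegLocus.exists_ne_zero_of_isOpen
      (isOpen_regLocus_of_isGRing CM (isGRing_essFiniteType C CM hC))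
    obtain ⟨⟨a, s⟩, hfa⟩ := IsLocalization.surj M.asIdeal.primeCompl f
    refine ⟨a, fun h0 => hf ?_, fun P hP ha => ?_⟩
    · rw [h0, map_zero] at hfa
      exact (IsLocalization.map_units CM s).mul_left_eq_zero.mp hfa
    · have hdisj : Disjoint (M.asIdeal.primeCompl : Set C) P.asIdeal :=
        Set.disjoint_left.2 fun x hx hxP => hx (hP hxP)
      let Q : PrimeSpectrum CM := ⟨P.asIdeal.map (algebraMap C CM),
        IsLocalization.isPrime_of_isPrime_disjoint _ CM P.asIdeal P.isPrime hdisj⟩
      have hQ : Q.asIdeal.comap (algebraMap C CM) = P.asIdeal :=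
        IsLocalization.under_map_of_isPrime_disjoint _ CM P.isPrime hdisj
      haveI := Q.isPrime
      have hQreg : Q ∈ EGA4.regLocus CM := by
        refine hsub Q (fun hfQ => ha ?_)
        rw [← hQ, Ideal.mem_comap, ← hfa]
        exact Q.asIdeal.mul_mem_right _ hfQ
      haveI : IsRegularLocalRing (Localization.AtPrime Q.asIdeal) := hQreg
      haveI := IsLocalization.isLocalization_isLocalization_atPrime_isLocalization M.asIdeal.primeCompl
        (Localization.AtPrime Q.asIdeal) Q.asIdeal
      show IsRegularLocalRing (Localization.AtPrime P.asIdeal)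
      have e := regEquiv (Q.asIdeal.comap (algebraMap C CM)) P.asIdeal hQ (Localization.AtPrime Q.asIdeal)
      exact IsRegularLocalRing.of_ringEquiv (R := Localization.AtPrime Q.asIdeal) e.some
  choose f hf hreg using key
  refine ⟨PrimeSpectrum.basicOpen (∏ M, f M), (PrimeSpectrum.basicOpen _).isOpen, ⟨⟨⊥, Ideal.isPrime_bot⟩, ?_⟩, ?_⟩
  · show ∏ M, f M ∉ (⊥ : Ideal C)
    rw [Ideal.mem_bot]
    exact Finset.prod_ne_zero_iff.mpr fun M _ => hf M
  · intro P hP
    obtain ⟨M, hM, hle⟩ := Ideal.exists_le_maximal P.asIdeal P.isPrime.ne_top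
    refine hreg ⟨M, hM⟩ P hle fun h => hP ?_
    exact Ideal.mem_of_dvd _ (Finset.dvd_prod_of_mem f (Finset.mem_univ ⟨M, hM⟩)) h
where
  regEquiv {C : Type u} [CommRing C] (q p : Ideal C) [q.IsPrime] [p.IsPrime] (h : q = p) (L : Type u) [CommRing L]
      [Algebra C L] [IsLocalization.AtPrime L q] : Nonempty (L ≃+* Localization.AtPrime p) := by
    subst h
    exact ⟨(IsLocalization.algEquiv q.primeCompl L (Localization.AtPrime q)).toRingEquiv⟩

end Groth.Agent.GRingCpl
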