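/-
Regularity from the closed fibres of all the local homomorphisms.
-/
import Mathlib
import Groth.Agent.GeomProp.RegLocal

set_option autoImplicit false
set_option linter.style.haveILetI false
universe u

open IsLocalRing TensorProduct
open Groth.Agent.GeomProp (tensor_localization isPushout_self exists_fibre_equiv_tensor)

namespace Groth.Agent.GRingCpl

/-- A map is regular as soon as all its local homomorphisms are flat with geometrically regular closed fibre. -/
theorem isRegularHom_of_local_closedFibres (R Λ : Type u) [CommRing R] [CommRing Λ] [Algebra R Λ] [IsNoetherianRing Λ]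
    (h : ∀ (n : Ideal Λ) [n.IsPrime],
      letI := (Localization.localRingHom (Ideal.comap (algebraMap R Λ) n) n (algebraMap R Λ) rfl).toAlgebra
      Module.Flat (Localization.AtPrime (Ideal.comap (algebraMap R Λ) n)) (Localization.AtPrime n) ∧
        CAlg.IsGeometricallyRegular (maximalIdeal (Localization.AtPrime (Ideal.comap (algebraMap R Λ) n))).ResidueField
          ((maximalIdeal (Localization.AtPrime (Ideal.comap (algebraMap R Λ) n))).Fiber (Localization.AtPrime n))) :
    CAlg.IsRegularHom R Λ := by
  have hflat : ∀ (n : Ideal Λ) [n.IsMaximal], Module.Flat R (Localization.AtPrime n) := fun n _ => by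
    letI := (Localization.localRingHom (Ideal.comap (algebraMap R Λ) n) n (algebraMap R Λ) rfl).toAlgebra
    haveI : IsScalarTower R (Localization.AtPrime (n.comap (algebraMap R Λ))) (Localization.AtPrime n) :=
      IsScalarTower.of_algebraMap_eq fun r => by
        rw [RingHom.algebraMap_toAlgebra, Localization.localRingHom_to_map, ← IsScalarTower.algebraMap_apply]
    exact (Module.flat_iff_of_isLocalization _ (n.comap (algebraMap R Λ)).primeCompl _).1 (h n).1
  refine ⟨Module.flat_of_isLocalized_maximal (R := R) (S := Λ) (M := Λ) (fun n => Localization.AtPrime n)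
    (fun n _ => Algebra.linearMap Λ (Localization.AtPrime n)) hflat,
    fun p _ => ⟨FlatDepth.isNoetherianRing_tensor_essFinite R Λ p.ResidueField, fun K _ _ hK => ?_⟩⟩
  letI : Algebra R K := ((algebraMap p.ResidueField K).comp (algebraMap R p.ResidueField)).toAlgebra
  haveI : IsScalarTower R p.ResidueField K := IsScalarTower.of_algebraMap_eq fun _ => rfl
  haveI := hK
  haveI : Algebra.EssFiniteType R K := Algebra.EssFiniteType.comp R p.ResidueField K
  obtain ⟨e⟩ := exists_fibre_equiv_tensor p Λ K
  haveI : IsNoetherianRing (Λ ⊗[R] K) := Algebra.EssFiniteType.isNoetherianRing Λ (Λ ⊗[R] K)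
  refine FlatDepth.isRegularRing_of_equiv _ _ e.symm (isRegularRing_iff.2 fun P _ => ?_)
  let n : Ideal Λ := P.comap (algebraMap Λ (Λ ⊗[R] K))
  have hle : n ≤ P.comap (algebraMap Λ (Λ ⊗[R] K)) := le_rfl
  haveI : n.IsPrime := Ideal.comap_isPrime _ _
  letI := (Localization.localRingHom (Ideal.comap (algebraMap R Λ) n) n (algebraMap R Λ) rfl).toAlgebra
  let R' := Localization.AtPrime (n.comap (algebraMap R Λ))
  let Λ' := Localization.AtPrime n
  haveI : IsScalarTower R R' Λ' := IsScalarTower.of_algebraMap_eq fun r => by
    rw [RingHom.algebraMap_toAlgebra, Localization.localRingHom_to_map, ← IsScalarTower.algebraMap_apply]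
  have hpP : p = P.comap (algebraMap R (Λ ⊗[R] K)) := by
    have hker : RingHom.ker (algebraMap R K) = p := by
      rw [IsScalarTower.algebraMap_eq R p.ResidueField K, ← RingHom.comap_ker,
        (RingHom.injective_iff_ker_eq_bot _).1 (algebraMap p.ResidueField K).injective, ← RingHom.ker_eq_comap_bot,
        Ideal.ker_algebraMap_residueField]
    have hbot : P.comap ((Algebra.TensorProduct.includeRight : K →ₐ[R] Λ ⊗[R] K).toRingHom) = ⊥ :=
      (Ideal.eq_bot_or_top _).resolve_right Ideal.IsPrime.ne_top'
    rw [← hker, RingHom.ker_eq_comap_bot, ← hbot, Ideal.comap_comap,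
      ← (Algebra.TensorProduct.includeRight : K →ₐ[R] Λ ⊗[R] K).comp_algebraMap]
    rfl
  have hpm : p ≤ n.comap (algebraMap R Λ) := by
    rw [hpP, IsScalarTower.algebraMap_eq R Λ, ← Ideal.comap_comap]
  have hdisj : Disjoint ((n.comap (algebraMap R Λ)).primeCompl : Set R) p :=
    Set.disjoint_left.2 fun a ha hap => ha (hpm hap)
  let q := p.map (algebraMap R R')
  haveI : q.IsPrime := IsLocalization.isPrime_of_isPrime_disjoint _ R' p inferInstance hdisj
  have hq : q.comap (algebraMap R R') = p := IsLocalization.under_map_of_isPrime_disjoint _ R' inferInstance hdisj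
  obtain ⟨hs, _⟩ := isPushout_self (R := R) (R' := R') (Λ' := Λ') (n.comap (algebraMap R Λ)).primeCompl
  let φ := Ideal.ResidueField.map p q (algebraMap R R') hq.symm
  have hφ : Function.Bijective φ := hs.residueFieldMap_bijective p q hq.symm
  let ψ : q.ResidueField →+* K := (algebraMap p.ResidueField K).comp (RingEquiv.ofBijective φ hφ).symm.toRingHom
  letI : Algebra q.ResidueField K := ψ.toAlgebra
  letI : Algebra p.ResidueField q.ResidueField := φ.toAlgebra
  haveI : IsScalarTower p.ResidueField q.ResidueField K := IsScalarTower.of_algebraMap_eq fun c => by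
    show algebraMap p.ResidueField K c = algebraMap p.ResidueField K ((RingEquiv.ofBijective φ hφ).symm (φ c))
    rw [show (RingEquiv.ofBijective φ hφ).symm (φ c) = c from (RingEquiv.ofBijective φ hφ).symm_apply_apply c]
  haveI : Module.Finite q.ResidueField K := Module.Finite.of_restrictScalars_finite p.ResidueField q.ResidueField K
  letI : Algebra R' K := ((algebraMap q.ResidueField K).comp (algebraMap R' q.ResidueField)).toAlgebra
  haveI : IsScalarTower R' q.ResidueField K := IsScalarTower.of_algebraMap_eq fun _ => rfl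
  haveI : IsScalarTower R R' K := IsScalarTower.of_algebraMap_eq fun a => by
    show algebraMap R K a = algebraMap q.ResidueField K (algebraMap R' q.ResidueField (algebraMap R R' a))
    rw [show algebraMap R' q.ResidueField (algebraMap R R' a) = φ (algebraMap R p.ResidueField a) from
      (Ideal.ResidueField.map_algebraMap _ _ _ _ _).symm,
      show φ (algebraMap R p.ResidueField a) = algebraMap p.ResidueField q.ResidueField (algebraMap R p.ResidueField a)
        from rfl, ← IsScalarTower.algebraMap_apply, ← IsScalarTower.algebraMap_apply]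
  have hqm : q = maximalIdeal R' := by
    have hpn : p = n.comap (algebraMap R Λ) := by
      rw [hpP, IsScalarTower.algebraMap_eq R Λ, ← Ideal.comap_comap]
    exact (congrArg (Ideal.map (algebraMap R R')) hpn).trans Localization.AtPrime.map_eq_maximalIdeal
  have key : ∀ (Q : Ideal R') [Q.IsPrime], Q = maximalIdeal R' →
      CAlg.IsGeometricallyRegular Q.ResidueField (Q.Fiber Λ') := by
    intro Q _ hQ; subst hQ; exact (h n).2
  have h1 : IsRegularRing (K ⊗[q.ResidueField] q.Fiber Λ') := key q hqm K inferInstance
  let e' : (K ⊗[q.ResidueField] q.Fiber Λ') ≃+* (Λ' ⊗[R] K) :=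
    ((Algebra.TensorProduct.cancelBaseChange R' q.ResidueField K K Λ').toRingEquiv.trans
      ((Algebra.TensorProduct.congr (AlgEquiv.refl (R := R') (A₁ := K))
        (Algebra.IsPushout.equiv R R' Λ' Λ')).symm.toRingEquiv.trans
      (Algebra.TensorProduct.cancelBaseChange R R' K K Λ').toRingEquiv)).trans
    (Algebra.TensorProduct.comm R K Λ').toRingEquiv
  haveI h2 : IsRegularRing (Λ' ⊗[R] K) := FlatDepth.isRegularRing_of_equiv _ _ e' h1
  obtain ⟨_, _, hloc⟩ := tensor_localization (R := R) (Λ := Λ) (Λ' := Λ') n.primeCompl K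
  let M := Algebra.algebraMapSubmonoid (Λ ⊗[R] K) n.primeCompl
  have hdisj' : Disjoint (M : Set (Λ ⊗[R] K)) P := by
    rw [Set.disjoint_left]
    rintro _ ⟨b, hb, rfl⟩ hbq
    exact hb hbq
  haveI := IsLocalization.isPrime_of_isPrime_disjoint M (Λ' ⊗[R] K) P inferInstance hdisj'
  let Q := P.map (algebraMap (Λ ⊗[R] K) (Λ' ⊗[R] K))
  have h3 : Q.comap (algebraMap (Λ ⊗[R] K) (Λ' ⊗[R] K)) = P :=
    IsLocalization.under_map_of_isPrime_disjoint M _ inferInstance hdisj'
  haveI := IsLocalization.isLocalization_isLocalization_atPrime_isLocalization M (Localization.AtPrime Q) Q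
  haveI := h2.isRegularLocalRing_localization Q
  exact IsRegularLocalRing.of_ringEquiv (R := Localization.AtPrime Q)
    ((IsLocalization.algEquiv (Q.comap (algebraMap (Λ ⊗[R] K) (Λ' ⊗[R] K))).primeCompl
        (Localization.AtPrime Q) (Localization.AtPrime (Q.comap (algebraMap (Λ ⊗[R] K) (Λ' ⊗[R] K))))).toRingEquiv.trans
      (IsLocalization.ringEquivOfRingEquiv (M := (Q.comap (algebraMap (Λ ⊗[R] K) (Λ' ⊗[R] K))).primeCompl)
        (T := P.primeCompl) _ (Localization.AtPrime P) (RingEquiv.refl _) (by
          ext x
          simp only [Submonoid.mem_map, Ideal.mem_primeCompl_iff]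
          rw [h3]
          exact ⟨fun ⟨y, hy, hyx⟩ => hyx ▸ hy, fun hx => ⟨x, hx, rfl⟩⟩)))

end Groth.Agent.GRingCpl
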