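/-
Lifting along small extensions of Artinian rings suffices for adic formal smoothness.
-/
import Mathlib
import Groth.Prelude.Def_CAlgX

set_option autoImplicit false
set_option linter.style.haveILetI false
universe u

open IsLocalRing MvPolynomial

namespace Groth.Agent.GRingCpl

/-- Lifts along small extensions of Artinian local rings exist. -/
def SmallLift (R S : Type u) [CommRing R] [CommRing S] [IsLocalRing S] [Algebra R S] : Prop :=
  ∀ (A : Type u) [CommRing A] [IsLocalRing A] [IsArtinianRing A] [Algebra R A]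
    [IsLocalHom (algebraMap R A)] (J : Ideal A), J ^ 2 = ⊥ → Module.length A J = 1 →
    ∀ [IsLocalRing (A ⧸ J)] (ψ : S →ₐ[R] A ⧸ J) [IsLocalHom ψ.toRingHom],
      Function.Bijective (ResidueField.map ψ.toRingHom) →
      ∃ χ : S →ₐ[R] A, (Ideal.Quotient.mkₐ R J).comp χ = ψ

variable {R S : Type u} [CommRing R] [CommRing S] [Algebra R S]

/-- First order Taylor expansion of algebra maps congruent modulo a square-zero ideal. -/
theorem taylor_one {σ A : Type u} [CommRing A] [Algebra R A] (J : Ideal A) (hJ : J ^ 2 = ⊥)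
    (g₁ g₂ : MvPolynomial σ R →ₐ[R] A) (h : ∀ s, g₂ (X s) - g₁ (X s) ∈ J) (p : MvPolynomial σ R) :
    g₂ p - g₁ p ∈ J ∧ ∀ t : Finset σ, p.vars ⊆ t →
      g₂ p = g₁ p + ∑ s ∈ t, g₁ (pderiv s p) * (g₂ (X s) - g₁ (X s)) := by
  classical
  let G : MvPolynomial σ R →ₐ[R] A := g₁
  have hsq : ∀ a ∈ J, ∀ b ∈ J, a * b = 0 := fun a ha b hb => by
    have h1 : a * b ∈ J ^ 2 := by rw [pow_two]; exact Ideal.mul_mem_mul ha hb
    rwa [hJ, Submodule.mem_bot] at h1
  have hcong : ∀ p, g₂ p - g₁ p ∈ J := fun p => by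
    have heq : (Ideal.Quotient.mkₐ R J).comp g₂ = (Ideal.Quotient.mkₐ R J).comp g₁ :=
      MvPolynomial.algHom_ext fun s => Ideal.Quotient.eq.2 (h s)
    exact Ideal.Quotient.eq.1 (AlgHom.congr_fun heq p)
  refine ⟨hcong p, fun t ht => ?_⟩
  suffices H : ∀ q : MvPolynomial σ R, q ∈ Algebra.adjoin R (X '' (t : Set σ)) →
      g₂ q = g₁ q + ∑ s ∈ t, g₁ (pderiv s q) * (g₂ (X s) - g₁ (X s)) by
    exact H p (MvPolynomial.supported_eq_adjoin_X (R := R) (s := (t : Set σ)) ▸
      (MvPolynomial.mem_supported.2 (Finset.coe_subset.2 ht)))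
  intro q hq
  induction hq using Algebra.adjoin_induction with
  | mem x hx =>
    obtain ⟨s, hs, rfl⟩ := hx
    rw [Finset.sum_eq_single s]
    · rw [pderiv_X_self, map_one, one_mul, add_sub_cancel]
    · intro b _ hb
      rw [pderiv_X_of_ne hb.symm, map_zero, zero_mul]
    · exact fun hne => absurd hs hne
  | algebraMap r =>
    simp only [AlgHom.commutes, MvPolynomial.algebraMap_eq, pderiv_C, map_zero, zero_mul, Finset.sum_const_zero, add_zero]
    rw [← MvPolynomial.algebraMap_eq, AlgHom.commutes, AlgHom.commutes]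
  | add x y _ _ hx hy =>
    simp only [map_add, hx, hy, add_mul, Finset.sum_add_distrib]
    ring
  | mul x y _ _ hx hy =>
    have h0 : (g₂ x - g₁ x) * (g₂ y - g₁ y) = 0 := hsq _ (hcong x) _ (hcong y)
    simp only [map_mul, pderiv_mul, map_add, add_mul, Finset.sum_add_distrib]
    have e1 : ∑ s ∈ t, g₁ (pderiv s x) * g₁ y * (g₂ (X s) - g₁ (X s)) = g₁ y * (g₂ x - g₁ x) := by
      rw [show g₂ x - g₁ x = ∑ s ∈ t, g₁ (pderiv s x) * (g₂ (X s) - g₁ (X s)) by rw [hx, add_sub_cancel_left],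
        Finset.mul_sum]
      exact Finset.sum_congr rfl fun s _ => by ring
    have e2 : ∑ s ∈ t, g₁ x * g₁ (pderiv s y) * (g₂ (X s) - g₁ (X s)) = g₁ x * (g₂ y - g₁ y) := by
      rw [show g₂ y - g₁ y = ∑ s ∈ t, g₁ (pderiv s y) * (g₂ (X s) - g₁ (X s)) by rw [hy, add_sub_cancel_left],
        Finset.mul_sum]
      exact Finset.sum_congr rfl fun s _ => by ring
    rw [e1, e2]
    linear_combination h0

section step

variable [IsLocalRing R] [IsLocalRing S] [IsNoetherianRing S] [IsLocalHom (algebraMap R S)]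

/-- Lifting when the map is surjective and the maximal ideal kills the kernel. -/
theorem lift_of_surjective (hS : SmallLift R S) (A : Type u) [CommRing A] [Algebra R A] [Nontrivial A]
    (J : Ideal A) (hJ2 : J ^ 2 = ⊥) (ψ : S →ₐ[R] A ⧸ J) (hψ : Function.Surjective ψ)
    (k : ℕ) (hk : ∀ x ∈ maximalIdeal S ^ k, ψ x = 0)
    (hJ : ∀ a : A, (∃ x ∈ maximalIdeal S, ψ x = Ideal.Quotient.mk J a) → ∀ j ∈ J, a * j = 0) :
    ∃ χ : S →ₐ[R] A, (Ideal.Quotient.mkₐ R J).comp χ = ψ := by
  classical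
  haveI : Nontrivial (A ⧸ J) := Ideal.Quotient.nontrivial_iff.mpr fun h => one_ne_zero (α := A) (by
    have h1 : (1 : A) ∈ J ^ 2 := by rw [h, ← Ideal.one_eq_top, one_pow, Ideal.one_eq_top]; trivial
    rwa [hJ2, Submodule.mem_bot] at h1)
  haveI : IsLocalRing (A ⧸ J) := IsLocalRing.of_surjective' ψ.toRingHom hψ
  haveI : IsLocalHom ψ.toRingHom := IsLocalHom.of_surjective ψ.toRingHom hψ
  haveI : IsLocalRing A := by
    refine IsLocalRing.of_isUnit_or_isUnit_one_sub_self fun a => ?_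
    have hnil : ∀ b : A, IsUnit (Ideal.Quotient.mk J b) → IsUnit b := fun b hb => by
      obtain ⟨c, hc⟩ := Ideal.Quotient.mk_surjective (↑hb.unit⁻¹ : A ⧸ J)
      have h1 : b * c - 1 ∈ J := Ideal.Quotient.eq.1 (by rw [map_mul, hc, map_one]; exact hb.mul_val_inv)
      have h2 : (b * c - 1) ^ 2 = 0 := by
        have := Ideal.pow_mem_pow h1 2
        rwa [hJ2, Submodule.mem_bot] at this
      refine isUnit_iff_exists_inv.2 ⟨c * (2 - b * c), ?_⟩
      linear_combination (-1 : A) * h2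
    rcases IsLocalRing.isUnit_or_isUnit_one_sub_self (Ideal.Quotient.mk J a) with h | h
    · exact Or.inl (hnil a h)
    · exact Or.inr (hnil _ (by rwa [map_sub, map_one]))
  haveI hmkloc : IsLocalHom (Ideal.Quotient.mk J) := IsLocalHom.of_surjective _ Ideal.Quotient.mk_surjective
  have hmax : maximalIdeal A = (maximalIdeal (A ⧸ J)).comap (Ideal.Quotient.mk J) := by
    ext a
    rw [Ideal.mem_comap, mem_maximalIdeal, mem_maximalIdeal, mem_nonunits_iff, mem_nonunits_iff, isUnit_map_iff]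
  have hM : ∀ a ∈ maximalIdeal A, ∀ j ∈ J, a * j = 0 := fun a ha => by
    obtain ⟨x, hx⟩ := hψ (Ideal.Quotient.mk J a)
    refine hJ a ⟨x, ?_, hx⟩
    rw [hmax, Ideal.mem_comap, ← hx] at ha
    rw [mem_maximalIdeal, mem_nonunits_iff] at ha ⊢
    exact fun hu => ha (hu.map ψ.toRingHom)
  -- the kernel as a vector space
  let F := ResidueField A
  letI : Module F J := Module.IsTorsionBySet.module (I := maximalIdeal A) fun j a => Subtype.ext (hM a a.2 j j.2)
  haveI : IsScalarTower A F J := Module.IsTorsionBySet.isScalarTower _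
  have hsmul : ∀ (a : A) (j : J), residue A a • j = a • j := fun a j => rfl
  -- a presentation
  let P := MvPolynomial S R
  let π : P →ₐ[R] S := aeval (id : S → S)
  have hπ : Function.Surjective π := fun s => ⟨X s, aeval_X _ s⟩
  choose lft hlft using fun s : S => Ideal.Quotient.mk_surjective (ψ s)
  let g : P →ₐ[R] A := aeval lft
  have hgψ : ∀ p, Ideal.Quotient.mk J (g p) = ψ (π p) := fun p => AlgHom.congr_fun
    (show (Ideal.Quotient.mkₐ R J).comp g = ψ.comp π from MvPolynomial.algHom_ext fun s => by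
      show Ideal.Quotient.mk J (g (X s)) = ψ (π (X s))
      rw [aeval_X, aeval_X]
      exact hlft s) p
  let I := RingHom.ker π
  have hgI : ∀ p ∈ I, g p ∈ J := fun p hp => Ideal.Quotient.eq_zero_iff_mem.1 (by
    rw [hgψ, show π p = 0 from hp, map_zero])
  let dfun : P → S →₀ F := fun p => Finsupp.onFinset p.vars (fun s => residue A (g (pderiv s p))) fun s hs => by
    by_contra hmem
    exact hs (by rw [pderiv_eq_zero_of_notMem_vars hmem, map_zero, map_zero])
  have hd : ∀ p s, dfun p s = residue A (g (pderiv s p)) := fun p s => rfl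
  -- the subspace of linear terms
  have hd_add : ∀ p q, dfun (p + q) = dfun p + dfun q := fun p q => Finsupp.ext fun s => by
    simp only [hd, Finsupp.add_apply, map_add]
  have hd_mul : ∀ (q : P) (p : P), p ∈ I → dfun (q * p) = residue A (g q) • dfun p := fun q p hp => Finsupp.ext fun s => by
    rw [Finsupp.smul_apply, smul_eq_mul, hd, hd, Derivation.leibniz, smul_eq_mul, smul_eq_mul, map_add, map_mul,
      map_mul, map_add, map_mul, map_mul]
    have h0 : residue A (g p) = 0 := by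
      rw [residue_eq_zero_iff, hmax, Ideal.mem_comap, Ideal.Quotient.eq_zero_iff_mem.2 (hgI p hp)]
      exact zero_mem _
    rw [h0, zero_mul, add_zero]
  -- the kernel of the linear terms is killed
  have hkill : ∀ p ∈ I, dfun p = 0 → g p = 0 := by
    intro p hp hdp
    by_contra hne
    let e : J := ⟨g p, hgI p hp⟩
    obtain ⟨lam, hlam⟩ : ∃ lam : J →ₗ[F] F, lam e ≠ 0 := by
      by_contra! hall
      exact hne (congrArg Subtype.val ((Module.forall_dual_apply_eq_zero_iff F e).1 hall))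
    let K : Ideal A := ((LinearMap.ker lam).restrictScalars A).map J.subtype
    have hKJ : K ≤ J := Submodule.map_subtype_le J _
    have heK : g p ∉ K := by
      rintro ⟨j, hj, hje⟩
      rw [show j = e from Subtype.ext hje] at hj
      exact hlam hj
    let A' := A ⧸ K
    let mkK : A →ₐ[R] A' := Ideal.Quotient.mkₐ R K
    have hmkK : Function.Surjective mkK := Ideal.Quotient.mk_surjective
    haveI : Nontrivial A' := Ideal.Quotient.nontrivial_iff.mpr fun h => heK (h ▸ trivial)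
    haveI : IsLocalRing A' := IsLocalRing.of_surjective' mkK.toRingHom hmkK
    let J' : Ideal A' := J.map mkK.toRingHom
    have hJ'2 : J' ^ 2 = ⊥ := by rw [← Ideal.map_pow, hJ2, Ideal.map_bot]
    let δ : A' →ₐ[R] A ⧸ J := Ideal.Quotient.factorₐ R hKJ
    have hδ : ∀ z, δ z = 0 ↔ z ∈ J' := fun z => by
      obtain ⟨a, rfl⟩ := Ideal.Quotient.mk_surjective z
      show Ideal.Quotient.mk J a = 0 ↔ _
      rw [Ideal.Quotient.eq_zero_iff_mem]
      refine ⟨fun ha => Ideal.mem_map_of_mem _ ha, fun ha => ?_⟩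
      obtain ⟨b, hb, hba⟩ := (Ideal.mem_map_iff_of_surjective mkK.toRingHom hmkK).1 ha
      have h1 := hKJ (Ideal.Quotient.eq.1 hba)
      simpa using sub_mem hb h1
    have hδs : Function.Surjective δ := fun z => by
      obtain ⟨a, rfl⟩ := Ideal.Quotient.mk_surjective z
      exact ⟨mkK a, rfl⟩
    let eJ : (A' ⧸ J') ≃ₐ[R] A ⧸ J := (Ideal.quotientEquivAlgOfEq R (show J' = RingHom.ker δ from
      Ideal.ext fun z => (hδ z).symm)).trans (Ideal.quotientKerAlgEquivOfSurjective hδs)
    have hlen : Module.length A' J' = 1 := by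
      rw [Module.length_eq_one_iff]
      let ej : J →ₗ[A] J' :=
        { toFun := fun j => ⟨mkK j.1, Ideal.mem_map_of_mem _ j.2⟩
          map_add' := fun i j => Subtype.ext (map_add mkK i.1 j.1)
          map_smul' := fun a j => Subtype.ext (show mkK (a * j.1) = a • mkK j.1 by rw [map_mul, Algebra.smul_def]; rfl) }
      haveI : Nontrivial J' := ⟨⟨ej e, 0, fun h => heK (Ideal.Quotient.eq_zero_iff_mem.1 (congrArg Subtype.val h))⟩⟩
      refine isSimpleModule_iff_toSpanSingleton_surjective.2 ⟨inferInstance, fun z hz w => ?_⟩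
      obtain ⟨a, ha, haz⟩ := (Ideal.mem_map_iff_of_surjective mkK.toRingHom hmkK).1 z.2
      obtain ⟨b, hb, hbw⟩ := (Ideal.mem_map_iff_of_surjective mkK.toRingHom hmkK).1 w.2
      have hla : lam ⟨a, ha⟩ ≠ 0 := fun h => hz (Subtype.ext (haz.symm.trans
        (Ideal.Quotient.eq_zero_iff_mem.2 ⟨⟨a, ha⟩, h, rfl⟩)))
      obtain ⟨c, hc⟩ := IsLocalRing.residue_surjective (lam ⟨b, hb⟩ / lam ⟨a, ha⟩)
      refine ⟨mkK c, Subtype.ext ?_⟩
      show mkK c * z.1 = w.1
      rw [← haz, ← hbw]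
      show mkK c * mkK a = mkK b
      rw [← map_mul]
      refine Ideal.Quotient.eq.2 ⟨c • ⟨a, ha⟩ - ⟨b, hb⟩, ?_, rfl⟩
      show lam (c • ⟨a, ha⟩ - ⟨b, hb⟩) = 0
      rw [map_sub, ← hsmul, map_smul, hc, smul_eq_mul, div_mul_cancel₀ _ hla, sub_self]
    haveI : IsArtinianRing A' := by
      haveI : IsArtinianRing (A ⧸ J) := by
        haveI : IsArtinianRing (S ⧸ maximalIdeal S ^ k) := by
          rcases Nat.eq_zero_or_pos k with rfl | hkpos
          · exact absurd (hk 1 (by rw [pow_zero, Ideal.one_eq_top]; trivial)) (by rw [map_one]; exact one_ne_zero)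
          · haveI : (maximalIdeal S ^ k).IsTwoSided := inferInstance
            haveI : Nontrivial (S ⧸ maximalIdeal S ^ k) :=
              Ideal.Quotient.nontrivial_iff.mpr fun h => (maximalIdeal.isMaximal S).ne_top
                (top_le_iff.1 (h.ge.trans (Ideal.pow_le_self hkpos.ne')))
            haveI : IsLocalRing (S ⧸ maximalIdeal S ^ k) :=
              IsLocalRing.of_surjective' (Ideal.Quotient.mk _) Ideal.Quotient.mk_surjective
            refine (isArtinianRing_iff_isNilpotent_maximalIdeal _).2 ⟨k, ?_⟩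
            rw [← IsLocalRing.map_maximalIdeal_of_surjective (Ideal.Quotient.mk _) Ideal.Quotient.mk_surjective,
              ← Ideal.map_pow, Ideal.map_quotient_self]
            rfl
        exact Function.Surjective.isArtinianRing (f := Ideal.Quotient.lift (maximalIdeal S ^ k) ψ.toRingHom hk)
          (Ideal.Quotient.lift_surjective_of_surjective _ _ hψ)
      haveI : IsArtinian A' (A' ⧸ J') := by
        haveI : IsArtinianRing (A' ⧸ J') := Function.Surjective.isArtinianRing (f := eJ.symm.toAlgHom.toRingHom) eJ.symm.surjective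
        exact isArtinian_of_surjective_algebraMap (R := A' ⧸ J') (S := A') Ideal.Quotient.mk_surjective
      haveI : IsArtinian A' J' := by
        haveI : IsSimpleModule A' J' := Module.length_eq_one_iff.1 hlen
        infer_instance
      exact isArtinian_of_range_eq_ker J'.subtype J'.mkQ (by rw [Submodule.range_subtype, Submodule.ker_mkQ])
    haveI : Nontrivial (A' ⧸ J') := eJ.toEquiv.nontrivial
    haveI : IsLocalRing (A' ⧸ J') := IsLocalRing.of_surjective' (Ideal.Quotient.mk J') Ideal.Quotient.mk_surjective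
    let ψ' : S →ₐ[R] A' ⧸ J' := eJ.symm.toAlgHom.comp ψ
    have hψ's : Function.Surjective ψ' := eJ.symm.surjective.comp hψ
    haveI : IsLocalHom ψ'.toRingHom := IsLocalHom.of_surjective ψ'.toRingHom hψ's
    haveI : IsLocalHom (algebraMap R A') := by
      haveI : IsLocalHom ((Ideal.Quotient.mk J').comp (algebraMap R A')) := by
        rw [show (Ideal.Quotient.mk J').comp (algebraMap R A') = ψ'.toRingHom.comp (algebraMap R S) from
          RingHom.ext fun r => (ψ'.commutes r).symm]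
        infer_instance
      exact isLocalHom_of_comp (algebraMap R A') (Ideal.Quotient.mk J')
    obtain ⟨χ, hχ⟩ := hS A' J' hJ'2 hlen ψ' ⟨RingHom.injective _, fun z => by
      obtain ⟨z, rfl⟩ := IsLocalRing.residue_surjective z
      obtain ⟨s, rfl⟩ := hψ's z
      exact ⟨residue S s, rfl⟩⟩
    let g₁ : P →ₐ[R] A' := mkK.comp g
    let g₂ : P →ₐ[R] A' := χ.comp π
    have hdiff : ∀ s, g₂ (X s) - g₁ (X s) ∈ J' := fun s => (hδ _).1 (by
      rw [map_sub, sub_eq_zero]
      show δ (χ (π (X s))) = Ideal.Quotient.mk J (g (X s))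
      rw [aeval_X, aeval_X, hlft]
      have h2 := congrArg eJ (AlgHom.congr_fun hχ s)
      rw [show eJ (ψ' s) = ψ s from eJ.apply_symm_apply _] at h2
      exact h2)
    have ht := (taylor_one J' hJ'2 g₁ g₂ hdiff p).2 p.vars le_rfl
    have hzero : ∀ s ∈ p.vars, g₁ (pderiv s p) * (g₂ (X s) - g₁ (X s)) = 0 := fun s _ => by
      obtain ⟨b, hb, hbe⟩ := (Ideal.mem_map_iff_of_surjective mkK.toRingHom hmkK).1 (hdiff s)
      rw [← hbe]
      show mkK (g (pderiv s p)) * mkK b = 0
      rw [← map_mul, hM _ ?_ b hb, map_zero]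
      rw [← residue_eq_zero_iff, ← hd, hdp, Finsupp.zero_apply]
    rw [Finset.sum_eq_zero hzero, add_zero] at ht
    refine heK (Ideal.Quotient.eq_zero_iff_mem.1 ?_)
    show g₁ p = 0
    rw [← ht]
    show χ (π p) = 0
    rw [show π p = 0 from hp, map_zero]
  -- extend to all linear terms
  let W : Submodule F (S →₀ F) :=
    { carrier := {w | ∃ p ∈ I, dfun p = w}
      add_mem' := fun {a b} ⟨p, hp, hpa⟩ ⟨q, hq, hqb⟩ => ⟨p + q, add_mem hp hq, by rw [hd_add, hpa, hqb]⟩
      zero_mem' := ⟨0, zero_mem _, Finsupp.ext fun s => by simp [hd]⟩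
      smul_mem' := fun c w ⟨p, hp, hpw⟩ => by
        obtain ⟨a, rfl⟩ := IsLocalRing.residue_surjective c
        obtain ⟨s, hs⟩ := hψ (Ideal.Quotient.mk J a)
        obtain ⟨q, rfl⟩ := hπ s
        refine ⟨q * p, Ideal.mul_mem_left _ _ hp, ?_⟩
        rw [hd_mul q p hp, hpw]
        congr 1
        refine Ideal.Quotient.eq.2 ?_
        rw [hmax, Ideal.mem_comap, map_sub, hgψ, hs, sub_self]
        exact zero_mem _ }
  choose pw hpwI hpw using fun w : W => w.2
  have hwd : ∀ p q, p ∈ I → q ∈ I → dfun p = dfun q → g p = g q := fun p q hp hq h => by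
    have h1 : dfun (p - q) + dfun q = 0 + dfun q := by rw [← hd_add, sub_add_cancel, zero_add, h]
    have h2 := hkill (p - q) (sub_mem hp hq) (add_right_cancel h1)
    rwa [map_sub, sub_eq_zero] at h2
  let θ : W →ₗ[F] J :=
    { toFun := fun w => -⟨g (pw w), hgI _ (hpwI w)⟩
      map_add' := fun v w => Subtype.ext <| by
        show -g (pw (v + w)) = -g (pw v) + -g (pw w)
        rw [← neg_add, ← map_add, hwd _ (pw v + pw w) (hpwI _) (add_mem (hpwI v) (hpwI w))
          (by rw [hd_add, hpw, hpw, hpw]; rfl)]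
      map_smul' := fun c w => by
        obtain ⟨a, rfl⟩ := IsLocalRing.residue_surjective c
        obtain ⟨s, hs⟩ := hψ (Ideal.Quotient.mk J a)
        obtain ⟨q, rfl⟩ := hπ s
        have hqa : g q - a ∈ maximalIdeal A := by
          rw [hmax, Ideal.mem_comap, map_sub, hgψ, hs, sub_self]; exact zero_mem _
        rw [RingHom.id_apply, hsmul]
        refine Subtype.ext ?_
        show -g (pw (residue A a • w)) = a * -g (pw w)
        rw [hwd _ (q * pw w) (hpwI _) (Ideal.mul_mem_left _ _ (hpwI w))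
          (by rw [hd_mul q _ (hpwI w), hpw, hpw, show residue A (g q) = residue A a from Ideal.Quotient.eq.2 hqa]; rfl),
          map_mul]
        have h1 := hM _ hqa _ (hgI _ (hpwI w))
        linear_combination (-1 : A) * h1 }
  obtain ⟨Θ, hΘ⟩ := LinearMap.exists_extend θ
  let g' : P →ₐ[R] A := aeval fun s => lft s + (Θ (Finsupp.single s 1) : A)
  have hg'J : ∀ s, g' (X s) - g (X s) ∈ J := fun s => by
    rw [aeval_X, aeval_X, add_sub_cancel_left]; exact SetLike.coe_mem _
  have hg'I : ∀ p ∈ I, g' p = 0 := by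
    intro p hp
    let w : W := ⟨dfun p, p, hp, rfl⟩
    rw [(taylor_one J hJ2 g g' hg'J p).2 p.vars le_rfl]
    have h1 : ∑ s ∈ p.vars, g (pderiv s p) * (g' (X s) - g (X s)) = ((Θ (dfun p) : J) : A) := by
      have h2 : dfun p = ∑ s ∈ p.vars, dfun p s • Finsupp.single s (1 : F) := by
        refine Finsupp.ext fun t => ?_
        simp only [Finsupp.finsetSum_apply, Finsupp.smul_apply, Finsupp.single_apply, smul_eq_mul, mul_ite, mul_one,
          mul_zero, Finset.sum_ite_eq']
        split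
        · rfl
        · rename_i hnot
          rw [hd, pderiv_eq_zero_of_notMem_vars hnot, map_zero, map_zero]
      conv_rhs => rw [h2, map_sum, Submodule.coe_sum]
      refine Finset.sum_congr rfl fun s _ => ?_
      rw [map_smul, aeval_X, aeval_X, add_sub_cancel_left, hd, hsmul]
      rfl
    rw [h1]
    have h3 : Θ (dfun p) = θ w := LinearMap.congr_fun hΘ w
    rw [h3, show ((θ w : J) : A) = -g (pw w) from rfl, hwd _ p (hpwI w) hp (hpw w), add_neg_cancel]
  let eπ := Ideal.quotientKerAlgEquivOfSurjective hπ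
  refine ⟨(Ideal.Quotient.liftₐ (RingHom.ker π) g' hg'I).comp eπ.symm.toAlgHom, AlgHom.ext fun s => ?_⟩
  obtain ⟨p, rfl⟩ := hπ s
  show Ideal.Quotient.mk J (Ideal.Quotient.liftₐ (RingHom.ker π) g' hg'I (eπ.symm (π p))) = ψ (π p)
  rw [show eπ.symm (π p) = Ideal.Quotient.mk _ p from eπ.symm_apply_eq.2 rfl, Ideal.Quotient.liftₐ_apply,
    Ideal.Quotient.lift_mk, ← hgψ]
  exact Ideal.Quotient.eq.2 (taylor_one J hJ2 g g' hg'J p).1

/-- Lifting when the maximal ideal kills the kernel. -/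
theorem lift_of_killed (hS : SmallLift R S) (A : Type u) [CommRing A] [Algebra R A] (J : Ideal A) (hJ2 : J ^ 2 = ⊥)
    (ψ : S →ₐ[R] A ⧸ J) (k : ℕ) (hk : ∀ x ∈ maximalIdeal S ^ k, ψ x = 0)
    (hJ : ∀ a : A, (∃ x ∈ maximalIdeal S, ψ x = Ideal.Quotient.mk J a) → ∀ j ∈ J, a * j = 0) :
    ∃ χ : S →ₐ[R] A, (Ideal.Quotient.mkₐ R J).comp χ = ψ := by
  rcases subsingleton_or_nontrivial A with hA | hA
  · haveI : Subsingleton (A ⧸ J) := Ideal.Quotient.mk_surjective.subsingleton
    exact ⟨{ toFun := fun _ => 0, map_one' := Subsingleton.elim _ _, map_mul' := fun _ _ => Subsingleton.elim _ _,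
             map_zero' := rfl, map_add' := fun _ _ => Subsingleton.elim _ _, commutes' := fun _ => Subsingleton.elim _ _ },
      AlgHom.ext fun _ => Subsingleton.elim _ _⟩
  let B : Subalgebra R A := ψ.range.comap (Ideal.Quotient.mkₐ R J)
  let J₀ : Ideal B := J.comap B.val
  haveI : Nontrivial B := B.val.toRingHom.domain_nontrivial
  have hJ02 : J₀ ^ 2 = ⊥ := le_bot_iff.1 <| by
    rw [pow_two, Ideal.mul_le]
    intro a ha b hb
    have h1 : a.1 * b.1 ∈ J ^ 2 := by rw [pow_two]; exact Ideal.mul_mem_mul ha hb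
    rw [hJ2, Submodule.mem_bot] at h1
    exact Submodule.mem_bot B |>.2 (Subtype.ext h1)
  let ι : B ⧸ J₀ →ₐ[R] A ⧸ J := Ideal.quotientMapₐ J B.val le_rfl
  have hι : Function.Injective ι := Ideal.quotientMap_injective' (H := le_rfl) (le_rfl : J.comap B.val.toRingHom ≤ J₀)
  have hrange : ∀ s, ∃ z, ι z = ψ s := fun s => by
    obtain ⟨a, ha⟩ := Ideal.Quotient.mk_surjective (ψ s)
    exact ⟨Ideal.Quotient.mk J₀ ⟨a, ⟨s, ha.symm⟩⟩, ha⟩
  choose z hz using hrange
  let ψ₀ : S →ₐ[R] B ⧸ J₀ :=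
    { toFun := z
      map_one' := hι (by rw [hz, map_one, map_one])
      map_mul' := fun a b => hι (by rw [hz, map_mul, map_mul, hz, hz])
      map_zero' := hι (by rw [hz, map_zero, map_zero])
      map_add' := fun a b => hι (by rw [hz, map_add, map_add, hz, hz])
      commutes' := fun r => hι (by rw [hz, AlgHom.commutes, AlgHom.commutes]) }
  have hψ₀ : Function.Surjective ψ₀ := fun w => by
    obtain ⟨⟨a, s, hs⟩, rfl⟩ := Ideal.Quotient.mk_surjective w
    exact ⟨s, hι ((hz s).trans hs)⟩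
  obtain ⟨χ, hχ⟩ := lift_of_surjective hS B J₀ hJ02 ψ₀ hψ₀ k
    (fun x hx => hι ((hz x).trans ((hk x hx).trans (map_zero ι).symm)))
    fun a ⟨x, hx, hxa⟩ j hj => Subtype.ext (hJ a ⟨x, hx, (hz x).symm.trans (congrArg ι hxa)⟩ j hj)
  refine ⟨B.val.comp χ, AlgHom.ext fun s => ?_⟩
  exact (congrArg ι (AlgHom.congr_fun hχ s)).trans (hz s)

/-- Lifting in general. -/
theorem isAdicFormallySmooth_of_smallLift (hS : SmallLift R S) :
    CAlgX.IsAdicFormallySmooth R S (maximalIdeal S) := by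
  intro A _ _ J hJ2 ψ ⟨k, hk⟩
  suffices H : ∀ (n : ℕ) (A : Type u) [CommRing A] [Algebra R A] (J : Ideal A), J ^ 2 = ⊥ →
      ∀ ψ : S →ₐ[R] A ⧸ J, (∀ x ∈ maximalIdeal S ^ k, ψ x = 0) →
      (((maximalIdeal S).map ψ.toRingHom).comap (Ideal.Quotient.mk J)) ^ n * J = ⊥ →
      ∃ χ : S →ₐ[R] A, (Ideal.Quotient.mkₐ R J).comp χ = ψ by
    let M := ((maximalIdeal S).map ψ.toRingHom).comap (Ideal.Quotient.mk J)
    refine H (2 * k) A J hJ2 ψ hk (le_bot_iff.1 ?_)
    have h1 : M ^ k ≤ J := by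
      rw [← Ideal.mk_ker (I := J), RingHom.ker_eq_comap_bot, ← Ideal.map_le_iff_le_comap, Ideal.map_pow]
      refine (Ideal.pow_right_mono Ideal.map_comap_le k).trans ?_
      rw [← Ideal.map_pow, Ideal.map_le_iff_le_comap]
      intro x hx
      exact hk x hx
    refine Ideal.mul_le_left.trans ?_
    rw [pow_mul', ← hJ2]
    exact Ideal.pow_right_mono h1 2
  intro n
  induction n with
  | zero =>
    intro A _ _ J hJ2 ψ hk h
    rw [pow_zero, Ideal.one_eq_top, Ideal.top_mul] at h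
    subst h
    exact ⟨(AlgEquiv.quotientBot R A).toAlgHom.comp ψ, AlgHom.ext fun s => (AlgEquiv.quotientBot R A).symm_apply_apply _⟩
  | succ n IH =>
    intro A _ _ J hJ2 ψ hk h
    let M := ((maximalIdeal S).map ψ.toRingHom).comap (Ideal.Quotient.mk J)
    let J₂ := M ^ n * J
    have hJ₂J : J₂ ≤ J := Ideal.mul_le_right
    let A₁ := A ⧸ J₂
    let J₁ : Ideal A₁ := J.map (Ideal.Quotient.mk J₂)
    have hJ₁2 : J₁ ^ 2 = ⊥ := by rw [← Ideal.map_pow, hJ2, Ideal.map_bot]
    let e : (A₁ ⧸ J₁) ≃ₐ[R] (A ⧸ J) := DoubleQuot.quotQuotEquivQuotOfLEₐ R hJ₂J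
    let ψ₁ : S →ₐ[R] A₁ ⧸ J₁ := e.symm.toAlgHom.comp ψ
    have hk₁ : ∀ x ∈ maximalIdeal S ^ k, ψ₁ x = 0 := fun x hx => by
      show e.symm (ψ x) = 0
      rw [hk x hx, map_zero]
    have hM₁ : ((maximalIdeal S).map ψ₁.toRingHom).comap (Ideal.Quotient.mk J₁) = M.map (Ideal.Quotient.mk J₂) := by
      have h1 : (maximalIdeal S).map ψ.toRingHom = ((maximalIdeal S).map ψ₁.toRingHom).map e.toAlgHom.toRingHom := by
        rw [Ideal.map_map]
        congr 1
        exact RingHom.ext fun s => (e.apply_symm_apply (ψ s)).symm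
      have h2 : M = (((maximalIdeal S).map ψ₁.toRingHom).comap (Ideal.Quotient.mk J₁)).comap (Ideal.Quotient.mk J₂) := by
        show Ideal.comap _ _ = _
        rw [h1, Ideal.comap_comap]
        ext a
        rw [Ideal.mem_comap, Ideal.mem_comap]
        show e (Ideal.Quotient.mk J₁ (Ideal.Quotient.mk J₂ a)) ∈ Ideal.map _ _ ↔ _
        exact Ideal.apply_mem_of_equiv_iff (f := e.toRingEquiv)
      rw [h2, Ideal.map_comap_of_surjective _ Ideal.Quotient.mk_surjective]
    obtain ⟨χ₁, hχ₁⟩ := IH A₁ J₁ hJ₁2 ψ₁ hk₁ (by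
      rw [hM₁, ← Ideal.map_pow, ← Ideal.map_mul, Ideal.map_quotient_self])
    have hχM : ∀ x ∈ maximalIdeal S, χ₁ x ∈ M.map (Ideal.Quotient.mk J₂) := fun x hx => by
      rw [← hM₁, Ideal.mem_comap]
      exact (AlgHom.congr_fun hχ₁ x).symm ▸ Ideal.mem_map_of_mem ψ₁.toRingHom hx
    have hMJ : J ≤ M := fun a ha => by
      rw [Ideal.mem_comap, Ideal.Quotient.eq_zero_iff_mem.2 ha]; exact zero_mem _
    have hJ₂2 : J₂ ^ 2 = ⊥ := le_bot_iff.1 ((Ideal.pow_right_mono hJ₂J 2).trans hJ2.le)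
    have hχk : ∀ x ∈ maximalIdeal S ^ (2 * k), χ₁ x = 0 := fun x hx => by
      have h1 : (maximalIdeal S ^ k).map χ₁.toRingHom ≤ J₁ := Ideal.map_le_iff_le_comap.2 fun y hy =>
        (Ideal.Quotient.eq_zero_iff_mem (I := J₁)).1 ((AlgHom.congr_fun hχ₁ y).trans (hk₁ y hy) :)
      have h2 : (maximalIdeal S ^ (2 * k)).map χ₁.toRingHom ≤ ⊥ := by
        rw [pow_mul', Ideal.map_pow, ← hJ₁2]
        exact Ideal.pow_right_mono h1 2
      exact h2 (Ideal.mem_map_of_mem _ hx)
    obtain ⟨χ, hχ⟩ := lift_of_killed hS A J₂ hJ₂2 χ₁ (2 * k) hχk fun a ⟨x, hx, hxa⟩ j hj => by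
      have h1 : a ∈ M := by
        obtain ⟨b, hb, hba⟩ := (Ideal.mem_map_iff_of_surjective _ Ideal.Quotient.mk_surjective).1 (hxa ▸ hχM x hx)
        have h2 := hMJ (hJ₂J (Ideal.Quotient.eq.1 hba))
        simpa using sub_mem hb h2
      have h3 : a * j ∈ M ^ (n + 1) * J := by
        rw [pow_succ', mul_assoc]
        exact Ideal.mul_mem_mul h1 hj
      rwa [h, Submodule.mem_bot] at h3
    refine ⟨χ, AlgHom.ext fun s => ?_⟩
    have h1 := congrArg (fun z => e (Ideal.Quotient.mk J₁ z)) (AlgHom.congr_fun hχ s)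
    exact h1.trans ((congrArg e (AlgHom.congr_fun hχ₁ s)).trans (e.apply_symm_apply _))

end step

end Groth.Agent.GRingCpl
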